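import Groth.Agent.GIT.K687.Ind
import Groth.Agent.GLin.K765.Rey
import Groth.Prelude.Def_ComodTens

/-!
# The restriction `X ×^G H → X` of functions is onto for `G` linearly reductive
-/

set_option autoImplicit false
set_option linter.unusedSectionVars false

universe u v w

open TensorProduct

namespace K687

section Tens

variable {k : Type u} [Field k] {A : Type v} [CommRing A] [HopfAlgebra k A] {B : Type v} [CommRing B]
  [HopfAlgebra k B] (π : B →ₐc[k] A) {R : Type v} [CommRing R] [Algebra k R] [HopfRep.Comod k A R]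
  [GLin.IsCoactAlg k A R] {C : Type w} [CommRing C] [Algebra k C]

variable (R) in
/-- The diagonal action of `G` on `X × H`. -/
@[reducible] noncomputable def tensComod : HopfRep.Comod k A (R ⊗[k] B) :=
  ComodTens.Comod.tensor inferInstance (GLin.comodAlong π (HopfRep.Comod.regular k B))

theorem ev_tens_aux (p : R →ₐ[k] C) (b : Pt k B C) (g : Pt k A C) (u : R ⊗[k] A) (w : B ⊗[k] B) :
    ev2 (ev2 p b) g (TensorProduct.map LinearMap.id (LinearMap.mul' k A)
        (AlgebraTensorModule.tensorTensorTensorComm k k k k R A B A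
          (u ⊗ₜ[k] (TensorProduct.map LinearMap.id (π : B →ₗ[k] A) w)))) =
      Algebra.TensorProduct.lift p g.hom (fun _ _ => Commute.all _ _) u *
        Algebra.TensorProduct.lift b.hom (pull π g).hom (fun _ _ => Commute.all _ _) w := by
  induction u using TensorProduct.induction_on with
  | zero => simp
  | add u1 u2 h1 h2 => rw [TensorProduct.add_tmul, map_add, map_add, map_add, h1, h2, map_add, add_mul]
  | tmul r a =>
    induction w using TensorProduct.induction_on with
    | zero => simp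
    | add w1 w2 h1 h2 => rw [map_add, TensorProduct.tmul_add, map_add, map_add, map_add, h1, h2, map_add, mul_add]
    | tmul x y =>
      rw [TensorProduct.map_tmul, AlgebraTensorModule.tensorTensorTensorComm_tmul, TensorProduct.map_tmul,
        Algebra.TensorProduct.lift_tmul, Algebra.TensorProduct.lift_tmul]
      change ev2 (ev2 p b) g ((r ⊗ₜ[k] x) ⊗ₜ[k] (a * π y)) = _
      rw [ev2_tmul, ev2_tmul, map_mul, pull_apply]
      ring

theorem ev_tens (p : R →ₐ[k] C) (b : Pt k B C) (g : Pt k A C) (z : R ⊗[k] B) :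
    ev2 (ev2 p b) g ((tensComod π R).coact z) = ev2 (mv p g) (b * pull π g) z := by
  induction z using TensorProduct.induction_on with
  | zero => rw [map_zero, map_zero, map_zero]
  | add z1 z2 h1 h2 => rw [map_add, map_add, h1, h2, map_add]
  | tmul r x => exact ev_tens_aux π p b g _ _

omit [HopfRep.Comod k A R] [GLin.IsCoactAlg k A R] in
/-- Equality in `(R ⊗ B) ⊗ A` can be tested on points. -/
theorem eq_of_ev {z1 z2 : (R ⊗[k] B) ⊗[k] A}
    (h : ∀ (p : R →ₐ[k] (R ⊗[k] B) ⊗[k] A) (b : Pt k B ((R ⊗[k] B) ⊗[k] A)) (g : Pt k A ((R ⊗[k] B) ⊗[k] A)),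
      ev2 (ev2 p b) g z1 = ev2 (ev2 p b) g z2) : z1 = z2 := by
  let E : ((R ⊗[k] B) ⊗[k] A) →ₐ[k] ((R ⊗[k] B) ⊗[k] A) := AlgHom.id k _
  have h1 := eq_ev2 E
  have h2 := eq_ev2 (E.comp Algebra.TensorProduct.includeLeft)
  rw [h2] at h1
  have h3 := h ((E.comp Algebra.TensorProduct.includeLeft).comp Algebra.TensorProduct.includeLeft)
    (Pt.mk ((E.comp Algebra.TensorProduct.includeLeft).comp Algebra.TensorProduct.includeRight))
    (Pt.mk (E.comp Algebra.TensorProduct.includeRight))
  rw [← h1] at h3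
  exact h3

theorem isCoactAlg_tensComod : @GLin.IsCoactAlg k _ A _ _ (R ⊗[k] B) _ _ (tensComod π R) := by
  refine @GLin.IsCoactAlg.mk k _ A _ _ (R ⊗[k] B) _ _ (tensComod π R) ?_ ?_
  · apply eq_of_ev
    intro p b g
    rw [ev_tens, map_one, map_one]
  · intro z1 z2
    apply eq_of_ev
    intro p b g
    rw [ev_tens, map_mul, map_mul, ev_tens, ev_tens]

/-- Naturality of the diagonal action in `H`. -/
theorem isComodHom_lTensor {B' : Type v} [CommRing B'] [HopfAlgebra k B'] (θ : B →ₐc[k] B') (π' : B' →ₐc[k] A)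
    (hθ : ∀ x, π' (θ x) = π x) (z : R ⊗[k] B) :
    (tensComod π' R).coact (Algebra.TensorProduct.map (AlgHom.id k R) (θ : B →ₐ[k] B') z) =
      Algebra.TensorProduct.map (Algebra.TensorProduct.map (AlgHom.id k R) (θ : B →ₐ[k] B')) (AlgHom.id k A)
        ((tensComod π R).coact z) := by
  have hev : ∀ {D : Type v} [CommRing D] [Algebra k D] (p : R →ₐ[k] D) (b : Pt k B' D),
      (ev2 p b).comp (Algebra.TensorProduct.map (AlgHom.id k R) (θ : B →ₐ[k] B')) = ev2 p (pull θ b) := by
    intro D _ _ p b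
    apply Algebra.TensorProduct.ext'
    intro r x
    rw [AlgHom.comp_apply, Algebra.TensorProduct.map_tmul, ev2_tmul, ev2_tmul]
    rfl
  apply eq_of_ev
  intro p b g
  rw [ev_tens]
  have h1 := DFunLike.congr_fun (hev (mv p g) (b * pull π' g)) z
  rw [AlgHom.comp_apply] at h1
  rw [h1, map_mul]
  have h2 := DFunLike.congr_fun (ev2_comp_map (ev2 p b) g
    (Algebra.TensorProduct.map (AlgHom.id k R) (θ : B →ₐ[k] B'))) ((tensComod π R).coact z)
  rw [AlgHom.comp_apply, hev] at h2
  rw [h2, ev_tens]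
  have h3 : pull θ (pull π' g) = pull π g := by
    apply Pt.ext
    intro x
    change g.hom (π' (θ x)) = g.hom (π x)
    rw [hθ]
  rw [h3]

/-- The ideal of `Z × H` is stable. -/
theorem coact_mem_map_includeLeft (I : Ideal R) (hI : IsStable (k := k) A I) (z : R ⊗[k] B)
    (hz : z ∈ I.map (Algebra.TensorProduct.includeLeft : R →ₐ[k] R ⊗[k] B)) :
    (tensComod π R).coact z ∈ (I.map (Algebra.TensorProduct.includeLeft : R →ₐ[k] R ⊗[k] B)).map
      (Algebra.TensorProduct.includeLeft : R ⊗[k] B →ₐ[k] (R ⊗[k] B) ⊗[k] A) := by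
  letI := tensComod π R
  haveI : GLin.IsCoactAlg k A (R ⊗[k] B) := isCoactAlg_tensComod π
  let K : Ideal ((R ⊗[k] B) ⊗[k] A) := (I.map (Algebra.TensorProduct.includeLeft : R →ₐ[k] R ⊗[k] B)).map
      (Algebra.TensorProduct.includeLeft : R ⊗[k] B →ₐ[k] (R ⊗[k] B) ⊗[k] A)
  let j : R ⊗[k] A →ₐ[k] (R ⊗[k] B) ⊗[k] A :=
    Algebra.TensorProduct.map (Algebra.TensorProduct.includeLeft : R →ₐ[k] R ⊗[k] B) (AlgHom.id k A)
  have hj : I.map (Algebra.TensorProduct.includeLeft : R →ₐ[k] R ⊗[k] A) ≤ K.comap j := by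
    rw [Ideal.map_le_iff_le_comap]
    intro i hi
    rw [Ideal.mem_comap, Ideal.mem_comap]
    change (Algebra.TensorProduct.includeLeft : R ⊗[k] B →ₐ[k] (R ⊗[k] B) ⊗[k] A)
      ((Algebra.TensorProduct.includeLeft : R →ₐ[k] R ⊗[k] B) i) ∈ K
    exact Ideal.mem_map_of_mem _ (Ideal.mem_map_of_mem _ hi)
  have h1 : I.map (Algebra.TensorProduct.includeLeft : R →ₐ[k] R ⊗[k] B) ≤
      K.comap (GLin.coactAlgHom k A (R ⊗[k] B)) := by
    rw [Ideal.map_le_iff_le_comap]
    intro i hi
    rw [Ideal.mem_comap, Ideal.mem_comap]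
    have h2 : (tensComod π R).coact (i ⊗ₜ[k] (1 : B)) = j (HopfRep.Comod.coact (k := k) (A := A) i) := by
      apply eq_of_ev
      intro p b g
      rw [ev_tens, ev2_tmul, map_one, mul_one]
      have h3 := DFunLike.congr_fun (ev2_comp_map (ev2 p b) g
        (Algebra.TensorProduct.includeLeft : R →ₐ[k] R ⊗[k] B)) (HopfRep.Comod.coact (k := k) (A := A) i)
      rw [AlgHom.comp_apply] at h3
      have h4 : (ev2 p b).comp (Algebra.TensorProduct.includeLeft : R →ₐ[k] R ⊗[k] B) = p := by
        apply AlgHom.ext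
        intro r
        rw [AlgHom.comp_apply, Algebra.TensorProduct.includeLeft_apply, ev2_tmul, map_one, mul_one]
      rw [h4] at h3
      exact h3.symm
    change (tensComod π R).coact (i ⊗ₜ[k] (1 : B)) ∈ K
    rw [h2]
    exact hj (hI i hi)
  exact h1 hz

variable (A) in
/-- The function `(x, g) ↦ f (x g⁻¹)`. -/
noncomputable def nu : R →ₐ[k] R ⊗[k] A :=
  (Algebra.TensorProduct.map (AlgHom.id k R) (HopfAlgebra.antipodeAlgHom k A)).comp (GLin.coactAlgHom k A R)

theorem ev2_antipode (p : R →ₐ[k] C) (b : Pt k B C) (z : R ⊗[k] B) :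
    ev2 p b (Algebra.TensorProduct.map (AlgHom.id k R) (HopfAlgebra.antipodeAlgHom k B) z) = ev2 p b⁻¹ z := by
  have h : (ev2 p b).comp (Algebra.TensorProduct.map (AlgHom.id k R) (HopfAlgebra.antipodeAlgHom k B)) =
      ev2 p b⁻¹ := by
    apply Algebra.TensorProduct.ext'
    intro r x
    rw [AlgHom.comp_apply, Algebra.TensorProduct.map_tmul, ev2_tmul, ev2_tmul]
    rfl
  exact DFunLike.congr_fun h z

theorem ev2_nu (p : R →ₐ[k] C) (a : Pt k A C) (r : R) : ev2 p a (nu A r) = mv p a⁻¹ r := by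
  rw [nu, AlgHom.comp_apply, ev2_antipode]
  rfl

theorem coact_nu (r : R) : (tensComod (BialgHom.id k A) R).coact (nu A r) = nu A r ⊗ₜ[k] (1 : A) := by
  apply eq_of_ev
  intro p a g
  have h1 : pull (BialgHom.id k A) g = g := rfl
  rw [ev_tens, ev2_nu, ev2_tmul, map_one, mul_one, ev2_nu, mv_mul, h1, mul_inv_rev, mul_inv_cancel_left]

end Tens

section Main

open HopfRep

variable {k : Type u} [Field k] {A : Type v} [CommRing A] [HopfAlgebra k A] {B : Type v} [CommRing B]
  [HopfAlgebra k B] (π : B →ₐc[k] A) {R : Type v} [CommRing R] [Algebra k R] [HopfRep.Comod k A R]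
  [GLin.IsCoactAlg k A R]

/-- Functions in a stable ideal extend to invariant functions on `X × H` in the corresponding ideal. -/
theorem exists_indAlg (hG : HopfRep.IsLinearlyReductive k A) (hπ : Function.Surjective π) (I : Ideal R)
    (hI : IsStable (k := k) A I) (r : R) (hr : r ∈ I) :
    ∃ t ∈ indIdeal π I, rhoInd π t = r := by
  letI c1 : HopfRep.Comod k A (R ⊗[k] B) := tensComod π R
  letI c2 : HopfRep.Comod k A (R ⊗[k] A) := tensComod (BialgHom.id k A) R
  haveI : GLin.IsCoactAlg k A (R ⊗[k] B) := isCoactAlg_tensComod π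
  let θ : R ⊗[k] B →ₐ[k] R ⊗[k] A := Algebra.TensorProduct.map (AlgHom.id k R) (π : B →ₐ[k] A)
  have hθs : Function.Surjective θ := by
    have : Function.Surjective (TensorProduct.map (LinearMap.id : R →ₗ[k] R) (π : B →ₗ[k] A)) :=
      TensorProduct.map_surjective Function.surjective_id hπ
    exact this
  -- `ν r` is in the ideal of `Z × G`
  have hνI : nu A r ∈ I.map (Algebra.TensorProduct.includeLeft : R →ₐ[k] R ⊗[k] A) := by
    have h1 : I.map (Algebra.TensorProduct.includeLeft : R →ₐ[k] R ⊗[k] A) ≤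
        (I.map (Algebra.TensorProduct.includeLeft : R →ₐ[k] R ⊗[k] A)).comap
          (Algebra.TensorProduct.map (AlgHom.id k R) (HopfAlgebra.antipodeAlgHom k A)) := by
      rw [Ideal.map_le_iff_le_comap]
      intro i hi
      rw [Ideal.mem_comap, Ideal.mem_comap, Algebra.TensorProduct.includeLeft_apply,
        Algebra.TensorProduct.map_tmul, map_one]
      exact Ideal.mem_map_of_mem (Algebra.TensorProduct.includeLeft : R →ₐ[k] R ⊗[k] A) hi
    exact h1 (hI r hr)
  obtain ⟨t0, ht0, hθt0⟩ : ∃ t0 ∈ I.map (Algebra.TensorProduct.includeLeft : R →ₐ[k] R ⊗[k] B), θ t0 = nu A r := by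
    have h1 : (I.map (Algebra.TensorProduct.includeLeft : R →ₐ[k] R ⊗[k] B)).map θ =
        I.map (Algebra.TensorProduct.includeLeft : R →ₐ[k] R ⊗[k] A) := by
      rw [Ideal.map_mapₐ]
      congr 1
      apply AlgHom.ext
      intro x
      change θ (x ⊗ₜ[k] 1) = x ⊗ₜ[k] 1
      rw [Algebra.TensorProduct.map_tmul, map_one]
      rfl
    rw [← h1] at hνI
    exact (Ideal.mem_map_iff_of_surjective θ hθs).mp hνI
  -- average
  let t1 : R ⊗[k] B := K765.Rey.rey hG (R ⊗[k] B) t0
  have ht1I : t1 ∈ I.map (Algebra.TensorProduct.includeLeft : R →ₐ[k] R ⊗[k] B) := by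
    have h1 : HopfRep.IsSubcomod (k := k) (A := A) ((I.map (Algebra.TensorProduct.includeLeft :
        R →ₐ[k] R ⊗[k] B)).restrictScalars k) := by
      intro z hz
      have h2 := coact_mem_map_includeLeft π I hI z hz
      rw [← Ideal.map_includeLeft_eq]
      exact h2
    exact K765.Rey.rey_mem_of_isSubcomod hG h1 ht0
  have ht1f : c1.coact t1 = t1 ⊗ₜ[k] (1 : A) := K765.Rey.rey_mem hG t0
  have hθt1 : θ t1 = nu A r := by
    have h1 : Groth.Agent.Books.ComodHom.IsComodHom k A θ.toLinearMap := by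
      intro z
      exact isComodHom_lTensor π π (BialgHom.id k A) (fun _ => rfl) z
    have h2 := K765.Rey.map_rey hG h1 t0
    have h3 : K765.Rey.rey hG (R ⊗[k] A) (nu A r) = nu A r :=
      K765.Rey.rey_of_mem hG (coact_nu r)
    change θ t1 = K765.Rey.rey hG (R ⊗[k] A) (θ t0) at h2
    rw [h2, hθt0, h3]
  -- invariance on points
  have hinv : ∀ {C : Type v} [CommRing C] [Algebra k C] (p : R →ₐ[k] C) (b : Pt k B C) (g : Pt k A C),
      ev2 (mv p g) (b * pull π g) t1 = ev2 p b t1 := by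
    intro C _ _ p b g
    have h1 := ev_tens π p b g t1
    rw [← h1]
    have h2 : (tensComod π R).coact t1 = t1 ⊗ₜ[k] (1 : A) := ht1f
    rw [h2, ev2_tmul, map_one, mul_one]
  let t : R ⊗[k] B := Algebra.TensorProduct.map (AlgHom.id k R) (HopfAlgebra.antipodeAlgHom k B) t1
  have ht : t ∈ cot π R := by
    apply mem_cot_of_forall
    intro p g b
    rw [ev2_antipode, ev2_antipode, mul_inv_rev]
    have h1 := hinv p (b⁻¹ * (pull π g)⁻¹) g
    rw [inv_mul_cancel_right] at h1
    exact h1
  let t' : IndAlg π R := ⟨t, ht⟩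
  refine ⟨t', ?_, ?_⟩
  · -- in the ideal
    have h1 : I.map (Algebra.TensorProduct.includeLeft : R →ₐ[k] R ⊗[k] B) ≤ RingHom.ker
        ((Algebra.TensorProduct.map (Ideal.Quotient.mkₐ k I) (AlgHom.id k B)).comp
          (Algebra.TensorProduct.map (AlgHom.id k R) (HopfAlgebra.antipodeAlgHom k B))) := by
      rw [Ideal.map_le_iff_le_comap]
      intro i hi
      rw [Ideal.mem_comap, RingHom.mem_ker, AlgHom.comp_apply, Algebra.TensorProduct.includeLeft_apply,
        Algebra.TensorProduct.map_tmul, Algebra.TensorProduct.map_tmul]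
      have h2 : Ideal.Quotient.mkₐ k I (AlgHom.id k R i) = 0 := Ideal.Quotient.eq_zero_iff_mem.mpr hi
      rw [h2, TensorProduct.zero_tmul]
    exact h1 ht1I
  · change ev2 (AlgHom.id k R) (1 : Pt k B R) t = r
    rw [ev2_antipode, inv_one]
    have h1 : ev2 (AlgHom.id k R) (1 : Pt k B R) = (ev2 (AlgHom.id k R) (1 : Pt k A R)).comp θ := by
      apply Algebra.TensorProduct.ext'
      intro x y
      rw [AlgHom.comp_apply, Algebra.TensorProduct.map_tmul, ev2_tmul, ev2_tmul]
      congr 1
      have h2 := congrArg (fun g : Pt k B R => g.hom y) (map_one (pull (C := R) π))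
      exact h2.symm
    rw [h1, AlgHom.comp_apply, hθt1, ev2_nu, inv_one, mv_one]
    rfl

/-- The restriction to `X` is onto. -/
theorem rhoInd_surjective (hG : HopfRep.IsLinearlyReductive k A) (hπ : Function.Surjective π) :
    Function.Surjective (rhoInd π : IndAlg π R →ₐ[k] R) := by
  intro r
  obtain ⟨t, _, ht⟩ := exists_indAlg π hG hπ ⊤ (fun f _ => by
    rw [Ideal.map_top]
    trivial) r trivial
  exact ⟨t, ht⟩

end Main

end K687
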