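import Mathlib.LinearAlgebra.FreeModule.PID
import Mathlib.LinearAlgebra.Matrix.Basis
import Mathlib.LinearAlgebra.Matrix.NonsingularInverse
import Mathlib.LinearAlgebra.Matrix.ToLinearEquiv
import Mathlib.RingTheory.DiscreteValuationRing.Basic
import Mathlib.RingTheory.Localization.Integer
import Mathlib.Tactic

/-!
# Cartan decomposition of invertible matrices over the fraction field of a discrete valuation ring
-/

set_option autoImplicit false

universe u v

open Matrix

namespace K687

/-- Smith normal form of a square matrix with non-zero determinant. -/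
theorem exists_smith {O : Type u} [CommRing O] [IsDomain O] [IsPrincipalIdealRing O] {n : ℕ}
    (M : Matrix (Fin n) (Fin n) O) (hM : M.det ≠ 0) :
    ∃ (P B : Matrix (Fin n) (Fin n) O) (c : Fin n → O), IsUnit P.det ∧ IsUnit B.det ∧ (∀ i, c i ≠ 0) ∧
      M = P * diagonal c * B := by
  classical
  have hli : LinearIndependent O (fun i => M i) := by
    rw [Fintype.linearIndependent_iff]
    intro g hg
    have h1 : g ᵥ* M = 0 := by
      funext j
      have := congrFun hg j
      simpa [Matrix.vecMul, dotProduct, Finset.sum_apply] using this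
    have h2 : M.transpose *ᵥ g = 0 := by rw [Matrix.mulVec_transpose, h1]
    have h3 : M.transpose.det ≠ 0 := by rwa [Matrix.det_transpose]
    have h4 := Matrix.eq_zero_of_mulVec_eq_zero h3 h2
    intro i
    exact congrFun h4 i
  let N : Submodule O (Fin n → O) := Submodule.span O (Set.range (fun i => M i))
  let bv : Module.Basis (Fin n) O N := Module.Basis.span hli
  have hbv : ∀ i, ((bv i : N) : Fin n → O) = M i := fun i => Module.Basis.coe_span_apply hli i
  let b₀ : Module.Basis (Fin n) O (Fin n → O) := Pi.basisFun O (Fin n)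
  have hrank : Module.finrank O N = Module.finrank O (Fin n → O) := by
    rw [Module.finrank_eq_card_basis bv, Module.finrank_eq_card_basis b₀]
  let top := Submodule.smithNormalFormTopBasis b₀ hrank
  let bot := Submodule.smithNormalFormBotBasis b₀ hrank
  let c := Submodule.smithNormalFormCoeffs b₀ hrank
  have hbot : ∀ i, ((bot i : N) : Fin n → O) = c i • top i := Submodule.smithNormalFormBotBasis_def b₀ hrank
  refine ⟨(bot.toMatrix bv)ᵀ, (b₀.toMatrix top)ᵀ, c, ?_, ?_,
    Submodule.smithNormalFormCoeffs_ne_zero b₀ hrank, ?_⟩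
  · rw [Matrix.det_transpose]
    have h := Module.Basis.toMatrix_mul_toMatrix_flip bot bv
    have h' := congrArg Matrix.det h
    rw [Matrix.det_mul, Matrix.det_one] at h'
    exact IsUnit.of_mul_eq_one _ h'
  · rw [Matrix.det_transpose]
    have h := Module.Basis.toMatrix_mul_toMatrix_flip b₀ top
    have h' := congrArg Matrix.det h
    rw [Matrix.det_mul, Matrix.det_one] at h'
    exact IsUnit.of_mul_eq_one _ h'
  · ext j l
    rw [Matrix.mul_apply]
    simp only [Matrix.mul_diagonal, Matrix.transpose_apply, Module.Basis.toMatrix_apply]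
    have h1 : (bv j : N) = ∑ i, bot.repr (bv j) i • bot i := (bot.sum_repr (bv j)).symm
    have h2 := congrArg (fun v : N => (v : Fin n → O) l) h1
    simp only [hbv] at h2
    rw [h2]
    have h3 : ((∑ i, bot.repr (bv j) i • bot i : N) : Fin n → O) l =
        ∑ i, bot.repr (bv j) i * (c i * top i l) := by
      rw [Submodule.coe_sum, Finset.sum_apply]
      refine Finset.sum_congr rfl fun i _ => ?_
      rw [Submodule.coe_smul, Pi.smul_apply, hbot, Pi.smul_apply, smul_eq_mul, smul_eq_mul]
    rw [h3]
    refine Finset.sum_congr rfl fun i _ => ?_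
    rw [Pi.basisFun_repr]
    ring

/-- Cartan decomposition. -/
theorem exists_cartan {O : Type u} [CommRing O] [IsDomain O] [IsDiscreteValuationRing O] {K : Type v} [Field K]
    [Algebra O K] [IsFractionRing O K] (π : O) (hπ : Irreducible π) {n : ℕ}
    (M : Matrix (Fin n) (Fin n) K) (hM : M.det ≠ 0) :
    ∃ (P B : Matrix (Fin n) (Fin n) O) (r : Fin n → ℤ), IsUnit P.det ∧ IsUnit B.det ∧
      M = P.map (algebraMap O K) * diagonal (fun i => (algebraMap O K π) ^ (r i)) *
        B.map (algebraMap O K) := by
  classical
  have hinj : Function.Injective (algebraMap O K) := IsFractionRing.injective O K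
  obtain ⟨d, hd⟩ := IsLocalization.exist_integer_multiples_of_finite (nonZeroDivisors O)
    (fun p : Fin n × Fin n => M p.1 p.2)
  choose M₀ hM₀ using hd
  have hd0 : (d : O) ≠ 0 := nonZeroDivisors.ne_zero d.2
  obtain ⟨N, w, hw⟩ := IsDiscreteValuationRing.eq_unit_mul_pow_irreducible hd0 hπ
  let M₁ : Matrix (Fin n) (Fin n) O := fun i j => M₀ (i, j)
  have hM₁ : M₁.map (algebraMap O K) = algebraMap O K d • M := by
    ext i j
    rw [Matrix.map_apply, Matrix.smul_apply]
    change algebraMap O K (M₀ (i, j)) = _
    rw [hM₀ (i, j), Algebra.smul_def, smul_eq_mul]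
  have hdK : algebraMap O K d ≠ 0 := by
    intro h
    exact hd0 (hinj (by rw [h, map_zero]))
  have hdet : M₁.det ≠ 0 := by
    intro h
    have h1 : (M₁.map (algebraMap O K)).det = 0 := by
      have := (RingHom.map_det (algebraMap O K) M₁).symm
      rw [h, map_zero] at this
      exact this
    rw [hM₁, Matrix.det_smul] at h1
    rcases mul_eq_zero.mp h1 with h2 | h2
    · exact pow_ne_zero _ hdK h2
    · exact hM h2
  obtain ⟨P, B, c, hP, hB, hc, hPB⟩ := exists_smith M₁ hdet
  choose m v hv using fun i => IsDiscreteValuationRing.eq_unit_mul_pow_irreducible (hc i) hπ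
  have hπK : algebraMap O K π ≠ 0 := by
    intro h
    exact hπ.ne_zero (hinj (by rw [h, map_zero]))
  refine ⟨P * diagonal (fun i => ((v i * w⁻¹ : Oˣ) : O)), B, fun i => (m i : ℤ) - N, ?_, hB, ?_⟩
  · rw [Matrix.det_mul, Matrix.det_diagonal]
    refine hP.mul ?_
    refine Finset.prod_induction _ IsUnit (fun a b => IsUnit.mul) isUnit_one fun i _ => Units.isUnit _
  · have h1 : M = (algebraMap O K d)⁻¹ • (M₁.map (algebraMap O K)) := by
      rw [hM₁, smul_smul, inv_mul_cancel₀ hdK, one_smul]
    have hmapmul : ∀ X Y : Matrix (Fin n) (Fin n) O, (X * Y).map (algebraMap O K) =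
        X.map (algebraMap O K) * Y.map (algebraMap O K) := fun X Y => Matrix.map_mul
    have h2 : (algebraMap O K d)⁻¹ • (diagonal c).map (algebraMap O K) =
        (diagonal (fun i => ((v i * w⁻¹ : Oˣ) : O))).map (algebraMap O K) *
          diagonal (fun i => (algebraMap O K π) ^ ((m i : ℤ) - N)) := by
      ext i j
      rw [Matrix.smul_apply, Matrix.map_apply, Matrix.mul_diagonal, Matrix.map_apply]
      by_cases hij : i = j
      · subst hij
        rw [Matrix.diagonal_apply_eq, Matrix.diagonal_apply_eq, hv i, hw]
        rw [smul_eq_mul, map_mul, map_mul, map_pow, map_pow, Units.val_mul, map_mul, zpow_sub₀ hπK,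
          zpow_natCast, zpow_natCast]
        have hwK : algebraMap O K (w : O) ≠ 0 := (w.isUnit.map (algebraMap O K)).ne_zero
        have hwi : algebraMap O K ((w⁻¹ : Oˣ) : O) = (algebraMap O K (w : O))⁻¹ := by
          apply eq_inv_of_mul_eq_one_left
          rw [← map_mul, Units.inv_mul, map_one]
        rw [hwi]
        field_simp
      · rw [Matrix.diagonal_apply_ne _ hij, Matrix.diagonal_apply_ne _ hij, map_zero, smul_zero, zero_mul]
    rw [h1, hPB, hmapmul, hmapmul, hmapmul, ← Matrix.smul_mul, ← Matrix.mul_smul, h2]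
    simp only [Matrix.mul_assoc]

end K687
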