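import Groth.Agent.GIT.K687.Lim
import Mathlib.RingTheory.DiscreteValuationRing.Basic
import Mathlib.RingTheory.Jacobson.Ring
import Mathlib.FieldTheory.IsAlgClosed.Basic
import Mathlib.RingTheory.FiniteType

/-!
# The core of the Hilbert-Mumford criterion

Given a point of the group with values in the fraction field `K` of a local domain `O`, of the form `a · λ(u) · b` with
`a, b` points with values in `O` and `u` the image of a non-zero non-unit of `O`, moving the rational point `x` to an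
`O`-point whose reduction lies in the zero set of a stable ideal `I`, some conjugate of `λ` by a rational point moves
`x` to a limit in the zero set of `I`.
-/

set_option autoImplicit false
set_option linter.unusedSectionVars false

universe u v w w' w''

open TensorProduct LaurentPolynomial IsLocalRing

namespace K687

/-- Nullstellensatz: a proper ideal of a finitely generated algebra over an algebraically closed field is killed by a
rational point. -/
theorem exists_algHom_of_ne_top {k : Type u} [Field k] [IsAlgClosed k] {A : Type v} [CommRing A] [Algebra k A]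
    [Algebra.FiniteType k A] (J : Ideal A) (hJ : J ≠ ⊤) : ∃ a : A →ₐ[k] k, ∀ f ∈ J, a f = 0 := by
  obtain ⟨M, hM, hJM⟩ := Ideal.exists_le_maximal J hJ
  letI : Field (A ⧸ M) := Ideal.Quotient.field M
  haveI : Module.Finite k (A ⧸ M) := by
    haveI : Algebra.FiniteType k (A ⧸ M) := inferInstance
    exact finite_of_finite_type_of_isJacobsonRing k (A ⧸ M)
  haveI : Algebra.IsAlgebraic k (A ⧸ M) := inferInstance
  let e : k ≃ₐ[k] (A ⧸ M) := AlgEquiv.ofBijective (Algebra.ofId k (A ⧸ M))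
    (IsAlgClosed.algebraMap_bijective_of_isIntegral)
  refine ⟨(e.symm : (A ⧸ M) →ₐ[k] k).comp (Ideal.Quotient.mkₐ k M), fun f hf => ?_⟩
  have : Ideal.Quotient.mkₐ k M f = 0 := Ideal.Quotient.eq_zero_iff_mem.mpr (hJM hf)
  rw [AlgHom.comp_apply, this, map_zero]

variable {k : Type u} [Field k] [IsAlgClosed k] {A : Type v} [CommRing A] [HopfAlgebra k A]
  [Algebra.FiniteType k A]
  {R : Type w} [CommRing R] [Algebra k R] [HopfRep.Comod k A R] [GLin.IsCoactAlg k A R]
  {O : Type w'} [CommRing O] [IsDomain O] [IsLocalRing O] [Algebra k O]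
  {K : Type w''} [Field K] [Algebra k K]

/-- The core of the Hilbert-Mumford criterion. -/
theorem hm_core (ιO : O →ₐ[k] K) (hι : Function.Injective ιO)
    (I : Ideal R) (hI : IsStable (k := k) A I) (x : R →ₐ[k] k)
    (g : Pt k A K) (h : R →ₐ[k] O) (hgh : ιO.comp h = mv ((Algebra.ofId k K).comp x) g)
    (hhI : ∀ f ∈ I, h f ∈ maximalIdeal O)
    (a b : Pt k A O) (lam : A →ₐc[k] k[T;T⁻¹]) (π : O) (hπ : π ∈ maximalIdeal O) (u : Kˣ) (hu : (u : K) = ιO π)
    (hg : g = Pt.bc ιO a * Pt.mk ((evU k u).comp (lam : A →ₐ[k] k[T;T⁻¹])) * Pt.bc ιO b) :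
    ∃ (a₀ : Pt k A k) (y : R →ₐ[k] k), GLin.IsLimit k A (conj a₀ lam) x y ∧ ∀ f ∈ I, y f = 0 := by
  -- the `O`-point `q = x·a` and the `O`-point `h' = h·b⁻¹`
  let q : R →ₐ[k] O := mv ((Algebra.ofId k O).comp x) a
  let h' : R →ₐ[k] O := mv h b⁻¹
  let lu : Pt k A K := Pt.mk ((evU k u).comp (lam : A →ₐ[k] k[T;T⁻¹]))
  have hq : mv (ιO.comp q) lu = ιO.comp h' := by
    have e1 : ιO.comp q = mv ((Algebra.ofId k K).comp x) (Pt.bc ιO a) := by
      rw [comp_mv, ofId_comp]
    have e2 : ιO.comp h' = mv (ιO.comp h) (Pt.bc ιO b⁻¹) := comp_mv _ _ _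
    rw [e1, e2, hgh, mv_mul, mv_mul, hg, map_inv]
    congr 1
    group
    rfl
  have hh'I : ∀ f ∈ I, h' f ∈ maximalIdeal O :=
    mv_mem_of_stable hI (maximalIdeal O) h hhI b⁻¹
  -- the weight components
  have hqw : ∀ (j : ℤ) (f : R), ιO (q (wt lam j f)) * ((u ^ j : Kˣ) : K) = ιO (h' (wt lam j f)) := by
    intro j f
    have e := mv_evU_wt lam (ιO.comp q) u j f
    change mv (ιO.comp q) lu (wt lam j f) = _ at e
    rw [hq] at e
    exact e.symm
  have hneg : ∀ (j : ℤ) (f : R), j < 0 → q (wt lam j f) ∈ maximalIdeal O := by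
    intro j f hj
    obtain ⟨m, hm⟩ : ∃ m : ℕ, j = -((m : ℤ) + 1) := ⟨(-j - 1).toNat, by omega⟩
    have e := hqw j f
    have e2 : ιO (q (wt lam j f)) = ιO (h' (wt lam j f) * π ^ (m + 1)) := by
      rw [map_mul, map_pow, ← hu, ← e, mul_assoc, ← Units.val_pow_eq_pow_val, ← Units.val_mul,
        ← zpow_natCast, ← zpow_add, hm]
      simp
    rw [hι e2]
    exact Ideal.mul_mem_left _ _ (Ideal.pow_mem_of_mem _ hπ _ (Nat.succ_pos m))
  have hzero : ∀ f ∈ I, q (wt lam 0 f) ∈ maximalIdeal O := by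
    intro f hf
    have e := hqw 0 f
    rw [zpow_zero, Units.val_one, mul_one] at e
    rw [hι e]
    exact hh'I _ (wt_mem hI lam 0 hf)
  -- the ideal of the group
  let S : Set A := {c | (∃ (j : ℤ) (f : R), j < 0 ∧ c = GLin.orbitHom k A x (wt lam j f)) ∨
    ∃ f ∈ I, c = GLin.orbitHom k A x (wt lam 0 f)}
  have hqo : ∀ f, q f = a.hom (GLin.orbitHom k A x f) := by
    intro f
    have := congrArg (fun φ => φ f) (comp_orbitHom x a)
    exact this.symm
  have hJ : Ideal.span S ≠ ⊤ := by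
    intro hcon
    have hle : Ideal.span S ≤ (maximalIdeal O).comap a.hom.toRingHom := by
      rw [Ideal.span_le]
      rintro c (⟨j, f, hj, rfl⟩ | ⟨f, hf, rfl⟩)
      · change a.hom (GLin.orbitHom k A x (wt lam j f)) ∈ maximalIdeal O
        rw [← hqo]
        exact hneg j f hj
      · change a.hom (GLin.orbitHom k A x (wt lam 0 f)) ∈ maximalIdeal O
        rw [← hqo]
        exact hzero f hf
    rw [hcon, top_le_iff] at hle
    have h1 : (1 : A) ∈ (maximalIdeal O).comap a.hom.toRingHom := by rw [hle]; trivial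
    have h2 : (1 : O) ∈ maximalIdeal O := by
      have : a.hom.toRingHom 1 ∈ maximalIdeal O := h1
      rwa [map_one] at this
    exact (Ideal.ne_top_iff_one _).mp (maximalIdeal.isMaximal O).ne_top h2
  obtain ⟨a₀', ha₀⟩ := exists_algHom_of_ne_top (k := k) (Ideal.span S) hJ
  let a₀ : Pt k A k := Pt.mk a₀'
  -- the moved point
  let p : R →ₐ[k] k := mv x a₀
  have hp : ∀ f, p f = a₀' (GLin.orbitHom k A x f) := by
    intro f
    have := congrArg (fun φ => φ f) (comp_orbitHom x a₀)
    rw [ofId_self_comp] at this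
    exact this.symm
  obtain ⟨y₀, hy₀, hy₀'⟩ := exists_limit_of_coeff lam p (fun f j hj => by
    rw [hp]
    exact ha₀ _ (Ideal.subset_span (Or.inl ⟨j, f, hj, rfl⟩)))
  have hy₀I : ∀ f ∈ I, y₀ f ∈ (⊥ : Ideal k) := by
    intro f hf
    rw [hy₀', hp]
    exact ha₀ _ (Ideal.subset_span (Or.inr ⟨f, hf, rfl⟩))
  refine ⟨a₀, mv y₀ a₀⁻¹, ?_, ?_⟩
  · have := isLimit_conj hy₀ a₀
    have hpx : mv p a₀⁻¹ = x := by
      change mv (mv x a₀) a₀⁻¹ = x
      rw [mv_mul, mul_inv_cancel, mv_one]
    rwa [hpx] at this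
  · intro f hf
    exact mv_mem_of_stable hI ⊥ y₀ hy₀I a₀⁻¹ f hf

end K687
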