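import Groth.Agent.Ega43.DvrDomination
import Mathlib.RingTheory.Ideal.MinimalPrime.Basic
import Mathlib.RingTheory.Ideal.MinimalPrime.Localization
import Mathlib.RingTheory.FiniteType
import Mathlib.RingTheory.Localization.AtPrime.Basic
import Mathlib.RingTheory.Jacobson.Ring
import Mathlib.FieldTheory.IsAlgClosed.Basic
import Mathlib.Tactic

/-!
# Points in the closure of the image are reached by discrete valuation rings

`K687.exists_dvr_point`: for `φ : R → A` a map of finitely generated algebras over an algebraically closed field `k` and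
a rational point `z` of `R` killing the kernel of `φ`, either `z` lifts to a rational point of `A`, or there are a
discrete valuation ring `O` with fraction field `K` and compatible maps `g : A → K`, `h : R → O` such that the
reduction of `h` is `z`.
-/

set_option autoImplicit false
set_option linter.style.haveILetI false

universe u

open IsLocalRing

namespace K687

theorem exists_dvr_point {k : Type u} [Field k] [IsAlgClosed k] {R A : Type u} [CommRing R] [Algebra k R]
    [Algebra.FiniteType k R] [CommRing A] [Algebra k A] [Algebra.FiniteType k A] (φ : R →ₐ[k] A)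
    (z : R →ₐ[k] k) (hz : RingHom.ker φ ≤ RingHom.ker z) :
    (∃ g : A →ₐ[k] k, g.comp φ = z) ∨
    ∃ (O : Type u) (_ : CommRing O) (_ : IsDomain O) (_ : IsDiscreteValuationRing O) (_ : Algebra k O)
      (K : Type u) (_ : Field K) (_ : Algebra k K) (_ : Algebra O K) (_ : IsFractionRing O K)
      (_ : IsScalarTower k O K) (g : A →ₐ[k] K) (h : R →ₐ[k] O),
      (IsScalarTower.toAlgHom k O K).comp h = g.comp φ ∧ ∀ f, z f = 0 → h f ∈ maximalIdeal O := by
  classical
  -- a minimal prime of the image below `z`
  haveI hmz : (RingHom.ker z).IsPrime := RingHom.ker_isPrime z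
  obtain ⟨P, hP, hPz⟩ := Ideal.exists_minimalPrimes_le hz
  haveI hPp : P.IsPrime := hP.1.1
  have hP' : P ∈ ((⊥ : Ideal A).comap φ.toRingHom).minimalPrimes := by
    have : (⊥ : Ideal A).comap φ.toRingHom = RingHom.ker φ := rfl
    rwa [this]
  obtain ⟨Q, hQp, _, hQP⟩ := Ideal.exists_comap_eq_of_mem_minimalPrimes φ.toRingHom P hP'
  haveI := hQp
  -- the maps
  have hPQ : P ≤ Ideal.comap φ Q := le_of_eq hQP.symm
  let ψ : (R ⧸ P) →ₐ[k] (A ⧸ Q) := Ideal.quotientMapₐ Q φ hPQ
  have hψ : Function.Injective ψ := by
    have : Function.Injective (Ideal.quotientMap Q φ.toRingHom hPQ) :=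
      Ideal.quotientMap_injective' (le_of_eq hQP)
    exact this
  let zb : (R ⧸ P) →ₐ[k] k := Ideal.Quotient.liftₐ P z (fun a ha => hPz ha)
  by_cases hfield : RingHom.ker zb = ⊥
  · -- the closure of the image is a point near `z`
    left
    have hzbi : Function.Injective zb := (RingHom.injective_iff_ker_eq_bot _).mpr hfield
    haveI : Nontrivial (A ⧸ Q) := inferInstance
    obtain ⟨g, _⟩ : ∃ g : (A ⧸ Q) →ₐ[k] k, True := by
      obtain ⟨M, hM⟩ := Ideal.exists_maximal (A ⧸ Q)
      let _ : Field ((A ⧸ Q) ⧸ M) := Ideal.Quotient.field M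
      have : Algebra.FiniteType k ((A ⧸ Q) ⧸ M) := inferInstance
      have : Module.Finite k ((A ⧸ Q) ⧸ M) := finite_of_finite_type_of_isJacobsonRing k ((A ⧸ Q) ⧸ M)
      let e : k ≃ₐ[k] ((A ⧸ Q) ⧸ M) := AlgEquiv.ofBijective (Algebra.ofId k ((A ⧸ Q) ⧸ M))
        (IsAlgClosed.algebraMap_bijective_of_isIntegral)
      exact ⟨(e.symm : ((A ⧸ Q) ⧸ M) →ₐ[k] k).comp (Ideal.Quotient.mkₐ k M), trivial⟩
    refine ⟨g.comp (Ideal.Quotient.mkₐ k Q), ?_⟩
    -- every algebra map from `R ⧸ P` to `k` is `zb`
    have huniq : g.comp ψ = zb := by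
      apply AlgHom.ext
      intro r
      have h1 : r = algebraMap k (R ⧸ P) (zb r) := by
        apply hzbi
        rw [zb.commutes]
        rfl
      rw [h1, AlgHom.commutes, AlgHom.commutes]
    apply AlgHom.ext
    intro r
    have h2 := congrArg (fun f : (R ⧸ P) →ₐ[k] k => f (Ideal.Quotient.mk P r)) huniq
    exact h2
  · right
    haveI hmp : (RingHom.ker zb).IsPrime := RingHom.ker_isPrime zb
    let m := RingHom.ker zb
    haveI : IsNoetherianRing (R ⧸ P) := Algebra.FiniteType.isNoetherianRing k (R ⧸ P)
    let D := Localization.AtPrime m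
    haveI : IsNoetherianRing D := IsLocalization.isNoetherianRing m.primeCompl D inferInstance
    haveI : IsDomain D := inferInstance
    have hDf : ¬ IsField D := by
      intro hf
      apply hfield
      have h1 := IsLocalRing.isField_iff_maximalIdeal_eq.mp hf
      have h2 := IsLocalization.AtPrime.under_maximalIdeal D m
      rw [h1] at h2
      change m = ⊥
      rw [← h2]
      change RingHom.ker (algebraMap (R ⧸ P) D) = ⊥
      rw [← RingHom.injective_iff_ker_eq_bot]
      exact IsLocalization.injective D m.primeCompl_le_nonZeroDivisors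
    let K := FractionRing (A ⧸ Q)
    let ψK : (R ⧸ P) →ₐ[k] K := (IsScalarTower.toAlgHom k (A ⧸ Q) K).comp ψ
    have hψK : Function.Injective ψK := by
      intro a b hab
      exact hψ (IsFractionRing.injective (A ⧸ Q) K hab)
    have hunit : ∀ y : m.primeCompl, IsUnit (ψK.toRingHom y) := by
      intro y
      apply IsUnit.mk0
      intro h0
      have : (y : R ⧸ P) = 0 := hψK (by rw [map_zero]; exact h0)
      exact y.2 (by rw [this]; exact m.zero_mem)
    let χ : D →+* K := IsLocalization.lift hunit
    have hχ : ∀ r, χ (algebraMap (R ⧸ P) D r) = ψK r := fun r => IsLocalization.lift_eq hunit r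
    letI algDK : Algebra D K := χ.toAlgebra
    haveI towkDK : IsScalarTower k D K := by
      apply IsScalarTower.of_algebraMap_eq
      intro c
      change _ = χ (algebraMap k D c)
      rw [IsScalarTower.algebraMap_apply k (R ⧸ P) D, hχ, AlgHom.commutes]
    have hinj : Function.Injective (algebraMap D K) := by
      change Function.Injective χ
      exact IsLocalization.lift_injective_iff hunit |>.mpr (fun a b => by
        constructor
        · intro h
          exact congrArg ψK (IsLocalization.injective D m.primeCompl_le_nonZeroDivisors h)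
        · intro h
          rw [hψK h])
    haveI : Algebra.EssFiniteType k K := by
      haveI : Algebra.EssFiniteType k (A ⧸ Q) := inferInstance
      haveI : Algebra.EssFiniteType (A ⧸ Q) K := Algebra.EssFiniteType.of_isLocalization K (nonZeroDivisors (A ⧸ Q))
      exact Algebra.EssFiniteType.comp k (A ⧸ Q) K
    haveI : Algebra.EssFiniteType D K := Algebra.EssFiniteType.of_comp k D K
    obtain ⟨O, iO1, iO2, iO3, algDO, algOK, tow, hfr, hloc, _⟩ :=
      Groth.Agent.Ega43.DvrDomination.exists_dvr_algebra D hDf K hinj
    letI algkO : Algebra k O := ((algebraMap D O).comp (algebraMap k D)).toAlgebra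
    haveI towkDO : IsScalarTower k D O := IsScalarTower.of_algebraMap_eq (fun c => rfl)
    haveI towkOK : IsScalarTower k O K := by
      apply IsScalarTower.of_algebraMap_eq
      intro c
      change _ = algebraMap O K (algebraMap D O (algebraMap k D c))
      rw [← IsScalarTower.algebraMap_apply D O K, ← IsScalarTower.algebraMap_apply k D K]
    refine ⟨O, iO1, iO2, iO3, algkO, K, inferInstance, inferInstance, algOK, hfr, towkOK,
      (IsScalarTower.toAlgHom k (A ⧸ Q) K).comp (Ideal.Quotient.mkₐ k Q),
      ((IsScalarTower.toAlgHom k D O).comp (IsScalarTower.toAlgHom k (R ⧸ P) D)).comp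
        (Ideal.Quotient.mkₐ k P), ?_, ?_⟩
    · apply AlgHom.ext
      intro r
      change algebraMap O K (algebraMap D O (algebraMap (R ⧸ P) D (Ideal.Quotient.mk P r))) =
        algebraMap (A ⧸ Q) K (Ideal.Quotient.mk Q (φ r))
      rw [← IsScalarTower.algebraMap_apply D O K]
      exact hχ _
    · intro f hf
      change algebraMap D O (algebraMap (R ⧸ P) D (Ideal.Quotient.mk P f)) ∈ maximalIdeal O
      have h1 : algebraMap (R ⧸ P) D (Ideal.Quotient.mk P f) ∈ maximalIdeal D := by
        have h2 : (Ideal.Quotient.mk P f) ∈ m := by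
          change zb (Ideal.Quotient.mk P f) = 0
          exact hf
        exact (IsLocalization.AtPrime.to_map_mem_maximal_iff D m _).mpr h2
      rw [mem_maximalIdeal, mem_nonunits_iff] at h1 ⊢
      intro hu
      exact h1 (hloc.map_nonunit _ hu)

end K687
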