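import Groth.Agent.GIT.K687.HMCore
import Groth.Agent.GIT.K687.Cartan
import Groth.Agent.GIT.K687.Dom
import Groth.Prelude.Def_GLin5
import Groth.Prelude.Def_SGA3t2b

/-!
# The Hilbert-Mumford criterion for the general linear group

`K687.hm_GLn_dvr`: the form with a discrete valuation ring; `K687.hm_GLn`: the form with orbit closures.
-/

set_option autoImplicit false
set_option linter.unusedSectionVars false
set_option linter.style.haveILetI false

universe u v w w'

open TensorProduct LaurentPolynomial IsLocalRing CoordGrp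

namespace K687

section GLnPts

variable {k : Type u} [CommRing k] {n : ℕ} {C : Type w} [CommRing C] [Algebra k C]

theorem GLn_mul_X (g h : Pt k (GLn n k) C) (i j : Fin n) :
    (g * h).hom (GLn.X i j) = ∑ l, g.hom (GLn.X i l) * h.hom (GLn.X l j) := by
  rw [Pt.mul_apply, GLn.comul_X, map_sum]
  refine Finset.sum_congr rfl fun l _ => ?_
  rw [Algebra.TensorProduct.lift_tmul]

theorem GLn_pt_ext {g h : Pt k (GLn n k) C} (e : ∀ i j, g.hom (GLn.X i j) = h.hom (GLn.X i j)) : g = h := by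
  have hdet : g.hom GLn.det = h.hom GLn.det := by
    rw [GLn.det_eq, AlgHom.map_det, AlgHom.map_det]
    congr 1
    ext i j
    exact e i j
  refine GLn.algHom_ext e ?_
  have h1 : g.hom GLn.det * g.hom GLn.Dinv = 1 := by rw [← map_mul, GLn.det_mul_Dinv, map_one]
  have h2 : h.hom GLn.Dinv * h.hom GLn.det = 1 := by rw [← map_mul, GLn.Dinv_mul_det, map_one]
  change g.hom GLn.Dinv = h.hom GLn.Dinv
  calc g.hom GLn.Dinv = h.hom GLn.Dinv * h.hom GLn.det * g.hom GLn.Dinv := by rw [h2, one_mul]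
    _ = h.hom GLn.Dinv * (g.hom GLn.det * g.hom GLn.Dinv) := by rw [hdet, mul_assoc]
    _ = h.hom GLn.Dinv := by rw [h1, mul_one]

/-- The point of the general linear group given by an invertible matrix. -/
noncomputable def GLn_pt (M : Matrix (Fin n) (Fin n) C) (h : IsUnit M.det) : Pt k (GLn n k) C :=
  Pt.mk (GLn.pt n k M ((h.unit⁻¹ : Cˣ) : C) (h.mul_val_inv))

theorem GLn_pt_X (M : Matrix (Fin n) (Fin n) C) (h : IsUnit M.det) (i j : Fin n) :
    (GLn_pt (k := k) M h).hom (GLn.X i j) = M i j := GLn.pt_X M _ (h.mul_val_inv) i j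

/-- The matrix of a point. -/
noncomputable def GLn_mat (g : Pt k (GLn n k) C) : Matrix (Fin n) (Fin n) C := fun i j => g.hom (GLn.X i j)

theorem isUnit_det_GLn_mat (g : Pt k (GLn n k) C) : IsUnit (GLn_mat g).det := by
  have h1 : g.hom GLn.det * g.hom GLn.Dinv = 1 := by rw [← map_mul, GLn.det_mul_Dinv, map_one]
  have h2 : g.hom GLn.det = (GLn_mat g).det := by
    rw [GLn.det_eq, AlgHom.map_det]
    rfl
  rw [h2] at h1
  exact IsUnit.of_mul_eq_one _ h1

end GLnPts

section Trivial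

variable {k : Type u} [CommRing k] {A : Type u} [CommRing A] [HopfAlgebra k A]

theorem isTrivial_iff (lam : A →ₐc[k] k[T;T⁻¹]) : SGA3t2b.IsTrivialBialgHom lam ↔ lamPt lam = 1 := by
  constructor
  · intro h
    apply Pt.ext
    intro a
    exact h a
  · intro h a
    exact congrArg (fun g : Pt k A _ => g.hom a) h

theorem isTrivial_conj_iff (a : Pt k A k) (lam : A →ₐc[k] k[T;T⁻¹]) :
    SGA3t2b.IsTrivialBialgHom (conj a lam) ↔ SGA3t2b.IsTrivialBialgHom lam := by
  rw [isTrivial_iff, isTrivial_iff, lamPt_conj]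
  constructor
  · intro h
    have h2 : lamPt lam = (Pt.bc (Algebra.ofId k k[T;T⁻¹]) a)⁻¹ *
        (Pt.bc (Algebra.ofId k k[T;T⁻¹]) a * lamPt lam * (Pt.bc (Algebra.ofId k k[T;T⁻¹]) a)⁻¹) *
        Pt.bc (Algebra.ofId k k[T;T⁻¹]) a := by group
    rw [h2, h]
    group
  · intro h
    rw [h]
    group

end Trivial

section HM

variable {k : Type u} [Field k] [IsAlgClosed k] {n : ℕ}
  {R : Type w} [CommRing R] [Algebra k R] [HopfRep.Comod k (GLn n k) R] [GLin.IsCoactAlg k (GLn n k) R]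

instance finiteType_GLn : Algebra.FiniteType k (GLn n k) := by
  have h1 : Algebra.FiniteType k (GLb n k) :=
    inferInstanceAs (Algebra.FiniteType k (MvPolynomial (GLPoly.Idx n) k))
  exact Algebra.FiniteType.of_surjective (GLn.mk n k) Ideal.Quotient.mk_surjective

/-- Hilbert-Mumford for the general linear group, with a discrete valuation ring. -/
theorem hm_GLn_dvr {O : Type u} [CommRing O] [IsDomain O] [IsDiscreteValuationRing O] [Algebra k O]
    {K : Type v} [Field K] [Algebra k K] [Algebra O K] [IsFractionRing O K] [IsScalarTower k O K]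
    (I : Ideal R) (hI : IsStable (k := k) (GLn n k) I) (x : R →ₐ[k] k)
    (g : Pt k (GLn n k) K) (h : R →ₐ[k] O)
    (hgh : (IsScalarTower.toAlgHom k O K).comp h = mv ((Algebra.ofId k K).comp x) g)
    (hhI : ∀ f ∈ I, h f ∈ maximalIdeal O) :
    ∃ (lam : GLn n k →ₐc[k] k[T;T⁻¹]) (y : R →ₐ[k] k), GLin.IsLimit k (GLn n k) lam x y ∧ (∀ f ∈ I, y f = 0) ∧
      (SGA3t2b.IsTrivialBialgHom lam → ∃ g₀ : Pt k (GLn n k) O, Pt.bc (IsScalarTower.toAlgHom k O K) g₀ = g) := by
  obtain ⟨π, hπ⟩ := IsDiscreteValuationRing.exists_irreducible O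
  have hinj : Function.Injective (IsScalarTower.toAlgHom k O K) := IsFractionRing.injective O K
  have hπK : algebraMap O K π ≠ 0 := by
    intro h
    exact hπ.ne_zero (hinj (by rw [map_zero]; exact h))
  obtain ⟨P, B, r, hP, hB, hPB⟩ := exists_cartan (K := K) π hπ (GLn_mat g) (isUnit_det_GLn_mat g).ne_zero
  let u : Kˣ := Units.mk0 (algebraMap O K π) hπK
  have hg : g = Pt.bc (IsScalarTower.toAlgHom k O K) (GLn_pt P hP) *
      Pt.mk ((evU k u).comp (GLn.diag n k r : GLn n k →ₐ[k] k[T;T⁻¹])) *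
      Pt.bc (IsScalarTower.toAlgHom k O K) (GLn_pt B hB) := by
    apply GLn_pt_ext
    intro i j
    have h1 := congrFun (congrFun hPB i) j
    change g.hom (GLn.X i j) = _ at h1
    rw [h1, Matrix.mul_apply, GLn_mul_X]
    refine Finset.sum_congr rfl fun l _ => ?_
    rw [Matrix.mul_apply, GLn_mul_X]
    congr 1
    · refine Finset.sum_congr rfl fun m _ => ?_
      rw [Matrix.map_apply, Pt.bc_apply, GLn_pt_X, Matrix.diagonal_apply]
      congr 1
      change _ = evU k u (GLn.diag n k r (GLn.X m l))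
      rw [GLn.diag_X]
      split_ifs with hml
      · rw [evU_T, Units.val_zpow_eq_zpow_val]
        rfl
      · rw [map_zero]
    · rw [Matrix.map_apply, Pt.bc_apply, GLn_pt_X]
      rfl
  obtain ⟨a₀, y, hy, hyI⟩ := hm_core (IsScalarTower.toAlgHom k O K) hinj I hI x g h hgh hhI
    (GLn_pt P hP) (GLn_pt B hB) (GLn.diag n k r) π
    ((IsDiscreteValuationRing.irreducible_iff_uniformizer π).mp hπ ▸ Ideal.mem_span_singleton_self π) u rfl hg
  refine ⟨conj a₀ (GLn.diag n k r), y, hy, hyI, fun htriv => ?_⟩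
  rw [isTrivial_conj_iff] at htriv
  have h1 : Pt.mk ((evU k u).comp (GLn.diag n k r : GLn n k →ₐ[k] k[T;T⁻¹])) = (1 : Pt k (GLn n k) K) := by
    apply Pt.ext
    intro a
    change evU k u (GLn.diag n k r a) = _
    rw [htriv a, AlgHom.commutes]
    rfl
  refine ⟨GLn_pt P hP * GLn_pt B hB, ?_⟩
  rw [hg, h1, map_mul, mul_one]

end HM

section HM2

variable {k : Type u} [Field k] [IsAlgClosed k] {n : ℕ}
  {R : Type u} [CommRing R] [Algebra k R] [Algebra.FiniteType k R] [HopfRep.Comod k (GLn n k) R]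
  [GLin.IsCoactAlg k (GLn n k) R]

/-- The trivial one-parameter subgroup has every point as its own limit. -/
theorem exists_trivial_limit {A : Type u} [CommRing A] [HopfAlgebra k A] {R : Type w} [CommRing R] [Algebra k R]
    [HopfRep.Comod k A R] [GLin.IsCoactAlg k A R] (x : R →ₐ[k] k) :
    ∃ lam : A →ₐc[k] k[T;T⁻¹], SGA3t2b.IsTrivialBialgHom lam ∧ GLin.IsLimit k A lam x x := by
  have h1 : Pt.bc (Bialgebra.counitAlgHom k k[T;T⁻¹]) (1 : Pt k A k[T;T⁻¹]) = 1 := map_one _
  have h2 : Pt.bc (Bialgebra.comulAlgHom k k[T;T⁻¹]) (1 : Pt k A k[T;T⁻¹]) =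
      Pt.bc (Algebra.TensorProduct.includeLeft : k[T;T⁻¹] →ₐ[k] k[T;T⁻¹] ⊗[k] k[T;T⁻¹]) 1 *
      Pt.bc (Algebra.TensorProduct.includeRight : k[T;T⁻¹] →ₐ[k] k[T;T⁻¹] ⊗[k] k[T;T⁻¹]) 1 := by
    rw [map_one, map_one, map_one, one_mul]
  refine ⟨mkLam 1 h1 h2, ?_, ?_⟩
  · rw [isTrivial_iff, lamPt_mkLam]
  · refine ⟨(Algebra.ofId k _).comp x, ?_, ?_⟩
    · rw [lamOrbit_eq, lamPt_mkLam, mv_one, ofId_comp]
    · rw [ofId_comp, ofId_self_comp]

/-- Hilbert-Mumford for the general linear group (any characteristic): if the zero set of a stable ideal `I` meets the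
orbit closure of `x` in a rational point, then some one-parameter subgroup moves `x` to a limit in the zero set. -/
theorem hm_GLn (I : Ideal R) (hI : IsStable (k := k) (GLn n k) I) (x z : R →ₐ[k] k)
    (hz : GLin.InOrbitClosure k (GLn n k) x z) (hzI : ∀ f ∈ I, z f = 0) :
    ∃ (lam : GLn n k →ₐc[k] k[T;T⁻¹]) (y : R →ₐ[k] k), GLin.IsLimit k (GLn n k) lam x y ∧ ∀ f ∈ I, y f = 0 := by
  rcases exists_dvr_point (GLin.orbitHom k (GLn n k) x) z hz with ⟨g, hg⟩ |
    ⟨O, i1, i2, i3, i4, K, j1, j2, j3, j4, j5, g, h, hgh, hh⟩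
  · -- `z` is in the orbit, so `x` is in the zero set
    obtain ⟨lam, _, hlam⟩ := exists_trivial_limit (A := GLn n k) x
    refine ⟨lam, x, hlam, ?_⟩
    have hgz : mv x (Pt.mk g) = z := by
      have := comp_orbitHom x (Pt.mk g)
      rw [ofId_self_comp] at this
      rw [← this]
      exact hg
    have hx : mv z (Pt.mk g)⁻¹ = x := by
      rw [← hgz, mv_mul, mul_inv_cancel, mv_one]
    intro f hf
    rw [← hx]
    exact mv_mem_of_stable hI ⊥ z hzI _ f hf
  · obtain ⟨lam, y, h1, h2, _⟩ := hm_GLn_dvr (O := O) (K := K) I hI x (Pt.mk g) h (by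
      rw [hgh]
      exact comp_orbitHom x (Pt.mk g)) (fun f hf => hh f (hzI f hf))
    exact ⟨lam, y, h1, h2⟩

end HM2

end K687
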