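import Mathlib.AlgebraicGeometry.AffineScheme
import Mathlib.AlgebraicGeometry.Gluing
import Mathlib.AlgebraicGeometry.Restrict
import Mathlib.AlgebraicGeometry.Pullbacks
import Mathlib.Tactic

/-!
# Descent of morphisms along a morphism whose structure sheaf is the sheaf of invariant functions

`K687.hom_eq_of_comp_eq`: a surjective morphism `φ` with injective maps on sections over every open is an
epimorphism of schemes.
`K687.existsUnique_desc`: if moreover the sections of `Y` over `U` are the sections of `X` over `φ⁻¹U` equalised by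
`σ, p : G ⟶ X`, then a morphism `ψ : X ⟶ Z` equalised by `σ, p` descends to `Y`, provided every point of `Y` has an
open neighbourhood `U` with `φ⁻¹U ≤ ψ⁻¹V` for some affine open `V` of `Z`.
-/

set_option autoImplicit false

universe u

open CategoryTheory Limits AlgebraicGeometry TopologicalSpace Opposite

namespace K687

theorem hom_eq_of_comp_eq {X Y Z : Scheme.{u}} (φ : X ⟶ Y) (hs : Function.Surjective φ.base)
    (hinj : ∀ U : Y.Opens, Function.Injective (φ.app U)) (a b : Y ⟶ Z) (h : φ ≫ a = φ ≫ b) :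
    a = b := by
  have hbase : a.base = b.base := by
    ext y
    obtain ⟨x, rfl⟩ := hs y
    have := congrArg (fun f : X ⟶ Z => f.base x) h
    simpa using this
  refine Scheme.Hom.ext hbase fun U => ?_
  change a.appLE U (b ⁻¹ᵁ U) _ = _
  have hle : b ⁻¹ᵁ U ≤ a ⁻¹ᵁ U := by
    rw [show a ⁻¹ᵁ U = b ⁻¹ᵁ U from congrArg (fun f => (Opens.map f).obj U) hbase]
  have hb : b.app U = b.appLE U (b ⁻¹ᵁ U) le_rfl := by rw [Scheme.Hom.appLE_eq_app]
  rw [hb]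
  apply CommRingCat.hom_ext
  ext s
  apply hinj (b ⁻¹ᵁ U)
  have h1 : ∀ (c : Y ⟶ Z) (e : b ⁻¹ᵁ U ≤ c ⁻¹ᵁ U) (e' : φ ⁻¹ᵁ (b ⁻¹ᵁ U) ≤ (φ ≫ c) ⁻¹ᵁ U),
      φ.app (b ⁻¹ᵁ U) (c.appLE U (b ⁻¹ᵁ U) e s) = (φ ≫ c).appLE U (φ ⁻¹ᵁ (b ⁻¹ᵁ U)) e' s := by
    intro c e e'
    rw [← ConcreteCategory.comp_apply]
    congr 2
    rw [Scheme.Hom.app_eq_appLE, Scheme.Hom.appLE_comp_appLE]
  rw [h1 a hle (by exact (Opens.map φ.base).monotone hle), h1 b le_rfl le_rfl]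
  have h2 : ∀ (f g : X ⟶ Z) (W : X.Opens) (ef : W ≤ f ⁻¹ᵁ U) (eg : W ≤ g ⁻¹ᵁ U), f = g →
      f.appLE U W ef s = g.appLE U W eg s := by
    intro f g W ef eg hfg
    subst hfg
    rfl
  exact h2 _ _ _ _ _ h

/-- The restriction of `φ` to an open of the target has the same property. -/
theorem morphismRestrict_surjective {X Y : Scheme.{u}} (φ : X ⟶ Y) (hs : Function.Surjective φ.base)
    (W : Y.Opens) : Function.Surjective (φ ∣_ W).base := by
  intro y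
  obtain ⟨x, hx⟩ := hs y.1
  have hx' : x ∈ φ ⁻¹ᵁ W := by
    change φ.base x ∈ W
    rw [hx]; exact y.2
  refine ⟨⟨x, hx'⟩, ?_⟩
  have h1 : (W.ι).base ((φ ∣_ W).base ⟨x, hx'⟩) = (W.ι).base y := by
    have := congrArg (fun f : (φ ⁻¹ᵁ W).toScheme ⟶ Y => f.base ⟨x, hx'⟩) (morphismRestrict_ι φ W)
    simp only [Scheme.Hom.comp_base] at this
    refine this.trans ?_
    exact hx
  exact W.ι.isOpenEmbedding.injective h1

theorem morphismRestrict_injective {X Y : Scheme.{u}} (φ : X ⟶ Y)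
    (hinj : ∀ U : Y.Opens, Function.Injective (φ.app U)) (W : Y.Opens) (U : W.toScheme.Opens) :
    Function.Injective ((φ ∣_ W).app U) := by
  have h0 := morphismRestrict_app φ W U
  have h1 : Function.Injective (X.presheaf.map (eqToHom (image_morphismRestrict_preimage φ W U)).op) := by
    apply (ConcreteCategory.bijective_of_isIso _).1
  intro a b hab
  have h2 : ∀ c : Γ(W.toScheme, U), (φ ∣_ W).app U c =
      X.presheaf.map (eqToHom (image_morphismRestrict_preimage φ W U)).op (φ.app (W.ι ''ᵁ U) c) := by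
    intro c
    rw [h0]
    rfl
  rw [h2, h2] at hab
  exact hinj _ (h1 hab)

/-- Descent on an open of the target mapping into an affine open. -/
theorem exists_desc_local {X Y Z G : Scheme.{u}} (φ : X ⟶ Y) (σ p : G ⟶ X)
    (hinj : ∀ U : Y.Opens, Function.Injective (φ.app U))
    (hrange : ∀ (U : Y.Opens) (f : Γ(X, φ ⁻¹ᵁ U)),
      σ.appLE (φ ⁻¹ᵁ U) (σ ⁻¹ᵁ (φ ⁻¹ᵁ U) ⊓ p ⁻¹ᵁ (φ ⁻¹ᵁ U)) inf_le_left f =
        p.appLE (φ ⁻¹ᵁ U) (σ ⁻¹ᵁ (φ ⁻¹ᵁ U) ⊓ p ⁻¹ᵁ (φ ⁻¹ᵁ U)) inf_le_right f →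
      ∃ g, φ.app U g = f)
    (ψ : X ⟶ Z) (hψ : σ ≫ ψ = p ≫ ψ) (U : Y.Opens) (V : Z.Opens) (hV : IsAffineOpen V)
    (hUV : φ ⁻¹ᵁ U ≤ ψ ⁻¹ᵁ V) :
    ∃ χ : U.toScheme ⟶ Z, (φ ∣_ U) ≫ χ = (φ ⁻¹ᵁ U).ι ≫ ψ := by
  have hex : ∀ s : Γ(Z, V), ∃ g, φ.app U g = ψ.appLE V (φ ⁻¹ᵁ U) hUV s := by
    intro s
    apply hrange
    rw [← ConcreteCategory.comp_apply, ← ConcreteCategory.comp_apply, Scheme.Hom.appLE_comp_appLE,
      Scheme.Hom.appLE_comp_appLE]
    have h2 : ∀ (f g : G ⟶ Z) (W : G.Opens) (ef : W ≤ f ⁻¹ᵁ V) (eg : W ≤ g ⁻¹ᵁ V), f = g →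
        f.appLE V W ef s = g.appLE V W eg s := by
      intro f g W ef eg hfg
      subst hfg
      rfl
    exact h2 _ _ _ _ _ hψ
  choose g hg using hex
  let θ : Γ(Z, V) →+* Γ(Y, U) :=
    { toFun := g
      map_one' := hinj U (by rw [hg, map_one, map_one])
      map_mul' := fun a b => hinj U (by rw [hg, map_mul, map_mul, hg, hg])
      map_zero' := hinj U (by rw [hg, map_zero, map_zero])
      map_add' := fun a b => hinj U (by rw [hg, map_add, map_add, hg, hg]) }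
  have hθ : CommRingCat.ofHom θ ≫ φ.app U = ψ.appLE V (φ ⁻¹ᵁ U) hUV := by
    apply CommRingCat.hom_ext
    ext s
    exact hg s
  refine ⟨U.toSpecΓ ≫ Spec.map (CommRingCat.ofHom θ) ≫ hV.fromSpec, ?_⟩
  rw [← Category.assoc, ← Scheme.Opens.toSpecΓ_naturality, Category.assoc, ← Category.assoc (Spec.map _),
    ← Spec.map_comp, hθ, ← Category.assoc, Scheme.Opens.toSpecΓ_SpecMap_appLE, Category.assoc,
    hV.toSpecΓ_fromSpec, Scheme.Hom.resLE_comp_ι]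

/-- Descent of an invariant morphism. -/
theorem existsUnique_desc {X Y Z G : Scheme.{u}} (φ : X ⟶ Y) (σ p : G ⟶ X)
    (hs : Function.Surjective φ.base)
    (hinj : ∀ U : Y.Opens, Function.Injective (φ.app U))
    (hrange : ∀ (U : Y.Opens) (f : Γ(X, φ ⁻¹ᵁ U)),
      σ.appLE (φ ⁻¹ᵁ U) (σ ⁻¹ᵁ (φ ⁻¹ᵁ U) ⊓ p ⁻¹ᵁ (φ ⁻¹ᵁ U)) inf_le_left f =
        p.appLE (φ ⁻¹ᵁ U) (σ ⁻¹ᵁ (φ ⁻¹ᵁ U) ⊓ p ⁻¹ᵁ (φ ⁻¹ᵁ U)) inf_le_right f →
      ∃ g, φ.app U g = f)
    (ψ : X ⟶ Z) (hψ : σ ≫ ψ = p ≫ ψ)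
    (hcov : ∀ y : Y, ∃ U : Y.Opens, y ∈ U ∧ ∃ V : Z.Opens, IsAffineOpen V ∧ φ ⁻¹ᵁ U ≤ ψ ⁻¹ᵁ V) :
    ∃! χ : Y ⟶ Z, φ ≫ χ = ψ := by
  choose U hyU V hV hUV using hcov
  choose χ hχ using fun y => exists_desc_local φ σ p hinj hrange ψ hψ (U y) (V y) (hV y) (hUV y)
  have hcover : IsOpenCover U := by
    rw [IsOpenCover, eq_top_iff]
    intro y _
    rw [Opens.mem_iSup]
    exact ⟨y, hyU y⟩
  let 𝒰 := Y.openCoverOfIsOpenCover U hcover
  have hcompat : ∀ x y : Y, pullback.fst (U x).ι (U y).ι ≫ χ x = pullback.snd (U x).ι (U y).ι ≫ χ y := by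
    intro x y
    let W : Y.Opens := U x ⊓ U y
    have e1 : W ≤ U x := inf_le_left
    have e2 : W ≤ U y := inf_le_right
    have hW : Y.homOfLE e1 ≫ χ x = Y.homOfLE e2 ≫ χ y := by
      apply hom_eq_of_comp_eq (φ ∣_ W) (morphismRestrict_surjective φ hs W)
        (morphismRestrict_injective φ hinj W)
      have key : ∀ z (e : W ≤ U z), φ ∣_ W ≫ Y.homOfLE e ≫ χ z = (φ ⁻¹ᵁ W).ι ≫ ψ := by
        intro z e
        have h1 : φ ∣_ W ≫ Y.homOfLE e = X.homOfLE ((Opens.map φ.base).monotone e) ≫ φ ∣_ (U z) := by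
          rw [← cancel_mono (U z).ι, Category.assoc, Category.assoc, Scheme.homOfLE_ι, morphismRestrict_ι,
            morphismRestrict_ι, ← Category.assoc, Scheme.homOfLE_ι]
        rw [← Category.assoc, h1, Category.assoc, hχ z, ← Category.assoc, Scheme.homOfLE_ι]
      rw [key x e1, key y e2]
    have hr : Set.range (pullback.fst (U x).ι (U y).ι ≫ (U x).ι).base ⊆ Set.range (W.ι).base := by
      rintro _ ⟨t, rfl⟩
      have hWr : Set.range (W.ι).base = (W : Set Y) := Scheme.Opens.range_ι W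
      rw [hWr]
      refine ⟨?_, ?_⟩
      · exact ((pullback.fst (U x).ι (U y).ι).base t).2
      · rw [pullback.condition]
        exact ((pullback.snd (U x).ι (U y).ι).base t).2
    let t := IsOpenImmersion.lift W.ι (pullback.fst (U x).ι (U y).ι ≫ (U x).ι) hr
    have ht : t ≫ W.ι = pullback.fst (U x).ι (U y).ι ≫ (U x).ι := IsOpenImmersion.lift_fac _ _ _
    have h1 : pullback.fst (U x).ι (U y).ι = t ≫ Y.homOfLE e1 := by
      rw [← cancel_mono (U x).ι, Category.assoc, Scheme.homOfLE_ι, ht]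
    have h2 : pullback.snd (U x).ι (U y).ι = t ≫ Y.homOfLE e2 := by
      rw [← cancel_mono (U y).ι, Category.assoc, Scheme.homOfLE_ι, ht, pullback.condition]
    rw [h1, h2, Category.assoc, Category.assoc, hW]
  let χ' : Y ⟶ Z := 𝒰.glueMorphisms χ hcompat
  have hχ' : ∀ y, (U y).ι ≫ χ' = χ y := fun y => 𝒰.ι_glueMorphisms χ hcompat y
  refine ⟨χ', ?_, ?_⟩
  · change φ ≫ χ' = ψ
    have hcover' : IsOpenCover (fun y => φ ⁻¹ᵁ (U y)) := by
      rw [IsOpenCover, eq_top_iff]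
      intro x _
      rw [Opens.mem_iSup]
      exact ⟨φ.base x, hyU (φ.base x)⟩
    apply (X.openCoverOfIsOpenCover _ hcover').hom_ext
    intro y
    change (φ ⁻¹ᵁ (U y)).ι ≫ φ ≫ χ' = (φ ⁻¹ᵁ (U y)).ι ≫ ψ
    rw [← Category.assoc, ← morphismRestrict_ι, Category.assoc, hχ' y, hχ y]
  · intro χ'' h
    apply hom_eq_of_comp_eq φ hs hinj
    rw [h]
    have hcover' : IsOpenCover (fun y => φ ⁻¹ᵁ (U y)) := by
      rw [IsOpenCover, eq_top_iff]
      intro x _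
      rw [Opens.mem_iSup]
      exact ⟨φ.base x, hyU (φ.base x)⟩
    apply (X.openCoverOfIsOpenCover _ hcover').hom_ext
    intro y
    change (φ ⁻¹ᵁ (U y)).ι ≫ ψ = (φ ⁻¹ᵁ (U y)).ι ≫ φ ≫ χ'
    rw [← Category.assoc, ← morphismRestrict_ι, Category.assoc, hχ' y, hχ y]

end K687
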