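import Groth.Prelude.Def_W4bk4git07Quot
import Groth.Agent.GIT.K687.Desc

/-!
# Categorical quotients from invariant functions
-/

set_option autoImplicit false

universe u

open CategoryTheory MonoidalCategory CartesianMonoidalCategory MonObj AlgebraicGeometry TopologicalSpace

namespace K687

variable {S : Scheme.{u}} {G : Over S} [GrpObj G]

/-- If `O_Y` is the sheaf of invariant functions, `φ` is surjective and invariant morphisms to `Z` are locally
constrained to affine opens, then `φ` is a categorical quotient. -/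
theorem isCatQuot_of_cov {X Y : Over S} (a : AlgGrp.Action G X) (φ : X ⟶ Y) (hi : GIT.IsInvariant a φ)
    (hs : Function.Surjective φ.left.base)
    (hii : ∀ U : Y.left.Opens,
      Function.Injective (φ.left.app U) ∧ Set.range (φ.left.app U) = {f | GIT.IsInvSection a φ U f})
    (hcov : ∀ (Z : Over S) (ψ : X ⟶ Z), GIT.IsInvariant a ψ → ∀ y : Y.left, ∃ U : Y.left.Opens,
      y ∈ U ∧ ∃ V : Z.left.Opens, IsAffineOpen V ∧ φ.left ⁻¹ᵁ U ≤ ψ.left ⁻¹ᵁ V) :
    GIT.IsCatQuot a φ := by
  refine ⟨hi, fun Z ψ hψ => ?_⟩
  have hinj : ∀ U : Y.left.Opens, Function.Injective (φ.left.app U) := fun U => (hii U).1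
  obtain ⟨χ, hχ, huniq⟩ := existsUnique_desc φ.left a.act.left (snd G X).left hs hinj
    (fun U f hf => by
      have h1 : f ∈ Set.range (φ.left.app U) := by
        rw [(hii U).2]
        exact hf
      exact h1) ψ.left hψ.left (hcov Z ψ hψ)
  have hover : χ ≫ Z.hom = Y.hom := by
    apply hom_eq_of_comp_eq φ.left hs hinj
    have hχ' : φ.left ≫ χ = ψ.left := hχ
    rw [← Category.assoc, hχ', Over.w, Over.w]
  refine ⟨Over.homMk χ hover, ?_, ?_⟩
  · apply Over.OverMorphism.ext
    exact hχ
  · intro χ' h'
    apply Over.OverMorphism.ext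
    apply huniq
    have := congrArg (fun f => f.left) h'
    exact this

/-- A morphism with injective maps on sections over all opens and closed image is surjective. -/
theorem surjective_of_injective_of_isClosed_range {X Y : Scheme.{u}} (φ : X ⟶ Y)
    (hinj : ∀ U : Y.Opens, Function.Injective (φ.app U)) (hc : IsClosed (Set.range φ.base)) :
    Function.Surjective φ.base := by
  intro y
  by_contra hy
  let U : Y.Opens := ⟨(Set.range φ.base)ᶜ, hc.isOpen_compl⟩
  have hyU : y ∈ U := hy
  have hbot : φ ⁻¹ᵁ U = ⊥ := by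
    ext x
    constructor
    · intro hx
      exact absurd ⟨x, rfl⟩ hx
    · intro hx
      exact absurd hx (by simp)
  haveI : Nonempty U := ⟨⟨y, hyU⟩⟩
  haveI : Nontrivial Γ(Y, U) := inferInstance
  have hsub : Subsingleton Γ(X, φ ⁻¹ᵁ U) := by
    rw [hbot]
    infer_instance
  have h01 : (0 : Γ(Y, U)) = 1 := hinj U (Subsingleton.elim _ _)
  exact zero_ne_one h01

end K687
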