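import Groth.Agent.InvQ.K702.Forms

/-!
# Forms are homogeneous, and so are their linear substitutions
-/

set_option autoImplicit false

universe u

open MvPolynomial

namespace K687

variable {k : Type u} [CommRing k] {N d : ℕ}

theorem isHomogeneous_formPoly (a : CoordGrp.FormIdx N d → k) : (CoordGrp.formPoly a).IsHomogeneous d :=
  IsHomogeneous.sum _ _ _ fun e _ => isHomogeneous_monomial _ (by
    exact e.2)

theorem isHomogeneous_sub (M : Matrix (Fin N) (Fin N) k) {F : MvPolynomial (Fin N) k} (hF : F.IsHomogeneous d) :
    (K702.Forms.sub M F).IsHomogeneous d := by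
  have := hF.aeval (R := k) (n := 1) (fun i => ∑ j, C (M i j) * X j) (fun i => IsHomogeneous.sum _ _ _ fun j _ => by
    have := (isHomogeneous_C (Fin N) (M i j)).mul (isHomogeneous_X k j)
    rwa [zero_add] at this)
  rwa [one_mul] at this

/-- A nonzero coefficient of a form of degree `d` is at an exponent of degree `d`. -/
theorem degree_of_coeff_ne_zero {F : MvPolynomial (Fin N) k} (hF : F.IsHomogeneous d) {e : Fin N →₀ ℕ}
    (he : coeff e F ≠ 0) : e.degree = d := by
  have := hF he
  rwa [Finsupp.degree_eq_weight_one]

end K687
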