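import Groth.Agent.InvQ.K702.Forms
import Groth.Agent.GIT.K687.FormHom
import Mathlib.Algebra.MvPolynomial.Division
import Mathlib.RingTheory.MvPolynomial.EulerIdentity

/-!
# Linear factors of binary forms and substitutions
-/

set_option autoImplicit false
set_option linter.unusedSectionVars false

universe u v

open MvPolynomial

namespace K687

section Div

variable {k : Type u} [CommRing k] {σ : Type v}

theorem X_pow_dvd_iff (i : σ) (m : ℕ) (F : MvPolynomial σ k) :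
    X i ^ m ∣ F ↔ ∀ e, coeff e F ≠ 0 → m ≤ e i := by
  classical
  rw [X_pow_eq_monomial, monomial_one_dvd_iff_modMonomial_eq_zero]
  have hle : ∀ e : σ →₀ ℕ, Finsupp.single i m ≤ e ↔ m ≤ e i := by
    intro e
    rw [Finsupp.single_le_iff]
  constructor
  · intro h e he
    by_contra hc
    have h1 := coeff_modMonomial_of_not_le F ((hle e).not.mpr hc)
    rw [h, coeff_zero] at h1
    exact he h1.symm
  · intro h
    ext e
    rw [coeff_zero]
    by_cases hc : Finsupp.single i m ≤ e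
    · exact coeff_modMonomial_of_le F hc
    · rw [coeff_modMonomial_of_not_le F hc]
      by_contra h0
      exact hc ((hle e).mpr (h e h0))

end Div

section Lin

open K702.Forms

variable {k : Type u} [Field k]

theorem exists_lin {ℓ : MvPolynomial (Fin 2) k} (hℓ : ℓ.IsHomogeneous 1) :
    ∃ a b : k, ℓ = C a * X 0 + C b * X 1 := by
  have h1 := hℓ.sum_X_mul_pderiv
  rw [one_smul, Fin.sum_univ_two] at h1
  have h2 : ∀ i, ∃ c : k, pderiv i ℓ = C c := by
    intro i
    have h3 := (hℓ.pderiv (i := i))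
    exact ⟨_, totalDegree_eq_zero_iff_eq_C.mp ((totalDegree_zero_iff_isHomogeneous _).mpr h3)⟩
  obtain ⟨a, ha⟩ := h2 0
  obtain ⟨b, hb⟩ := h2 1
  refine ⟨a, b, ?_⟩
  rw [← h1, ha, hb]
  ring

/-- A nonzero linear form in two variables becomes the first variable after an invertible substitution. -/
theorem exists_sub_eq_X {ℓ : MvPolynomial (Fin 2) k} (hℓ : ℓ.IsHomogeneous 1) (h0 : ℓ ≠ 0) :
    ∃ M : Matrix (Fin 2) (Fin 2) k, M.det ≠ 0 ∧ sub M ℓ = X 0 := by
  obtain ⟨a, b, rfl⟩ := exists_lin hℓ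
  obtain ⟨P, hP, hPX⟩ : ∃ P : Matrix (Fin 2) (Fin 2) k, P.det ≠ 0 ∧ sub P (X 0) = C a * X 0 + C b * X 1 := by
    by_cases ha : a = 0
    · have hb : b ≠ 0 := by
        rintro rfl
        apply h0
        rw [ha]; simp
      refine ⟨!![a, b; 1, 0], ?_, ?_⟩
      · rw [Matrix.det_fin_two_of]; simpa using hb
      · rw [sub_X, Fin.sum_univ_two]; rfl
    · refine ⟨!![a, b; 0, 1], ?_, ?_⟩
      · rw [Matrix.det_fin_two_of]; simpa using ha
      · rw [sub_X, Fin.sum_univ_two]; rfl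
  have hu : IsUnit P.det := isUnit_iff_ne_zero.mpr hP
  refine ⟨P⁻¹, ?_, ?_⟩
  · rw [Matrix.det_nonsing_inv]
    exact (hu.ringInverse).ne_zero
  · rw [← hPX, K702.Forms.sub_sub, Matrix.mul_nonsing_inv P hu, sub_one]

/-- A variable that divides a substituted form to a power gives a linear factor of the form. -/
theorem exists_lin_pow_dvd {F : MvPolynomial (Fin 2) k} (M : Matrix (Fin 2) (Fin 2) k) (hM : M.det ≠ 0) (i : Fin 2)
    (m : ℕ) (h : ∀ e, coeff e (sub M F) ≠ 0 → m ≤ e i) :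
    ∃ ℓ : MvPolynomial (Fin 2) k, ℓ.IsHomogeneous 1 ∧ ℓ ≠ 0 ∧ ℓ ^ m ∣ F := by
  have hu : IsUnit M.det := isUnit_iff_ne_zero.mpr hM
  have h1 := (X_pow_dvd_iff i m (sub M F)).mpr h
  refine ⟨sub M⁻¹ (X i), isHomogeneous_sub _ (isHomogeneous_X k i), ?_, ?_⟩
  · intro h0
    have h2 : sub M (sub M⁻¹ (X i)) = X i := by
      rw [K702.Forms.sub_sub, Matrix.nonsing_inv_mul M hu, sub_one]
    rw [h0, map_zero] at h2
    exact X_ne_zero i h2.symm
  · have h2 := map_dvd (sub M⁻¹) h1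
    rwa [map_pow, K702.Forms.sub_sub, Matrix.mul_nonsing_inv M hu, sub_one] at h2

/-- A linear factor to a power gives, after an invertible substitution, a power of the first variable. -/
theorem exists_sub_of_pow_dvd {F ℓ : MvPolynomial (Fin 2) k} (hℓ : ℓ.IsHomogeneous 1) (h0 : ℓ ≠ 0) {m : ℕ}
    (h : ℓ ^ m ∣ F) :
    ∃ M : Matrix (Fin 2) (Fin 2) k, M.det ≠ 0 ∧ ∀ e, coeff e (sub M F) ≠ 0 → m ≤ e 0 := by
  obtain ⟨M, hM, hMℓ⟩ := exists_sub_eq_X hℓ h0
  refine ⟨M, hM, ?_⟩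
  rw [← X_pow_dvd_iff, ← hMℓ, ← map_pow]
  exact map_dvd _ h

end Lin

end K687
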