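import Mathlib.RingTheory.Smooth.Field
import Mathlib.RingTheory.Smooth.Basic
import Mathlib.RingTheory.Etale.Basic
import Mathlib.RingTheory.Kaehler.JacobiZariski
import Mathlib.RingTheory.Localization.FractionRing
import Mathlib.RingTheory.EssentialFiniteness
import Mathlib.FieldTheory.Perfect
import Mathlib.Tactic

/-!
# Extending derivations in characteristic zero
-/

set_option autoImplicit false

universe u v w

open TensorProduct

namespace K687

/-- A derivation with values in a field extends along a formally smooth map. -/
theorem exists_derivation_of_formallySmooth (k : Type u) (P : Type v) (K : Type w) [CommRing k] [CommRing P] [Field K]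
    [Algebra k P] [Algebra k K] [Algebra P K] [IsScalarTower k P K] [Algebra.FormallySmooth P K]
    (D : Derivation k P K) : ∃ D' : Derivation k K K, ∀ x, D' (algebraMap P K x) = D x := by
  have hinj : Function.Injective (KaehlerDifferential.mapBaseChange k P K) := by
    have h1 := Algebra.H1Cotangent.exact_δ_mapBaseChange k P K
    rw [injective_iff_map_eq_zero]
    intro x hx
    obtain ⟨y, rfl⟩ := (h1 x).mp hx
    rw [Subsingleton.elim y 0, map_zero]
  obtain ⟨g, hg⟩ := LinearMap.exists_leftInverse_of_injective (KaehlerDifferential.mapBaseChange k P K)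
    (LinearMap.ker_eq_bot.mpr hinj)
  let l : Ω[K⁄k] →ₗ[K] K := (LinearMap.liftBaseChange K D.liftKaehlerDifferential).comp g
  refine ⟨l.compDer (KaehlerDifferential.D k K), fun x => ?_⟩
  change LinearMap.liftBaseChange K D.liftKaehlerDifferential (g (KaehlerDifferential.D k K (algebraMap P K x))) = D x
  have h2 : KaehlerDifferential.D k K (algebraMap P K x) =
      KaehlerDifferential.mapBaseChange k P K ((1 : K) ⊗ₜ[P] KaehlerDifferential.D k P x) := by
    rw [KaehlerDifferential.mapBaseChange_tmul, one_smul, KaehlerDifferential.map_D]
  have h3 := DFunLike.congr_fun hg ((1 : K) ⊗ₜ[P] KaehlerDifferential.D k P x)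
  rw [LinearMap.comp_apply, LinearMap.id_apply] at h3
  rw [h2, h3, LinearMap.liftBaseChange_tmul, one_smul, Derivation.liftKaehlerDifferential_comp_D]

/-- In characteristic zero, a derivation from a subalgebra of a finitely generated domain extends up to a nonzero
factor. -/
theorem exists_derivation_of_charZero {k : Type u} [Field k] [CharZero k] {B : Type v} [CommRing B] [IsDomain B]
    [Algebra k B] [Algebra.FiniteType k B] (S : Subalgebra k B) (D : Derivation k S B) :
    ∃ (c : B) (E : Derivation k B B), c ≠ 0 ∧ ∀ f : S, E (f : B) = c * D f := by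
  classical
  let F := FractionRing B
  have hinjBF : Function.Injective (algebraMap B F) := IsFractionRing.injective B F
  haveI : FaithfulSMul S F := by
    rw [faithfulSMul_iff_algebraMap_injective]
    have h1 : algebraMap S F = (algebraMap B F).comp (algebraMap S B) := IsScalarTower.algebraMap_eq S B F
    rw [h1]
    exact hinjBF.comp Subtype.val_injective
  letI : Algebra (FractionRing S) F := FractionRing.liftAlgebra S F
  haveI : IsScalarTower S (FractionRing S) F := FractionRing.isScalarTower_liftAlgebra S F
  haveI : IsScalarTower k (FractionRing S) F := by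
    refine IsScalarTower.of_algebraMap_eq fun x => ?_
    rw [IsScalarTower.algebraMap_apply k S (FractionRing S), ← IsScalarTower.algebraMap_apply S (FractionRing S) F,
      IsScalarTower.algebraMap_apply k S F]
  haveI : CharZero (FractionRing S) := charZero_of_injective_algebraMap (algebraMap k (FractionRing S)).injective
  haveI : Algebra.EssFiniteType k F := Algebra.EssFiniteType.comp k B F
  haveI : Algebra.EssFiniteType (FractionRing S) F := Algebra.EssFiniteType.of_comp k (FractionRing S) F
  haveI : Algebra.FormallySmooth (FractionRing S) F := inferInstance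
  haveI : Algebra.FormallyEtale S (FractionRing S) := Algebra.FormallyEtale.of_isLocalization (nonZeroDivisors S)
  haveI : Algebra.FormallySmooth S F := Algebra.FormallySmooth.comp S (FractionRing S) F
  let DF : Derivation k S F := ((IsScalarTower.toAlgHom S B F).toLinearMap).compDer D
  obtain ⟨E, hE⟩ := exists_derivation_of_formallySmooth k S F DF
  -- clear denominators
  obtain ⟨s, hs⟩ := Algebra.FiniteType.out (R := k) (A := B)
  obtain ⟨c, hc⟩ := IsLocalization.exist_integer_multiples_of_finset (nonZeroDivisors B)
    (s.image fun b => E (algebraMap B F b))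
  have hc0 : (c : B) ≠ 0 := nonZeroDivisors.ne_zero c.2
  have hint : ∀ b : B, ∃ b' : B, algebraMap B F b' = (c : B) • E (algebraMap B F b) := by
    intro b
    have hb : b ∈ Algebra.adjoin k (s : Set B) := by rw [hs]; trivial
    induction hb using Algebra.adjoin_induction with
    | mem x hx =>
      obtain ⟨b', hb'⟩ := hc _ (Finset.mem_image_of_mem _ hx)
      exact ⟨b', hb'⟩
    | algebraMap r =>
      refine ⟨0, ?_⟩
      rw [map_zero, ← IsScalarTower.algebraMap_apply, Derivation.map_algebraMap, smul_zero]
    | add x y _ _ hx hy =>
      obtain ⟨x', hx'⟩ := hx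
      obtain ⟨y', hy'⟩ := hy
      exact ⟨x' + y', by rw [map_add, hx', hy', map_add, map_add, smul_add]⟩
    | mul x y _ _ hx hy =>
      obtain ⟨x', hx'⟩ := hx
      obtain ⟨y', hy'⟩ := hy
      refine ⟨x * y' + y * x', ?_⟩
      rw [map_add, map_mul, map_mul, hx', hy', map_mul, Derivation.leibniz, smul_eq_mul, smul_eq_mul,
        Algebra.smul_def, Algebra.smul_def, Algebra.smul_def]
      ring
  choose e he using hint
  refine ⟨c, Derivation.mk' { toFun := e, map_add' := fun x y => ?_, map_smul' := fun r x => ?_ } (fun x y => ?_), hc0,
    fun f => ?_⟩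
  · apply hinjBF
    rw [he, map_add, map_add, map_add, he, he, smul_add]
  · apply hinjBF
    have h1 : algebraMap B F (r • x) = r • algebraMap B F x := by
      rw [Algebra.algebraMap_eq_smul_one, Algebra.algebraMap_eq_smul_one, smul_assoc]
    have h2 : algebraMap B F (r • e x) = r • algebraMap B F (e x) := by
      rw [Algebra.algebraMap_eq_smul_one, Algebra.algebraMap_eq_smul_one, smul_assoc]
    rw [he, h1, Derivation.map_smul, RingHom.id_apply, h2, he, smul_comm]
  · apply hinjBF
    change algebraMap B F (e (x * y)) = algebraMap B F (x • e y + y • e x)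
    rw [he, map_mul, Derivation.leibniz, smul_eq_mul, smul_eq_mul, smul_eq_mul, smul_eq_mul, map_add, map_mul,
      map_mul, he, he, smul_add, Algebra.smul_def, Algebra.smul_def, Algebra.smul_def, Algebra.smul_def]
    ring
  · apply hinjBF
    change algebraMap B F (e (f : B)) = algebraMap B F (c * D f)
    have h1 : E (algebraMap S F f) = algebraMap B F (D f) := hE f
    have h2 : algebraMap S F f = algebraMap B F (f : B) := IsScalarTower.algebraMap_apply S B F f
    rw [he, ← h2, h1, Algebra.smul_def, map_mul]

end K687
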