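import Groth.Agent.GIT.K687.HMGLn
import Mathlib.LinearAlgebra.Matrix.MvPolynomial

/-!
# The coordinate ring of `GL_n` is a domain
-/

set_option autoImplicit false
set_option linter.unusedSectionVars false

universe u

open TensorProduct CoordGrp

namespace K687

section Dom

variable (k : Type u) [Field k] (n : ℕ)

/-- polynomial functions in the entries -/
noncomputable def entryPoly : MvPolynomial (Fin n × Fin n) k →ₐ[k] GLn n k :=
  MvPolynomial.aeval fun p => GLn.X p.1 p.2

theorem exists_mul_det_pow (a : GLn n k) : ∃ (N : ℕ) (p : MvPolynomial (Fin n × Fin n) k),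
    a * GLn.det ^ N = entryPoly k n p := by
  have hdet : ∃ q, (GLn.det : GLn n k) = entryPoly k n q := by
    refine ⟨(Matrix.mvPolynomialX (Fin n) (Fin n) k).det, ?_⟩
    rw [AlgHom.map_det, GLn.det_eq]
    congr 1
    ext i j
    change GLn.X i j = entryPoly k n (MvPolynomial.X (i, j))
    rw [entryPoly, MvPolynomial.aeval_X]
  obtain ⟨d, hd⟩ := hdet
  let ψ : MvPolynomial (GLPoly.Idx n) k →ₐ[k] GLn n k := GLn.mk n k
  have hψ : ∀ q, ∃ (N : ℕ) (p : MvPolynomial (Fin n × Fin n) k), ψ q * GLn.det ^ N = entryPoly k n p := by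
    intro q
    induction q using MvPolynomial.induction_on with
    | C c =>
      refine ⟨0, MvPolynomial.C c, ?_⟩
      rw [pow_zero, mul_one]
      have h1 : ψ (MvPolynomial.C c) = algebraMap k _ c := AlgHom.commutes ψ c
      have h2 : entryPoly k n (MvPolynomial.C c) = algebraMap k _ c := AlgHom.commutes (entryPoly k n) c
      rw [h1, h2]
    | add p q hp hq =>
      obtain ⟨N, p', hp'⟩ := hp
      obtain ⟨M, q', hq'⟩ := hq
      refine ⟨N + M, p' * d ^ M + q' * d ^ N, ?_⟩
      rw [map_add, map_add, map_mul, map_mul, map_pow, map_pow, ← hp', ← hq', ← hd]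
      ring
    | mul_X p s hp =>
      obtain ⟨N, p', hp'⟩ := hp
      rcases s with ⟨i, j⟩ | ⟨⟩
      · refine ⟨N, p' * MvPolynomial.X (i, j), ?_⟩
        rw [map_mul, map_mul, ← hp', entryPoly, MvPolynomial.aeval_X]
        have h1 : ψ (MvPolynomial.X (Sum.inl (i, j))) = GLn.X i j := rfl
        rw [h1]
        ring
      · refine ⟨N + 1, p', ?_⟩
        rw [← hp', map_mul]
        have h0 : ψ (MvPolynomial.X (Sum.inr ())) = GLn.Dinv := rfl
        have h1 : (GLn.Dinv : GLn n k) * GLn.det = 1 := GLn.Dinv_mul_det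
        rw [h0]
        calc ψ p * GLn.Dinv * (GLn.det : GLn n k) ^ (N + 1)
            = ψ p * (GLn.Dinv * GLn.det) * (GLn.det : GLn n k) ^ N := by ring
          _ = _ := by rw [h1, mul_one]
  obtain ⟨q, rfl⟩ := Ideal.Quotient.mk_surjective a
  exact hψ q

instance isDomain_GLn : IsDomain (GLn n k) := by
  let P := MvPolynomial (Fin n × Fin n) k
  have hdet : IsUnit ((Matrix.mvPolynomialX (Fin n) (Fin n) k).map (algebraMap P (FractionRing P))).det := by
    rw [isUnit_iff_ne_zero]
    have h1 : ((Matrix.mvPolynomialX (Fin n) (Fin n) k).map (algebraMap P (FractionRing P))).det =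
        algebraMap P (FractionRing P) (Matrix.mvPolynomialX (Fin n) (Fin n) k).det :=
      ((algebraMap P (FractionRing P)).map_det _).symm
    rw [h1]
    intro h
    exact Matrix.det_mvPolynomialX_ne_zero (Fin n) k (IsFractionRing.injective P (FractionRing P)
      (by rw [h, map_zero]))
  let φ := (GLn_pt (k := k) ((Matrix.mvPolynomialX (Fin n) (Fin n) k).map (algebraMap P (FractionRing P))) hdet).hom
  have hφ : ∀ p : P, φ (entryPoly k n p) = algebraMap P (FractionRing P) p := by
    intro p
    have h1 : φ.comp (entryPoly k n) = IsScalarTower.toAlgHom k P (FractionRing P) := by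
      apply MvPolynomial.algHom_ext
      rintro ⟨i, j⟩
      rw [AlgHom.comp_apply, entryPoly, MvPolynomial.aeval_X]
      exact GLn_pt_X _ hdet i j
    exact DFunLike.congr_fun h1 p
  have hinj : Function.Injective φ := by
    rw [injective_iff_map_eq_zero]
    intro a ha
    obtain ⟨N, p, hp⟩ := exists_mul_det_pow k n a
    have h1 : algebraMap P (FractionRing P) p = 0 := by
      rw [← hφ, ← hp, map_mul, ha, zero_mul]
    have h2 : p = 0 := IsFractionRing.injective P (FractionRing P) (by rw [h1, map_zero])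
    rw [h2, map_zero] at hp
    have h3 : (GLn.det : GLn n k) ^ N * GLn.Dinv ^ N = 1 := by
      rw [← mul_pow, GLn.det_mul_Dinv, one_pow]
    calc a = a * (GLn.det ^ N * GLn.Dinv ^ N) := by rw [h3, mul_one]
      _ = 0 := by rw [← mul_assoc, hp, zero_mul]
  exact hinj.isDomain φ.toRingHom

end Dom

end K687
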