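import Groth.Prelude.Def_HopfRep
import Mathlib.RingTheory.Bialgebra.MonoidAlgebra

/-!
# Weight decomposition for coactions of a monoid algebra
-/

set_option autoImplicit false
universe u v w
open scoped TensorProduct

namespace K687.MWt

variable {k : Type u} [CommRing k] {N : Type v} [CommMonoid N] {R : Type w} [AddCommGroup R] [Module k R]

variable (k) in
/-- the `m`-th coefficient, as a linear map -/
noncomputable def lc (m : N) : MonoidAlgebra k N →ₗ[k] k where
  toFun p := p.coeff m
  map_add' _ _ := by simp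
  map_smul' c p := by simp

theorem lc_apply (m : N) (p : MonoidAlgebra k N) : lc k m p = p.coeff m := rfl

theorem lc_single [DecidableEq N] (i j : N) : lc k j (MonoidAlgebra.single i 1) = if i = j then 1 else 0 := by
  rw [lc_apply, MonoidAlgebra.coeff_single, Finsupp.single_apply]

variable (k R) in
/-- the `m`-th coefficient on `R ⊗ k[N]` -/
noncomputable def tc (m : N) : R ⊗[k] MonoidAlgebra k N →ₗ[k] R :=
  (TensorProduct.rid k R).toLinearMap ∘ₗ (lc k m).lTensor R

@[simp] theorem tc_tmul (m : N) (r : R) (p : MonoidAlgebra k N) : tc k R m (r ⊗ₜ[k] p) = p.coeff m • r := by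
  simp [tc, lc_apply]

/-- every element of `R ⊗ k[N]` is the sum of its homogeneous components -/
theorem exists_expand (t : R ⊗[k] MonoidAlgebra k N) :
    ∃ s : Finset N, ∀ s' : Finset N, s ⊆ s' →
      t = ∑ m ∈ s', tc k R m t ⊗ₜ[k] (MonoidAlgebra.single m 1 : MonoidAlgebra k N) := by
  classical
  induction t using TensorProduct.induction_on with
  | zero => exact ⟨∅, fun s' _ => by simp⟩
  | tmul r p =>
    refine ⟨p.coeff.support, fun s' hs' => ?_⟩
    have h1 : p = ∑ m ∈ s', p.coeff m • (MonoidAlgebra.single m 1 : MonoidAlgebra k N) := by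
      have h2 : p = ∑ m ∈ p.coeff.support, p.coeff m • (MonoidAlgebra.single m 1 : MonoidAlgebra k N) := by
        conv_lhs => rw [← MonoidAlgebra.sum_coeff_single p]
        rw [Finsupp.sum]
        refine Finset.sum_congr rfl fun m _ => ?_
        rw [MonoidAlgebra.smul_single, smul_eq_mul, mul_one]
      conv_lhs => rw [h2]
      refine Finset.sum_subset hs' fun m _ hm => ?_
      rw [Finsupp.notMem_support_iff.1 hm, zero_smul]
    conv_lhs => rw [h1]
    rw [TensorProduct.tmul_sum]
    refine Finset.sum_congr rfl fun m _ => ?_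
    rw [tc_tmul, TensorProduct.tmul_smul, TensorProduct.smul_tmul']
  | add x y hx hy =>
    obtain ⟨s, hs⟩ := hx
    obtain ⟨s₂, hs₂⟩ := hy
    refine ⟨s ∪ s₂, fun s' hs' => ?_⟩
    conv_lhs => rw [hs s' (Finset.union_subset_left hs'), hs₂ s' (Finset.union_subset_right hs')]
    rw [← Finset.sum_add_distrib]
    refine Finset.sum_congr rfl fun m _ => ?_
    rw [map_add, TensorProduct.add_tmul]

variable (ρ : R →ₗ[k] R ⊗[k] MonoidAlgebra k N)

/-- the weight components are eigenvectors -/
theorem rho_tc (hco : ∀ r, TensorProduct.assoc k R (MonoidAlgebra k N) (MonoidAlgebra k N)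
      (LinearMap.rTensor _ ρ (ρ r)) =
        LinearMap.lTensor R (CoalgebraStruct.comul (R := k) (A := MonoidAlgebra k N)) (ρ r))
    (m : N) (f : R) :
    ρ (tc k R m (ρ f)) = tc k R m (ρ f) ⊗ₜ[k] (MonoidAlgebra.single m 1 : MonoidAlgebra k N) := by
  classical
  have hco := hco f
  obtain ⟨s, hs⟩ := exists_expand (ρ f)
  have hs1 := hs (insert m s) (Finset.subset_insert m s)
  rw [hs1] at hco
  simp only [map_sum, LinearMap.rTensor_tmul, LinearMap.lTensor_tmul] at hco
  have h2 := congrArg (fun z => LinearMap.lTensor R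
    ((TensorProduct.rid k (MonoidAlgebra k N)).toLinearMap ∘ₗ
      LinearMap.lTensor (MonoidAlgebra k N) (lc k m)) z) hco
  simp only [map_sum] at h2
  have key1 : ∀ (x : R ⊗[k] MonoidAlgebra k N) (i : N), (LinearMap.lTensor R
      ((TensorProduct.rid k (MonoidAlgebra k N)).toLinearMap ∘ₗ
        LinearMap.lTensor (MonoidAlgebra k N) (lc k m)))
      ((TensorProduct.assoc k R (MonoidAlgebra k N) (MonoidAlgebra k N))
        (x ⊗ₜ[k] (MonoidAlgebra.single i 1 : MonoidAlgebra k N))) =
      if i = m then x else 0 := by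
    intro x i
    induction x using TensorProduct.induction_on with
    | zero => simp
    | tmul y p =>
      rw [TensorProduct.assoc_tmul, LinearMap.lTensor_tmul, LinearMap.comp_apply,
        LinearMap.lTensor_tmul, lc_single]
      split_ifs <;> simp
    | add x y hx hy =>
      rw [TensorProduct.add_tmul, map_add, map_add, hx, hy]
      split_ifs <;> simp
  have key2 : ∀ (y : R) (i : N), (LinearMap.lTensor R
      ((TensorProduct.rid k (MonoidAlgebra k N)).toLinearMap ∘ₗ
        LinearMap.lTensor (MonoidAlgebra k N) (lc k m)))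
      (y ⊗ₜ[k] (CoalgebraStruct.comul (R := k) (MonoidAlgebra.single i 1 : MonoidAlgebra k N))) =
      if i = m then y ⊗ₜ[k] (MonoidAlgebra.single i 1 : MonoidAlgebra k N) else 0 := by
    intro y i
    have hc : CoalgebraStruct.comul (R := k) (MonoidAlgebra.single i 1 : MonoidAlgebra k N) =
        (MonoidAlgebra.single i 1 : MonoidAlgebra k N) ⊗ₜ[k] (MonoidAlgebra.single i 1 : MonoidAlgebra k N) := by
      simp [MonoidAlgebra.comul_single]
    rw [LinearMap.lTensor_tmul, LinearMap.comp_apply, hc, LinearMap.lTensor_tmul, lc_single]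
    split_ifs <;> simp
  simp only [key1, key2, Finset.sum_ite_eq', Finset.mem_insert_self, if_true] at h2
  exact h2

/-- the sum of the weight components -/
theorem sum_tc (hcu : ∀ r, LinearMap.lTensor R (CoalgebraStruct.counit (R := k) (A := MonoidAlgebra k N)) (ρ r) =
      r ⊗ₜ[k] (1 : k)) (f : R) {s : Finset N}
    (hs : ρ f = ∑ m ∈ s, tc k R m (ρ f) ⊗ₜ[k] (MonoidAlgebra.single m 1 : MonoidAlgebra k N)) :
    f = ∑ m ∈ s, tc k R m (ρ f) := by
  have h := congrArg (TensorProduct.rid k R) (hcu f)
  rw [hs] at h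
  simpa using h.symm

end K687.MWt
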