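import Groth.Agent.EqInt.K957.Pts
import Groth.Agent.Sga3C.ActBase
import Mathlib.AlgebraicGeometry.Morphisms.Proper
import Mathlib.AlgebraicGeometry.Morphisms.QuasiFinite

/-!
# The morphism `Ψ = (σ, p₂)` of an action: restriction to equivariant monomorphisms, locality, base change
-/

set_option autoImplicit false
universe u
open CategoryTheory CategoryTheory.Limits MonoidalCategory CartesianMonoidalCategory MonObj GrpObj AlgebraicGeometry

namespace K687.PsiLoc

open K957.Pts

section Cart

variable {S : Scheme.{u}} {G X X' : Over S} [GrpObj G] (a : AlgGrp.Action G X) (a' : AlgGrp.Action G X')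

theorem psi_fst : GIT.psi a (𝟙 X) ≫ fst X X = a.act := by
  rw [GIT.psi, lift_fst, MonoidalCategory.whiskerLeft_id, Category.id_comp]

theorem psi_snd : GIT.psi a (𝟙 X) ≫ snd X X = snd G X := by
  rw [GIT.psi, lift_snd]

theorem lift_psi {T : Over S} (g : T ⟶ G) (x : T ⟶ X) :
    lift g x ≫ GIT.psi a (𝟙 X) = lift (dot a g x) x := by
  apply CartesianMonoidalCategory.hom_ext
  · rw [Category.assoc, psi_fst, lift_fst]
    rfl
  · rw [Category.assoc, psi_snd, lift_snd, lift_snd]

/-- for an equivariant monomorphism the `Ψ`-square is cartesian -/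
theorem isPullback_psi {i : X' ⟶ X} [Mono i] (hi : AlgGrp.Action.IsEquivariant a' a i) :
    IsPullback (G ◁ i) (GIT.psi a' (𝟙 X')) (GIT.psi a (𝟙 X)) (i ⊗ₘ i) := by
  have w : (G ◁ i) ≫ GIT.psi a (𝟙 X) = GIT.psi a' (𝟙 X') ≫ (i ⊗ₘ i) := by
    apply CartesianMonoidalCategory.hom_ext
    · rw [Category.assoc, Category.assoc, tensorHom_fst, psi_fst, reassoc_of% psi_fst a']
      exact hi.symm
    · rw [Category.assoc, Category.assoc, tensorHom_snd, psi_snd, reassoc_of% psi_snd a', whiskerLeft_snd]
  refine ⟨⟨w⟩, ⟨PullbackCone.IsLimit.mk _ (fun c => lift (c.fst ≫ fst G X) (c.snd ≫ snd X' X')) ?_ ?_ ?_⟩⟩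
  · intro c
    have h := c.condition =≫ snd X X
    rw [Category.assoc, Category.assoc, tensorHom_snd, psi_snd] at h
    rw [lift_whiskerLeft]
    apply CartesianMonoidalCategory.hom_ext
    · rw [lift_fst]
    · rw [lift_snd, h, Category.assoc]
  · intro c
    have h := c.condition =≫ snd X X
    have h2 := c.condition =≫ fst X X
    rw [Category.assoc, Category.assoc, tensorHom_snd, psi_snd] at h
    rw [Category.assoc, Category.assoc, tensorHom_fst, psi_fst] at h2
    rw [lift_psi]
    apply CartesianMonoidalCategory.hom_ext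
    · rw [lift_fst, ← cancel_mono i, dot_comp a' hi, Category.assoc, Category.assoc, ← h2, ← h, dot]
      congr 1
      apply CartesianMonoidalCategory.hom_ext
      · rw [lift_fst]
      · rw [lift_snd]
    · rw [lift_snd]
  · intro c m h1 h2
    apply CartesianMonoidalCategory.hom_ext
    · rw [lift_fst, ← h1, Category.assoc, whiskerLeft_fst]
    · rw [lift_snd, ← h2, Category.assoc, psi_snd]

theorem isPullback_psi_left {i : X' ⟶ X} [Mono i] (hi : AlgGrp.Action.IsEquivariant a' a i) :
    IsPullback (G ◁ i).left (GIT.psi a' (𝟙 X')).left (GIT.psi a (𝟙 X)).left (i ⊗ₘ i).left :=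
  isPullback_left (isPullback_psi a a' hi)

end Cart

section Loc

variable {S : Scheme.{u}} {G X : Over S} [GrpObj G] (a : AlgGrp.Action G X)

/-- the range of `i ⊗ i` for an open immersion `i` -/
theorem mem_range_tensor {X' : Over S} (i : X' ⟶ X) (z : (X ⊗ X).left)
    (h1 : (fst X X).left z ∈ Set.range i.left) (h2 : (snd X X).left z ∈ Set.range i.left) [Mono i] :
    z ∈ Set.range (i ⊗ₘ i).left := by
  obtain ⟨x1, hx1⟩ := h1
  obtain ⟨x2, hx2⟩ := h2
  have e1 : IsPullback (i ▷ X) (fst X' X) (fst X X) i := by
    refine ⟨⟨by rw [whiskerRight_fst]⟩, ⟨PullbackCone.IsLimit.mk _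
      (fun c => lift c.snd (c.fst ≫ snd X X)) ?_ ?_ ?_⟩⟩
    · intro c
      apply CartesianMonoidalCategory.hom_ext
      · simp [c.condition]
      · simp
    · intro c
      simp
    · intro c m h1 h2
      apply CartesianMonoidalCategory.hom_ext
      · rw [lift_fst, h2]
      · rw [lift_snd, ← h1]; simp
  have e2 : IsPullback (X' ◁ i) (snd X' X') (snd X' X) i := by
    refine ⟨⟨by rw [whiskerLeft_snd]⟩, ⟨PullbackCone.IsLimit.mk _
      (fun c => lift (c.fst ≫ fst X' X) c.snd) ?_ ?_ ?_⟩⟩
    · intro c
      apply CartesianMonoidalCategory.hom_ext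
      · simp
      · simp [c.condition]
    · intro c
      simp
    · intro c m h1 h2
      apply CartesianMonoidalCategory.hom_ext
      · rw [lift_fst, ← h1]; simp
      · rw [lift_snd, h2]
  obtain ⟨w, hw1, hw2⟩ := Scheme.exists_preimage_of_isPullback (isPullback_left e1) z x1 hx1.symm
  obtain ⟨v, hv1, hv2⟩ := Scheme.exists_preimage_of_isPullback (isPullback_left e2) w x2 (by
    rw [hx2, ← hw1]
    have : (i ▷ X).left ≫ (snd X X).left = (snd X' X).left := by
      rw [← Over.comp_left, whiskerRight_snd]
    rw [← this]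
    rfl)
  refine ⟨v, ?_⟩
  have : (i ⊗ₘ i) = (X' ◁ i) ≫ (i ▷ X) := by
    apply CartesianMonoidalCategory.hom_ext <;> simp
  rw [this, Over.comp_left, Scheme.Hom.comp_apply, hv1, hw1]

instance isOpenImmersion_tensor {X' : Over S} (i : X' ⟶ X) [IsOpenImmersion i.left] :
    IsOpenImmersion (i ⊗ₘ i).left := by
  have : (i ⊗ₘ i) = (X' ◁ i) ≫ (i ▷ X) := by
    apply CartesianMonoidalCategory.hom_ext <;> simp
  rw [this, Over.comp_left]
  have h1 : IsOpenImmersion (X' ◁ i).left := by
    have e2 : IsPullback (X' ◁ i) (snd X' X') (snd X' X) i := by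
      refine ⟨⟨by rw [whiskerLeft_snd]⟩, ⟨PullbackCone.IsLimit.mk _
        (fun c => lift (c.fst ≫ fst X' X) c.snd) ?_ ?_ ?_⟩⟩
      · intro c
        apply CartesianMonoidalCategory.hom_ext
        · simp
        · simp [c.condition]
      · intro c
        simp
      · intro c m h1 h2
        apply CartesianMonoidalCategory.hom_ext
        · rw [lift_fst, ← h1]; simp
        · rw [lift_snd, h2]
    exact MorphismProperty.of_isPullback (P := @IsOpenImmersion) (isPullback_left e2).flip inferInstance
  have h2 : IsOpenImmersion (i ▷ X).left := by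
    have e1 : IsPullback (i ▷ X) (fst X' X) (fst X X) i := by
      refine ⟨⟨by rw [whiskerRight_fst]⟩, ⟨PullbackCone.IsLimit.mk _
        (fun c => lift c.snd (c.fst ≫ snd X X)) ?_ ?_ ?_⟩⟩
      · intro c
        apply CartesianMonoidalCategory.hom_ext
        · simp [c.condition]
        · simp
      · intro c
        simp
      · intro c m h1 h2
        apply CartesianMonoidalCategory.hom_ext
        · rw [lift_fst, h2]
        · rw [lift_snd, ← h1]; simp
    exact MorphismProperty.of_isPullback (P := @IsOpenImmersion) (isPullback_left e1).flip inferInstance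
  infer_instance

/-- `Ψ` is proper as soon as its range is closed and it is proper on the members of a covering by stable opens. -/
theorem isProper_of_cover (hcl : IsClosed (Set.range (GIT.psi a (𝟙 X)).left))
    (H : ∀ x : X.left, ∃ (X' : Over S) (a' : AlgGrp.Action G X') (i : X' ⟶ X), IsOpenImmersion i.left ∧
      AlgGrp.Action.IsEquivariant a' a i ∧ x ∈ Set.range i.left ∧ IsProper (GIT.psi a' (𝟙 X')).left) :
    IsProper (GIT.psi a (𝟙 X)).left := by
  set f := (GIT.psi a (𝟙 X)).left with hf
  have key : ∀ z : (X ⊗ X).left, ∃ (U : Scheme.{u}) (j : U ⟶ (X ⊗ X).left), IsOpenImmersion j ∧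
      z ∈ Set.range j ∧ IsProper (pullback.snd f j) := by
    intro z
    by_cases hz : z ∈ Set.range f
    · obtain ⟨y, rfl⟩ := hz
      obtain ⟨X', a', i, h1, h2, h3, h4⟩ := H ((snd G X).left y)
      have : Mono i.left := inferInstance
      have : Mono i := Over.mono_of_mono_left _
      have sq := isPullback_psi_left a a' h2
      refine ⟨_, (i ⊗ₘ i).left, inferInstance, ?_, ?_⟩
      · apply mem_range_tensor
        · have e1 : f ≫ (fst X X).left = a.act.left := by rw [hf, ← Over.comp_left, psi_fst]
          have e2 : (fst X X).left (f y) = a.act.left y := by rw [← e1]; rfl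
          rw [e2]
          obtain ⟨x', hx'⟩ := h3
          have e3 : IsPullback (G ◁ i) (snd G X') (snd G X) i := by
            refine ⟨⟨by rw [whiskerLeft_snd]⟩, ⟨PullbackCone.IsLimit.mk _
              (fun c => lift (c.fst ≫ fst G X) c.snd) ?_ ?_ ?_⟩⟩
            · intro c
              apply CartesianMonoidalCategory.hom_ext
              · simp
              · simp [c.condition]
            · intro c
              simp
            · intro c m h1 h2
              apply CartesianMonoidalCategory.hom_ext
              · rw [lift_fst, ← h1]; simp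
              · rw [lift_snd, h2]
          obtain ⟨w, hw1, hw2⟩ := Scheme.exists_preimage_of_isPullback (isPullback_left e3) y x' hx'.symm
          refine ⟨a'.act.left w, ?_⟩
          have e4 : a'.act.left ≫ i.left = (G ◁ i).left ≫ a.act.left := by
            rw [← Over.comp_left, ← Over.comp_left]
            exact congrArg CommaMorphism.left h2
          rw [← hw1, ← Scheme.Hom.comp_apply, e4]
          rfl
        · have e1 : f ≫ (snd X X).left = (snd G X).left := by rw [hf, ← Over.comp_left, psi_snd]
          have e2 : (snd X X).left (f y) = (snd G X).left y := by rw [← e1]; rfl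
          rw [e2]
          exact h3
      · have e := sq.isoPullback_hom_snd
        rw [← e] at h4
        exact (MorphismProperty.cancel_left_of_respectsIso @IsProper _ _).mp h4
    · let U : (X ⊗ X).left.Opens := ⟨(Set.range f)ᶜ, hcl.isOpen_compl⟩
      refine ⟨U, U.ι, inferInstance, ⟨⟨z, hz⟩, rfl⟩, ?_⟩
      have : IsEmpty ↥(pullback f U.ι) := by
        constructor
        intro w
        have h1 : (pullback.fst f U.ι ≫ f) w = (pullback.snd f U.ι ≫ U.ι) w := by rw [pullback.condition]
        have h2 : U.ι (pullback.snd f U.ι w) ∈ U := (pullback.snd f U.ι w).2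
        apply h2
        refine ⟨pullback.fst f U.ι w, ?_⟩
        exact h1
      infer_instance
  choose U j hj hz hp using key
  exact IsZariskiLocalAtTarget.of_openCover (P := @IsProper)
    (Scheme.Cover.mkOfCovers (P := @IsOpenImmersion) (X ⊗ X).left U j (fun z => ⟨z, hz z⟩) hj) fun z => hp z

end Loc

section BC

variable {S S' : Scheme.{u}} (t : S' ⟶ S) {G X Y : Over S} [GrpObj G] (a : AlgGrp.Action G X)

open Groth.Agent.Sga3C.ActBase

theorem psi_baseAct :
    letI := Functor.grpObjObj (F := Over.pullback t) (G := G)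
    GIT.psi (baseAct t a) (𝟙 _) =
      Functor.LaxMonoidal.μ (Over.pullback t) G X ≫ (Over.pullback t).map (GIT.psi a (𝟙 X)) ≫
        Functor.OplaxMonoidal.δ (Over.pullback t) X X := by
  let := Functor.grpObjObj (F := Over.pullback t) (G := G)
  have h0 : GIT.psi a (𝟙 X) = lift a.act (snd G X) := by
    rw [GIT.psi, MonoidalCategory.whiskerLeft_id, Category.id_comp]
  have h1 : GIT.psi (baseAct t a) (𝟙 _) = lift (baseAct t a).act
      (snd ((Over.pullback t).obj G) ((Over.pullback t).obj X)) := by
    rw [GIT.psi, MonoidalCategory.whiskerLeft_id, Category.id_comp]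
  rw [h0, h1, Functor.OplaxMonoidal.lift_δ, comp_lift]
  congr 1
  rw [Functor.Monoidal.μ_snd]

/-- the base change of `Ψ` -/
theorem isPullback_baseAct :
    letI := Functor.grpObjObj (F := Over.pullback t) (G := G)
    ∃ p : ((Over.pullback t).obj G ⊗ (Over.pullback t).obj X).left ⟶ (G ⊗ X).left,
      IsPullback p (GIT.psi (baseAct t a) (𝟙 _)).left (GIT.psi a (𝟙 X)).left
        ((inv (Functor.OplaxMonoidal.δ (Over.pullback t) X X)).left ≫ pullback.fst (X ⊗ X).hom t) := by
  let := Functor.grpObjObj (F := Over.pullback t) (G := G)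
  have h := isPullback_map_left t (GIT.psi a (𝟙 X))
  have h1 : IsIso (Functor.LaxMonoidal.μ (Over.pullback t) G X).left :=
    inferInstanceAs (IsIso ((Over.forget S').map (Functor.LaxMonoidal.μ (Over.pullback t) G X)))
  have h2 : IsIso (Functor.OplaxMonoidal.δ (Over.pullback t) X X).left :=
    inferInstanceAs (IsIso ((Over.forget S').map (Functor.OplaxMonoidal.δ (Over.pullback t) X X)))
  have h3 : IsIso (inv (Functor.OplaxMonoidal.δ (Over.pullback t) X X)).left :=
    inferInstanceAs (IsIso ((Over.forget S').map (inv (Functor.OplaxMonoidal.δ (Over.pullback t) X X))))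
  refine ⟨(Functor.LaxMonoidal.μ (Over.pullback t) G X).left ≫ pullback.fst (G ⊗ X).hom t, ?_⟩
  have e : IsPullback (Functor.LaxMonoidal.μ (Over.pullback t) G X).left
      (GIT.psi (baseAct t a) (𝟙 _)).left ((Over.pullback t).map (GIT.psi a (𝟙 X))).left
      (inv (Functor.OplaxMonoidal.δ (Over.pullback t) X X)).left := by
    refine IsPullback.of_horiz_isIso ⟨?_⟩
    rw [psi_baseAct, ← Over.comp_left, ← Over.comp_left]
    congr 1
    simp
  exact e.paste_horiz h.flip

end BC

end K687.PsiLoc
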