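import Groth.Agent.GIT.K686.CoactOf
import Groth.Agent.GIT.K687.MWt
import Groth.Agent.GIT.K687.PsiLoc
import Mathlib.AlgebraicGeometry.Morphisms.Integral

/-!
# Diagonalizable groups acting on affine schemes: fixed points and integrality of `Ψ`
-/

set_option autoImplicit false
universe u
open CategoryTheory MonoidalCategory CartesianMonoidalCategory MonObj AlgebraicGeometry Topology Limits
open scoped TensorProduct
open K951.Pts Groth.Agent.Books.BorelOrb Groth.Agent.Books.AffBridge Groth.Agent.Sga3.H219.Coact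

namespace K687.GmAff

open K686.CoactOf K687.MWt

attribute [local instance] K951.Pts.algΓ CoactBr.braidedAlgSpecOf

variable {k : Type u} [Field k] {G X : Over (Spec (CommRingCat.of k))} [GrpObj G] [IsAffine X.left]
  (a : AlgGrp.Action G X) {N : Type} [CommGroup N] (e : SpecOver k (MonoidAlgebra k N) ≅ G) [IsMonHom e.hom]

/-- functions of weight `m` -/
def IsWt (m : N) (f : Γ(X.left, ⊤)) : Prop :=
  rho k (r a e) f = f ⊗ₜ[k] (MonoidAlgebra.single m 1 : MonoidAlgebra k N)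

theorem isWt_tc (m : N) (f : Γ(X.left, ⊤)) : IsWt a e m (tc k _ m (rho k (r a e) f)) := by
  exact rho_tc (rho k (r a e)).toLinearMap (fun r => coassoc _ (hmul a e) r) m f

theorem expand (f : Γ(X.left, ⊤)) : ∃ s : Finset N,
    rho k (r a e) f = ∑ m ∈ s, tc k _ m (rho k (r a e) f) ⊗ₜ[k] (MonoidAlgebra.single m 1 : MonoidAlgebra k N) ∧
    f = ∑ m ∈ s, tc k _ m (rho k (r a e) f) := by
  obtain ⟨s, hs⟩ := exists_expand (rho k (r a e) f)
  refine ⟨s, hs s le_rfl, ?_⟩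
  exact sum_tc (rho k (r a e)).toLinearMap (fun r => counit _ (hone a e) r) f (hs s le_rfl)

theorem fn_single_one {T : Over (Spec (CommRingCat.of k))} (x : T ⟶ SpecOver k (MonoidAlgebra k N)) :
    fn x (MonoidAlgebra.single 1 1) = 1 := map_one (fn x)

/-- a point on which all functions of non trivial weight vanish is fixed -/
theorem fixed {T : Over (Spec (CommRingCat.of k))} (x : T ⟶ X)
    (hx : ∀ (m : N) (f : Γ(X.left, ⊤)), m ≠ 1 → IsWt a e m f → x.left.appTop.hom f = 0)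
    {T' : Over (Spec (CommRingCat.of k))} (g : T' ⟶ G) (p : T' ⟶ T) : sm a g (p ≫ x) = p ≫ x := by
  classical
  rw [← cancel_mono (ε X).inv]
  set v : T' ⟶ SpecOver k Γ(X.left, ⊤) := (p ≫ x) ≫ (ε X).inv with hv
  have h1 : sm a g (p ≫ x) ≫ (ε X).inv = lift v (g⁻¹ ≫ e.inv) ≫ r a e := by
    rw [lift_r, Category.assoc, Iso.inv_hom_id, Category.comp_id, inv_inv, hv, Category.assoc,
      Iso.inv_hom_id, Category.comp_id]
  rw [h1]
  have hv0 : ∀ f, fn v f = p.left.appTop.hom (x.left.appTop.hom f) := by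
    intro f
    rw [hv, ε_inv, fn_comp, fn_aff, Over.comp_left, Scheme.Hom.comp_appTop]
    rfl
  apply fn_injective
  apply AlgHom.ext
  intro f
  obtain ⟨s, hs1, hs2⟩ := expand a e f
  rw [fn_lift_r, AlgHom.comp_apply, hs1, map_sum]
  conv_rhs => rw [hs2, map_sum]
  refine Finset.sum_congr rfl fun m _ => ?_
  rw [Algebra.TensorProduct.lift_tmul]
  by_cases hm : m = 1
  · subst hm
    rw [fn_single_one, _root_.mul_one]
  · rw [hv0, hx m _ hm (isWt_tc a e m f), map_zero, zero_mul]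

end K687.GmAff

namespace K687.GmInt

open K686.CoactOf

attribute [local instance] K951.Pts.algΓ CoactBr.braidedAlgSpecOf

variable {k : Type u} [Field k] {G X : Over (Spec (CommRingCat.of k))} [GrpObj G] [IsAffine X.left]
  (a : AlgGrp.Action G X) {C : Type u} [CommRing C] [HopfAlgebra k C] (e : SpecOver k C ≅ G) [IsMonHom e.hom]

variable (X C) in
/-- the first projection -/
noncomputable abbrev v₀ : SpecOver k (Γ(X.left, ⊤) ⊗[k] C) ⟶ SpecOver k Γ(X.left, ⊤) :=
  specMap k (Algebra.TensorProduct.includeLeft)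

variable (X C) in
/-- the second projection -/
noncomputable abbrev x₀ : SpecOver k (Γ(X.left, ⊤) ⊗[k] C) ⟶ SpecOver k C :=
  specMap k (Algebra.TensorProduct.includeRight)

/-- `Spec (B ⊗ C) ≅ G × X` -/
noncomputable def j : SpecOver k (Γ(X.left, ⊤) ⊗[k] C) ⟶ G ⊗ X :=
  lift (x₀ X C ≫ e.hom) (v₀ X C ≫ (ε X).hom)

omit [IsMonHom e.hom] in
theorem isIso_j : IsIso (j (X := X) e) := by
  have h : IsIso (lift (v₀ X C) (x₀ X C)) := by
    have h1 := CoactBr.lift_pt_pt (R := k)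
      (Algebra.TensorProduct.includeLeft : Γ(X.left, ⊤) →ₐ[k] Γ(X.left, ⊤) ⊗[k] C)
      (Algebra.TensorProduct.includeRight : C →ₐ[k] Γ(X.left, ⊤) ⊗[k] C)
    have h2 : (Algebra.TensorProduct.lift
        (Algebra.TensorProduct.includeLeft : Γ(X.left, ⊤) →ₐ[k] Γ(X.left, ⊤) ⊗[k] C)
        (Algebra.TensorProduct.includeRight : C →ₐ[k] Γ(X.left, ⊤) ⊗[k] C)
        fun _ _ => .all _ _) = AlgHom.id k _ := by
      apply Algebra.TensorProduct.ext
      · ext b; simp
      · ext b; simp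
    rw [h2, CoactBr.pt_id] at h1
    have hμ := (Functor.Monoidal.μIso (algSpec (CommRingCat.of k)) (Opposite.op (CommAlgCat.of k Γ(X.left, ⊤)))
      (Opposite.op (CommAlgCat.of k C))).isIso_hom
    rw [Functor.Monoidal.μIso_hom] at hμ
    exact @IsIso.of_isIso_fac_right _ _ _ _ _ _ _ _ hμ (IsIso.id _) h1
  have h3 : j (X := X) e = lift (v₀ X C) (x₀ X C) ≫ ((ε X).hom ⊗ₘ e.hom) ≫ (β_ X G).hom := by
    apply CartesianMonoidalCategory.hom_ext
    · rw [j, lift_fst, Category.assoc, Category.assoc, braiding_hom_fst, tensorHom_snd, lift_snd_assoc]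
    · rw [j, lift_snd, Category.assoc, Category.assoc, braiding_hom_snd, tensorHom_fst, lift_fst_assoc]
  rw [h3]
  infer_instance

omit [GrpObj G] [IsAffine X.left] [IsMonHom e.hom] in
theorem fn_mul_inv {T : Over (Spec (CommRingCat.of k))} (x : T ⟶ SpecOver k C) (c : C)
    (hc : IsGroupLikeElem k c) : fn x c * fn x⁻¹ c = 1 := by
  have h1 := fn_mul (R := k) (A := C) x x⁻¹
  have h2 : x * x⁻¹ = 1 := mul_inv_cancel x
  rw [h2] at h1
  have h3 := congr($h1 c)
  rw [AlgHom.comp_apply, Bialgebra.comulAlgHom_apply, hc.comul_eq_tmul_self, Algebra.TensorProduct.lift_tmul] at h3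
  rw [← h3, fn_one, AlgHom.comp_apply, Bialgebra.counitAlgHom_apply, hc.counit_eq_one, map_one]

theorem eps_app {T : Over (Spec (CommRingCat.of k))} (v : T ⟶ SpecOver k Γ(X.left, ⊤)) (b : Γ(X.left, ⊤)) :
    (v ≫ (ε X).hom).left.appTop.hom b = fn v b := by
  have h3 : fn v b = fn ((v ≫ (ε X).hom) ≫ (ε X).inv) b := by
    rw [Category.assoc, Iso.hom_inv_id, Category.comp_id]
  rw [h3, fn_comp, ε_inv, fn_aff]
  rfl

theorem act_app (c : C) (f : Γ(X.left, ⊤)) (hf : rho k (r a e) f = f ⊗ₜ[k] c) :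
    (j (X := X) e ≫ a.act).left.appTop.hom f = fn (v₀ X C) f * fn (x₀ X C)⁻¹ c := by
  have h1 : j (X := X) e ≫ a.act = (lift (v₀ X C) (x₀ X C)⁻¹ ≫ r a e) ≫ (ε X).hom := by
    rw [lift_r, Category.assoc, Iso.inv_hom_id, Category.comp_id]
    have h2 : (x₀ X C)⁻¹ ≫ e.hom = (x₀ X C ≫ e.hom)⁻¹ := GrpObj.inv_comp _ _
    rw [h2, inv_inv]
    rfl
  have h3 := congr($(fn_lift_r a e (v₀ X C) (x₀ X C)⁻¹) f)
  rw [AlgHom.comp_apply, hf, Algebra.TensorProduct.lift_tmul] at h3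
  have h4 := congrArg (fun q : SpecOver k (Γ(X.left, ⊤) ⊗[k] C) ⟶ X => q.left.appTop.hom f) h1
  have h5 := eps_app (X := X) (lift (v₀ X C) (x₀ X C)⁻¹ ≫ r a e) f
  exact h4.trans (h5.trans h3)

omit [IsMonHom e.hom] in
theorem snd_app (b : Γ(X.left, ⊤)) :
    (j (X := X) e ≫ snd G X).left.appTop.hom b = fn (v₀ X C) b := by
  have h1 : j (X := X) e ≫ snd G X = v₀ X C ≫ (ε X).hom := by rw [j, lift_snd]
  have h4 := congrArg (fun q : SpecOver k (Γ(X.left, ⊤) ⊗[k] C) ⟶ X => q.left.appTop.hom b) h1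
  exact h4.trans (eps_app (X := X) (v₀ X C) b)

omit [IsMonHom e.hom] [GrpObj G] in
theorem fn_id_bijective (R : Type u) [CommRing R] [Algebra k R] :
    Function.Bijective (fn (𝟙 (SpecOver k R))) := by
  have e4 := ConcreteCategory.bijective_of_isIso (Scheme.ΓSpecIso (CommRingCat.of R)).inv
  have e5 : ∀ t, fn (𝟙 (SpecOver k R)) t = (Scheme.ΓSpecIso (CommRingCat.of R)).inv t := by
    intro t
    rw [fn_apply]
    change ((Scheme.ΓSpecIso (CommRingCat.of R)).inv ≫ Scheme.Hom.appTop (𝟙 (Spec (CommRingCat.of R)))) t = _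
    rw [Scheme.Hom.id_appTop, Category.comp_id]
  have e6 : ⇑(fn (𝟙 (SpecOver k R))) = fun t => (Scheme.ΓSpecIso (CommRingCat.of R)).inv t := funext e5
  rw [e6]
  exact e4

omit [GrpObj G] [IsMonHom e.hom] in
theorem fn_split (b : Γ(X.left, ⊤)) (c : C) :
    fn (𝟙 (SpecOver k (Γ(X.left, ⊤) ⊗[k] C))) (b ⊗ₜ[k] c) = fn (v₀ X C) b * fn (x₀ X C) c := by
  have e1 : fn (v₀ X C) = (fn (𝟙 (SpecOver k (Γ(X.left, ⊤) ⊗[k] C)))).comp
      Algebra.TensorProduct.includeLeft := by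
    have := fn_comp_pt (𝟙 (SpecOver k (Γ(X.left, ⊤) ⊗[k] C)))
      (Algebra.TensorProduct.includeLeft : Γ(X.left, ⊤) →ₐ[k] Γ(X.left, ⊤) ⊗[k] C)
    rwa [Category.id_comp] at this
  have e2 : fn (x₀ X C) = (fn (𝟙 (SpecOver k (Γ(X.left, ⊤) ⊗[k] C)))).comp
      Algebra.TensorProduct.includeRight := by
    have := fn_comp_pt (𝟙 (SpecOver k (Γ(X.left, ⊤) ⊗[k] C)))
      (Algebra.TensorProduct.includeRight : C →ₐ[k] Γ(X.left, ⊤) ⊗[k] C)
    rwa [Category.id_comp] at this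
  have e3 : b ⊗ₜ[k] c = (Algebra.TensorProduct.includeLeft : Γ(X.left, ⊤) →ₐ[k] Γ(X.left, ⊤) ⊗[k] C) b *
      (Algebra.TensorProduct.includeRight : C →ₐ[k] Γ(X.left, ⊤) ⊗[k] C) c := by simp
  have e1' := congr($e1 b)
  have e2' := congr($e2 c)
  calc fn (𝟙 (SpecOver k (Γ(X.left, ⊤) ⊗[k] C))) (b ⊗ₜ[k] c)
      = fn (𝟙 (SpecOver k (Γ(X.left, ⊤) ⊗[k] C)))
        ((Algebra.TensorProduct.includeLeft : Γ(X.left, ⊤) →ₐ[k] Γ(X.left, ⊤) ⊗[k] C) b *
      (Algebra.TensorProduct.includeRight : C →ₐ[k] Γ(X.left, ⊤) ⊗[k] C) c) := congrArg _ e3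
    _ = _ := map_mul _ _ _
    _ = fn (v₀ X C) b * fn (x₀ X C) c := congrArg₂ (· * ·) e1'.symm e2'.symm

omit [IsMonHom e.hom] [GrpObj G] in
/-- pure algebra behind `isIntegral_psi` -/
theorem core {Z S B : Type u} [CommRing Z] [CommRing S] [CommRing B] [Algebra k B] (F : Z →+* S)
    (v : B → S) (x : C →+* S) (hk : ∀ t : k, ∃ z, x (algebraMap k C t) = F z)
    (q : B → Z) (hq : ∀ b, F (q b) = v b) {f f' : B} (hv : v f * v f' = 1) {c : C} {w : S} (hw : x c * w = 1)
    {p p' : Z} (hp : F p = v f * w) (hpp : F p * F p' = 1)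
    (hspan : Submodule.span k {d : C | ∃ i : ℕ, 0 < i ∧ ∃ z : ℕ, d ^ i = c ^ z ∨ d ^ i * c ^ z = 1} = ⊤)
    (d : C) : F.IsIntegralElem (x d) := by
  have hr1 : w = F (p * q f') := by
    rw [map_mul, hq, hp]
    calc w = (v f * v f') * w := by rw [hv, _root_.one_mul]
      _ = _ := by ring
  have hr2 : x c = F (p' * q f) := by
    rw [map_mul, hq]
    calc x c = x c * (F p * F p') := by rw [hpp, _root_.mul_one]
      _ = (x c * w) * (F p' * v f) := by rw [hp]; ring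
      _ = _ := by rw [hw, _root_.one_mul]
  have hd : d ∈ Submodule.span k {d : C | ∃ i : ℕ, 0 < i ∧ ∃ z : ℕ, d ^ i = c ^ z ∨ d ^ i * c ^ z = 1} := by
    rw [hspan]; trivial
  induction hd using Submodule.span_induction with
  | mem d hd =>
    obtain ⟨i, hi, z, hz⟩ := hd
    have key : ∃ y, x d ^ i = F y := by
      rcases hz with hz | hz
      · exact ⟨(p' * q f) ^ z, by rw [← map_pow, hz, map_pow, hr2, ← map_pow]⟩
      · refine ⟨(p * q f') ^ z, ?_⟩
        have h1 : x d ^ i * x c ^ z = 1 := by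
          rw [← map_pow, ← map_pow, ← map_mul, hz, map_one]
        have h2 : x c ^ z * w ^ z = 1 := by rw [← mul_pow, hw, one_pow]
        calc x d ^ i = x d ^ i * (x c ^ z * w ^ z) := by rw [h2, _root_.mul_one]
          _ = (x d ^ i * x c ^ z) * w ^ z := by ring
          _ = F _ := by rw [h1, _root_.one_mul, hr1, ← map_pow]
    obtain ⟨y, hy⟩ := key
    letI := F.toAlgebra
    have h3 : IsIntegral Z (x d ^ i) := by
      rw [hy]; exact isIntegral_algebraMap
    exact IsIntegral.of_pow hi h3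
  | zero => rw [map_zero]; exact F.isIntegralElem_zero
  | add x y _ _ hx hy => rw [map_add]; exact RingHom.IsIntegralElem.add F hx hy
  | smul t x _ hx =>
    rw [Algebra.smul_def, map_mul]
    refine RingHom.IsIntegralElem.mul F ?_ hx
    obtain ⟨z, hz⟩ := hk t
    rw [hz]
    exact F.isIntegralElem_map

omit [IsMonHom e.hom] [GrpObj G] in
theorem core2 {Z S B : Type u} [CommRing Z] [CommRing S] [Algebra k S] [CommRing B] [Algebra k B] (F : Z →+* S)
    (φ : B ⊗[k] C →ₐ[k] S) (hφ : Function.Surjective φ) {v : B → S} {x : C → S}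
    (hs : ∀ b c, φ (b ⊗ₜ[k] c) = v b * x c) (hv : ∀ b, F.IsIntegralElem (v b)) (hx : ∀ c, F.IsIntegralElem (x c)) :
    F.IsIntegral := by
  intro y
  obtain ⟨z, rfl⟩ := hφ y
  induction z using TensorProduct.induction_on with
  | zero => rw [map_zero]; exact RingHom.isIntegralElem_zero _
  | add x y hx hy => rw [map_add]; exact RingHom.IsIntegralElem.add _ hx hy
  | tmul b d =>
    rw [hs]
    exact RingHom.IsIntegralElem.mul _ (hv b) (hx d)

omit [IsMonHom e.hom] in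
/-- the function `g ↦ c(g⁻¹)` on `G` -/
noncomputable def chi (c : C) : Γ(G.left, ⊤) := e.inv.left.appTop.hom (fn (𝟙 (SpecOver k C))⁻¹ c)

omit [GrpObj G] [IsMonHom e.hom] in
theorem chi_app {T : Over (Spec (CommRingCat.of k))} (x : T ⟶ SpecOver k C) (c : C) :
    (x ≫ e.hom).left.appTop.hom (chi e c) = fn x⁻¹ c := by
  have h1 : x⁻¹ = x ≫ (𝟙 (SpecOver k C))⁻¹ := by rw [GrpObj.comp_inv, Category.comp_id]
  rw [h1, fn_comp]
  have h2 : (x ≫ e.hom).left.appTop.hom (chi e c) =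
      x.left.appTop.hom ((e.hom ≫ e.inv).left.appTop.hom (fn (𝟙 (SpecOver k C))⁻¹ c)) := rfl
  rw [h2, Iso.hom_inv_id]
  rfl

omit [GrpObj G] [IsMonHom e.hom] in
theorem isUnit_chi {c : C} (hc : IsGroupLikeElem k c) : IsUnit (chi e c) := by
  refine RingHom.isUnit_map e.inv.left.appTop.hom (IsUnit.of_mul_eq_one (fn (𝟙 (SpecOver k C)) c) ?_)
  rw [mul_comm]
  exact fn_mul_inv _ c hc

/-- `f` is a semi-invariant of character `χ`: `f(gx) = χ(g) f(x)` -/
def Semi {S : Scheme.{u}} {G X : Over S} [GrpObj G] (a : AlgGrp.Action G X) (χ : Γ(G.left, ⊤))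
    (f : Γ(X.left, ⊤)) : Prop :=
  a.act.left.appTop.hom f = (snd G X).left.appTop.hom f * (fst G X).left.appTop.hom χ

theorem appTop_bijective {X Y : Scheme.{u}} (f : X ⟶ Y) [IsIso f] : Function.Bijective f.appTop.hom :=
  have : IsIso f.appTop := inferInstanceAs (IsIso (f.app ⊤))
  ConcreteCategory.bijective_of_isIso f.appTop

theorem semi_of_wt (c : C) (f : Γ(X.left, ⊤)) (hf : rho k (r a e) f = f ⊗ₜ[k] c) : Semi a (chi e c) f := by
  have hj := isIso_j (X := X) e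
  have hj' : IsIso (j (X := X) e).left := ((Over.forget _).mapIso (asIso (j (X := X) e))).isIso_hom
  apply (appTop_bijective (j (X := X) e).left).1
  have h1 := act_app a e c f hf
  have h2 := snd_app e f
  have h3 : (j (X := X) e ≫ fst G X).left.appTop.hom (chi e c) = fn (x₀ X C)⁻¹ c := by
    have h4 : j (X := X) e ≫ fst G X = x₀ X C ≫ e.hom := by rw [j, lift_fst]
    have h5 := congrArg (fun q : SpecOver k (Γ(X.left, ⊤) ⊗[k] C) ⟶ G => q.left.appTop.hom (chi e c)) h4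
    exact h5.trans (chi_app e (x₀ X C) c)
  refine Eq.trans h1 (Eq.trans ?_ (map_mul (j (X := X) e).left.appTop.hom _ _).symm)
  exact congrArg₂ (· * ·) h2.symm h3.symm

theorem act_app' (c : C) (f : Γ(X.left, ⊤)) (hf : Semi a (chi e c) f) :
    (j (X := X) e ≫ a.act).left.appTop.hom f = fn (v₀ X C) f * fn (x₀ X C)⁻¹ c := by
  have h2 := snd_app e f
  have h3 : (j (X := X) e ≫ fst G X).left.appTop.hom (chi e c) = fn (x₀ X C)⁻¹ c := by
    have h4 : j (X := X) e ≫ fst G X = x₀ X C ≫ e.hom := by rw [j, lift_fst]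
    have h5 := congrArg (fun q : SpecOver k (Γ(X.left, ⊤) ⊗[k] C) ⟶ G => q.left.appTop.hom (chi e c)) h4
    exact h5.trans (chi_app e (x₀ X C) c)
  have h6 := congrArg (j (X := X) e).left.appTop.hom hf
  refine Eq.trans h6 (Eq.trans (map_mul (j (X := X) e).left.appTop.hom _ _) ?_)
  exact congrArg₂ (· * ·) h2 h3

theorem isIntegral_psi {f : Γ(X.left, ⊤)} (hf : IsUnit f) {c : C} (hc : IsGroupLikeElem k c)
    (hfc : Semi a (chi e c) f)
    (hspan : Submodule.span k {d : C | ∃ i : ℕ, 0 < i ∧ ∃ z : ℕ, d ^ i = c ^ z ∨ d ^ i * c ^ z = 1} = ⊤) :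
    IsIntegralHom (GIT.psi a (𝟙 X)).left := by
  have hj := isIso_j (X := X) e
  have hj' : IsIso (j (X := X) e).left := ((Over.forget _).mapIso (asIso (j (X := X) e))).isIso_hom
  suffices hsuff : IsIntegralHom (j (X := X) e ≫ GIT.psi a (𝟙 X)).left by
    have h0 : (GIT.psi a (𝟙 X)).left = inv (j (X := X) e).left ≫ (j (X := X) e ≫ GIT.psi a (𝟙 X)).left := by
      rw [Over.comp_left, IsIso.inv_hom_id_assoc]
    rw [h0]
    infer_instance
  have haff : IsAffine (X ⊗ X).left := by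
    rw [Over.tensorObj_left]
    infer_instance
  refine (IsIntegralHom.hasAffineProperty.iff_of_isAffine (f := (j (X := X) e ≫ GIT.psi a (𝟙 X)).left)).2
    ⟨inferInstanceAs (IsAffine (Spec _)), ?_⟩
  -- the two kinds of elements of the image
  have hsnd : ∀ b, (j (X := X) e ≫ GIT.psi a (𝟙 X)).left.appTop.hom ((snd X X).left.appTop.hom b) =
      fn (v₀ X C) b := by
    intro b
    have h1 : (j (X := X) e ≫ GIT.psi a (𝟙 X)) ≫ snd X X = j (X := X) e ≫ snd G X := by
      rw [Category.assoc, PsiLoc.psi_snd]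
    have h2 := congrArg (fun q : SpecOver k (Γ(X.left, ⊤) ⊗[k] C) ⟶ X => q.left.appTop.hom b) h1
    exact h2.trans (snd_app e b)
  have hfst : (j (X := X) e ≫ GIT.psi a (𝟙 X)).left.appTop.hom ((fst X X).left.appTop.hom f) =
      fn (v₀ X C) f * fn (x₀ X C)⁻¹ c := by
    have h1 : (j (X := X) e ≫ GIT.psi a (𝟙 X)) ≫ fst X X = j (X := X) e ≫ a.act := by
      rw [Category.assoc, PsiLoc.psi_fst]
    have h2 := congrArg (fun q : SpecOver k (Γ(X.left, ⊤) ⊗[k] C) ⟶ X => q.left.appTop.hom f) h1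
    exact h2.trans (act_app' a e c f hfc)
  obtain ⟨f', hf'⟩ := hf.exists_right_inv
  have hc1 := fn_mul_inv (x₀ X C) c hc
  have hv : fn (v₀ X C) f * fn (v₀ X C) f' = 1 := by rw [← map_mul, hf', map_one]
  have hff : (j (X := X) e ≫ GIT.psi a (𝟙 X)).left.appTop.hom ((fst X X).left.appTop.hom f) *
      (j (X := X) e ≫ GIT.psi a (𝟙 X)).left.appTop.hom ((fst X X).left.appTop.hom f') = 1 := by
    rw [← map_mul, ← map_mul, hf', map_one, map_one]
  have hint := core (j (X := X) e ≫ GIT.psi a (𝟙 X)).left.appTop.hom (fn (v₀ X C)) (fn (x₀ X C)).toRingHom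
    (fun t => ⟨_, by
      refine Eq.trans ?_ (hsnd (algebraMap k _ t)).symm
      exact ((fn (x₀ X C)).commutes t).trans ((fn (v₀ X C)).commutes t).symm⟩)
    (snd X X).left.appTop.hom hsnd hv hc1 hfst hff hspan
  have hfin : (j (X := X) e ≫ GIT.psi a (𝟙 X)).left.appTop.hom.IsIntegral :=
    core2 (S := Γ((SpecOver k (Γ(X.left, ⊤) ⊗[k] C)).left, ⊤)) _
      (fn (𝟙 (SpecOver k (Γ(X.left, ⊤) ⊗[k] C))))
      (fn_id_bijective (k := k) (Γ(X.left, ⊤) ⊗[k] C)).2 (fun b c => fn_split b c)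
      (fun b => by rw [← hsnd]; exact RingHom.isIntegralElem_map _) hint
  exact hfin

end K687.GmInt
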