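import Groth.Agent.GIT.K687.GmAff
import Groth.Agent.Etbase.FpqcDescent

/-!
# A fixed point has a stabilizer which is not quasi-finite
-/

set_option autoImplicit false
universe u
open CategoryTheory CategoryTheory.Limits MonoidalCategory CartesianMonoidalCategory MonObj AlgebraicGeometry
open scoped TensorProduct
open K687.PsiLoc K957.Pts

namespace K687.GmFix

section Triv

variable {S : Scheme.{u}} {G X T : Over S} [GrpObj G] (a : AlgGrp.Action G X) (x : T ⟶ X)

/-- if `G` fixes the point `x` then the stabilizer of `x` is `G` -/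
theorem isPullback_triv (h : ∀ (T' : Over S) (g : T' ⟶ G) (p : T' ⟶ T), dot a g (p ≫ x) = p ≫ x) :
    IsPullback (G ◁ x) (snd G T) (GIT.psi a (𝟙 X)) (lift x x) := by
  have w : (G ◁ x) ≫ GIT.psi a (𝟙 X) = snd G T ≫ lift x x := by
    have h1 : G ◁ x = lift (fst G T) (snd G T ≫ x) := by
      apply CartesianMonoidalCategory.hom_ext <;> simp
    rw [h1, lift_psi, h, comp_lift]
  refine ⟨⟨w⟩, ⟨PullbackCone.IsLimit.mk _ (fun c => lift (c.fst ≫ fst G X) c.snd) ?_ ?_ ?_⟩⟩
  · intro c
    have h := c.condition =≫ snd X X
    rw [Category.assoc, Category.assoc, psi_snd, lift_snd] at h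
    rw [lift_whiskerLeft]
    apply CartesianMonoidalCategory.hom_ext
    · rw [lift_fst]
    · rw [lift_snd, h]
  · intro c
    rw [lift_snd]
  · intro c m h1 h2
    apply CartesianMonoidalCategory.hom_ext
    · rw [lift_fst, ← h1, Category.assoc, whiskerLeft_fst]
    · rw [lift_snd, ← h2]

end Triv

section Fld

variable {K κ : Type u} [Field K] [Field κ] (t : Spec (CommRingCat.of κ) ⟶ Spec (CommRingCat.of K))

theorem fpqc_fld : (@Surjective ⊓ @Flat ⊓ @QuasiCompact : MorphismProperty Scheme.{u}) t := by
  refine ⟨⟨?_, ?_⟩, inferInstance⟩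
  · constructor
    intro y
    have : Subsingleton (Spec (CommRingCat.of K)) := inferInstanceAs (Subsingleton (PrimeSpectrum K))
    have : Nonempty (Spec (CommRingCat.of κ)) := inferInstanceAs (Nonempty (PrimeSpectrum κ))
    exact ⟨Classical.arbitrary _, Subsingleton.elim _ _⟩
  · obtain ⟨φ, rfl⟩ := Spec.map_surjective t
    rw [Flat.SpecMap_iff]
    letI := φ.hom.toAlgebra
    exact (inferInstance : Module.Flat K κ)

/-- an affine group whose pullback to a field is locally quasi-finite is finite -/
theorem finite_of_lqf {G T : Over (Spec (CommRingCat.of K))} {C : Type u} [CommRing C] [Algebra K C]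
    (e : Groth.Agent.Books.AffBridge.SpecOver K C ≅ G) (hT : T.left = Spec (CommRingCat.of κ))
    (h : LocallyQuasiFinite (snd G T).left) : Module.Finite K C := by
  obtain ⟨T, ⟨⟩, t⟩ := T
  change T = Spec (CommRingCat.of κ) at hT
  subst hT
  change Spec (CommRingCat.of κ) ⟶ Spec (CommRingCat.of K) at t
  set T : Over (Spec (CommRingCat.of K)) := Over.mk t
  change LocallyQuasiFinite (snd G T).left at h
  have hsq : IsPullback (fst G T).left (snd G T).left G.hom T.hom := IsPullback.of_hasPullback G.hom T.hom
  have heG : e.inv.left ≫ (Groth.Agent.Books.AffBridge.SpecOver K C).hom = G.hom := Over.w _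
  have hei : IsIso e.inv.left := ((Over.forget _).mapIso e).isIso_inv
  have hspec : IsAffineHom (Groth.Agent.Books.AffBridge.SpecOver K C).hom :=
    inferInstanceAs (IsAffineHom (Spec.map (CommRingCat.ofHom (algebraMap K C))))
  have hG : IsAffineHom G.hom := by rw [← heG]; infer_instance
  have hs : IsAffineHom (snd G T).left := MorphismProperty.of_isPullback (P := @IsAffineHom) hsq hG
  have hart : IsLocallyArtinian T.left := inferInstanceAs (IsLocallyArtinian (Spec (CommRingCat.of κ)))
  have hfin : IsFinite (snd G T).left := IsFinite.of_locallyQuasiFinite _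
  have h1 : IsFinite G.hom :=
    MorphismProperty.of_isPullback_of_descendsAlong (P := @IsFinite)
      (Q := (@Surjective ⊓ @Flat ⊓ @QuasiCompact : MorphismProperty Scheme.{u})) hsq.flip (fpqc_fld t) hfin
  have h2 : IsFinite (Groth.Agent.Books.AffBridge.SpecOver K C).hom := by
    have : (Groth.Agent.Books.AffBridge.SpecOver K C).hom = e.hom.left ≫ G.hom := (Over.w _).symm
    have hei' : IsIso e.hom.left := ((Over.forget _).mapIso e).isIso_hom
    rw [this]
    infer_instance
  have h3 : (algebraMap K C).Finite := (IsFinite.SpecMap_iff (CommRingCat.ofHom (algebraMap K C))).mp h2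
  exact RingHom.finite_algebraMap.mp h3

theorem not_finite_monoidAlgebra (N : Type) [Monoid N] [Infinite N] :
    ¬ Module.Finite K (MonoidAlgebra K N) := by
  intro h
  have h1 := Module.Finite.finite_basis
    ((Finsupp.basisSingleOne : Module.Basis N K (N →₀ K)).map (MonoidAlgebra.coeffLinearEquiv K (S := K) (M := N)).symm)
  exact not_finite N

end Fld

end K687.GmFix
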