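import Groth.Agent.GIT.K687.GmLoc
import Groth.Agent.S16112
import Groth.Agent.Sga3B.BorSpan613
import Groth.Agent.Sga3B.TorusAlgClosed
import Groth.Agent.Sga3B.RG.BrDiag
import Groth.Agent.Sga3.H783.GaGm
import Groth.Agent.AlgGrp.K406.P1Const
import Groth.Agent.Gaga.H364.ProjRed
import Groth.Agent.Sga4B.SmoothNormal

/-!
# Properness of `Ψ` for `𝔾_m`-actions without positive dimensional stabilizers
-/

set_option autoImplicit false
universe u
open CategoryTheory CategoryTheory.Limits MonoidalCategory CartesianMonoidalCategory MonObj AlgebraicGeometry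
open scoped TensorProduct
open K687.PsiLoc K957.Pts K957.Restr K687.GmInt

namespace K687.GmGlob

section Wt

theorem rank_one (m : Multiplicative (Fin 1 → ℤ)) (hm : m ≠ 1) (n : Multiplicative (Fin 1 → ℤ)) :
    ∃ i : ℕ, 0 < i ∧ ∃ z : ℕ, n ^ i = m ^ z ∨ n ^ i * m ^ z = 1 := by
  have h1 : (m.toAdd 0) ≠ 0 := by
    intro h
    apply hm
    apply Multiplicative.toAdd.injective
    funext j
    rw [Subsingleton.elim j 0, h]
    rfl
  refine ⟨(m.toAdd 0).natAbs, Int.natAbs_pos.2 h1, (n.toAdd 0).natAbs, ?_⟩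
  have h2 : ((m.toAdd 0).natAbs : ℤ) * n.toAdd 0 = (n.toAdd 0).natAbs * m.toAdd 0 ∨
      ((m.toAdd 0).natAbs : ℤ) * n.toAdd 0 + (n.toAdd 0).natAbs * m.toAdd 0 = 0 := by
    rcases Int.natAbs_eq (m.toAdd 0) with h | h <;> rcases Int.natAbs_eq (n.toAdd 0) with h' | h' <;>
      rw [h, h'] <;> simp only [Int.natAbs_neg, Int.natAbs_natCast] <;>
      first
      | (left; ring; done)
      | (right; ring; done)
  rcases h2 with h2 | h2
  · left
    apply Multiplicative.toAdd.injective
    funext j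
    rw [Subsingleton.elim j 0, toAdd_pow, toAdd_pow]
    simpa using h2
  · right
    apply Multiplicative.toAdd.injective
    funext j
    rw [Subsingleton.elim j 0, toAdd_mul, toAdd_pow, toAdd_pow]
    simpa using h2

end Wt

section AC

variable {K : Type u} [Field K] [IsAlgClosed K] {G X P : Over (Spec (CommRingCat.of K))} [GrpObj G]

theorem isProper_algClosed [LocallyOfFiniteType G.hom] (hG : Red.IsSplitTorusWith (Fin 1 → ℤ) G)
    [IsIntegral P.left] [IsSeparated P.hom] [LocallyOfFiniteType P.hom] [QuasiCompact P.hom]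
    (hP : Pi1.IsNormalScheme P.left) {a : AlgGrp.Action G X} {b : AlgGrp.Action G P} (I : X ⟶ P) [Mono I]
    (hI : AlgGrp.Action.IsEquivariant a b I)
    (hcl : IsClosed (Set.range (GIT.psi a (𝟙 X)).left))
    (H : ∀ (κ : Type u) [Field κ] (x : Spec (CommRingCat.of κ) ⟶ X.left),
      LocallyQuasiFinite (pullback.snd (GIT.psi a (𝟙 X)).left (x ≫ (lift (𝟙 X) (𝟙 X)).left))) :
    IsProper (GIT.psi a (𝟙 X)).left := by
  refine isProper_of_cover a hcl fun x => ?_
  obtain ⟨V, hxV, hVa, hVs⟩ := Groth.Agent.S16112.result K G P 1 hG hP b (I.left x)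
  obtain ⟨e, he⟩ := Groth.Agent.Sga3B.RG.BrDiag.isSplitTorusWith_iff.1 hG
  have he' : IsMonHom e.symm.hom := inferInstanceAs (IsMonHom e.inv)
  have hinf : Infinite (Multiplicative (Fin 1 → ℤ)) := inferInstanceAs (Infinite (Fin 1 → ℤ))
  exact GmLoc.exists_proper e.symm I hI rank_one H V hVa hVs x hxV

end AC

section Sq

theorem range_pullback {A B A' B' : Scheme.{u}} {p : A' ⟶ A} {ψ' : A' ⟶ B'} {ψ : A ⟶ B} {q : B' ⟶ B}
    (sq : IsPullback p ψ' ψ q) : Set.range ψ' = q ⁻¹' Set.range ψ := by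
  ext z
  constructor
  · rintro ⟨w, rfl⟩
    refine ⟨p w, ?_⟩
    have : (p ≫ ψ) w = (ψ' ≫ q) w := by rw [sq.w]
    exact this
  · rintro ⟨y, hy⟩
    obtain ⟨w, -, hw⟩ := Scheme.exists_preimage_of_isPullback sq y z hy
    exact ⟨w, hw⟩

theorem lqf_of_sq {A B A' B' Z : Scheme.{u}} {p : A' ⟶ A} {ψ' : A' ⟶ B'} {ψ : A ⟶ B} {q : B' ⟶ B}
    (sq : IsPullback p ψ' ψ q) (z : Z ⟶ B') (h : LocallyQuasiFinite (pullback.snd ψ (z ≫ q))) :
    LocallyQuasiFinite (pullback.snd ψ' z) := by
  have sq2 := (IsPullback.of_hasPullback ψ' z).paste_horiz sq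
  rw [← sq2.isoPullback_hom_snd]
  infer_instance

theorem lqf_comp {A B Y Z : Scheme.{u}} {ψ : A ⟶ B} (d : Y ⟶ B) (z : Z ⟶ Y)
    (h : LocallyQuasiFinite (pullback.snd ψ d)) : LocallyQuasiFinite (pullback.snd ψ (z ≫ d)) := by
  have sq := (IsPullback.of_hasPullback (pullback.snd ψ d) z).paste_horiz (IsPullback.of_hasPullback ψ d)
  rw [← sq.isoPullback_inv_snd]
  infer_instance

end Sq

section BC

variable {S S' : Scheme.{u}} (t : S' ⟶ S) {G X P : Over S} [GrpObj G] {a : AlgGrp.Action G X}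
  {b : AlgGrp.Action G P}

open Groth.Agent.Sga3C.ActBase

theorem baseAct_equivariant {I : X ⟶ P} (hI : AlgGrp.Action.IsEquivariant a b I) :
    letI := Functor.grpObjObj (F := Over.pullback t) (G := G)
    AlgGrp.Action.IsEquivariant (baseAct t a) (baseAct t b) ((Over.pullback t).map I) := by
  let := Functor.grpObjObj (F := Over.pullback t) (G := G)
  have h1 : (G ◁ I) ≫ b.act = a.act ≫ I := hI.symm
  have h2 : ((Over.pullback t).obj G ◁ (Over.pullback t).map I) ≫ (baseAct t b).act =
      (baseAct t a).act ≫ (Over.pullback t).map I := by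
    rw [baseAct, baseAct, Functor.LaxMonoidal.μ_natural_right_assoc, ← Functor.map_comp, h1,
      Functor.map_comp, Category.assoc]
  exact h2.symm

theorem diag_bc (X : Over S) :
    (lift (𝟙 ((Over.pullback t).obj X)) (𝟙 ((Over.pullback t).obj X))).left ≫
      ((inv (Functor.OplaxMonoidal.δ (Over.pullback t) X X)).left ≫ pullback.fst (X ⊗ X).hom t) =
    pullback.fst X.hom t ≫ (lift (𝟙 X) (𝟙 X)).left := by
  have h1 : lift (𝟙 ((Over.pullback t).obj X)) (𝟙 ((Over.pullback t).obj X)) =
      (Over.pullback t).map (lift (𝟙 X) (𝟙 X)) ≫ Functor.OplaxMonoidal.δ (Over.pullback t) X X := by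
    rw [Functor.OplaxMonoidal.lift_δ, CategoryTheory.Functor.map_id]
  rw [h1, ← Category.assoc, ← Over.comp_left, Category.assoc, IsIso.hom_inv_id, Category.comp_id]
  exact (isPullback_map_left t (lift (𝟙 X) (𝟙 X))).w

end BC

section Main

open Groth.Agent.Sga3C.ActBase

variable {k : Type u} [Field k]

theorem isSplitTorusWith_gm (S : Scheme.{u}) : Red.IsSplitTorusWith (Fin 1 → ℤ) (Red.Gm S) := by
  obtain ⟨E, -⟩ := Groth.Agent.Sga3B.BorSpan613.exists_iso_DS S (AddEquiv.piUnique (fun _ : Fin 1 => ℤ))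
  exact ⟨E⟩

theorem isProper_psi {X P : Over (Spec (CommRingCat.of k))} [IsSeparated P.hom] [Smooth P.hom] [QuasiCompact P.hom]
    (hP : ∀ (K : Type u) [Field K] (t : Spec (CommRingCat.of K) ⟶ Spec (CommRingCat.of k)),
      IsIntegral (pullback P.hom t))
    {a : AlgGrp.Action (Red.Gm (Spec (CommRingCat.of k))) X}
    {b : AlgGrp.Action (Red.Gm (Spec (CommRingCat.of k))) P} (I : X ⟶ P) [Mono I]
    (hI : AlgGrp.Action.IsEquivariant a b I)
    (hcl : IsClosed (Set.range (GIT.psi a (𝟙 X)).left))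
    (hlqf : LocallyQuasiFinite (pullback.snd (GIT.psi a (𝟙 X)).left (lift (𝟙 X) (𝟙 X)).left)) :
    IsProper (GIT.psi a (𝟙 X)).left := by
  let K := AlgebraicClosure k
  let t : Spec (CommRingCat.of K) ⟶ Spec (CommRingCat.of k) := Spec.map (CommRingCat.ofHom (algebraMap k K))
  let G := Red.Gm (Spec (CommRingCat.of k))
  letI := Functor.grpObjObj (F := Over.pullback t) (G := G)
  obtain ⟨p, hp⟩ := isPullback_baseAct t a
  have hG : Red.IsSplitTorusWith (Fin 1 → ℤ) ((Over.pullback t).obj G) :=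
    Groth.Agent.Sga3B.TorusAlgClosed.isSplitTorusWith_bc t (isSplitTorusWith_gm _)
  have hGft : LocallyOfFiniteType ((Over.pullback t).obj G).hom := by
    have := Groth.Agent.Sga3.H783.GaGm.locallyOfFiniteType_gm (Spec (CommRingCat.of k))
    exact inferInstanceAs (LocallyOfFiniteType (pullback.snd G.hom t))
  have hPint : IsIntegral ((Over.pullback t).obj P).left := hP K t
  have hPsep : IsSeparated ((Over.pullback t).obj P).hom := inferInstanceAs (IsSeparated (pullback.snd P.hom t))
  have hPsm : Smooth ((Over.pullback t).obj P).hom := inferInstanceAs (Smooth (pullback.snd P.hom t))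
  have hPft : LocallyOfFiniteType ((Over.pullback t).obj P).hom := inferInstance
  have hPqc : QuasiCompact ((Over.pullback t).obj P).hom := inferInstanceAs (QuasiCompact (pullback.snd P.hom t))
  have hPn : Pi1.IsNormalScheme ((Over.pullback t).obj P).left :=
    Groth.Agent.Sga4B.SmoothNormal.isNormalScheme_of_smooth ((Over.pullback t).obj P).hom
  have hmono : Mono ((Over.pullback t).map I) := inferInstance
  have hcl' : IsClosed (Set.range (GIT.psi (baseAct t a) (𝟙 _)).left) := by
    rw [range_pullback hp]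
    exact hcl.preimage (Scheme.Hom.continuous _)
  have key : IsProper (GIT.psi (baseAct t a) (𝟙 _)).left := by
    refine isProper_algClosed hG hPn ((Over.pullback t).map I) (baseAct_equivariant t hI) hcl' ?_
    intro κ _ x
    apply lqf_of_sq hp
    rw [Category.assoc, diag_bc, ← Category.assoc]
    exact lqf_comp _ _ hlqf
  have hs : IsIso (inv (Functor.OplaxMonoidal.δ (Over.pullback t) X X)).left :=
    inferInstanceAs (IsIso ((Over.forget _).map (inv (Functor.OplaxMonoidal.δ (Over.pullback t) X X))))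
  have ht := GmFix.fpqc_fld t
  have ht1 : Surjective t := ht.1.1
  have ht2 : Flat t := ht.1.2
  have ht3 : QuasiCompact t := ht.2
  refine MorphismProperty.of_isPullback_of_descendsAlong (P := @IsProper)
      (Q := (@Surjective ⊓ @Flat ⊓ @QuasiCompact : MorphismProperty Scheme.{u})) hp.flip ⟨⟨?_, ?_⟩, ?_⟩ key
  · have : Surjective (pullback.fst (X ⊗ X).hom t) := inferInstance
    exact (inferInstance : Surjective ((inv (Functor.OplaxMonoidal.δ (Over.pullback t) X X)).left ≫
      pullback.fst (X ⊗ X).hom t))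
  · exact (inferInstance : Flat ((inv (Functor.OplaxMonoidal.δ (Over.pullback t) X X)).left ≫
      pullback.fst (X ⊗ X).hom t))
  · exact (inferInstance : QuasiCompact ((inv (Functor.OplaxMonoidal.δ (Over.pullback t) X X)).left ≫
      pullback.fst (X ⊗ X).hom t))

end Main

section Conv

variable {S : Scheme.{u}} {G X : Over S} [GrpObj G] {a : AlgGrp.Action G X}

theorem lqf_of_isProper [IsSeparated X.hom] [IsAffineHom G.hom] (h : IsProper (GIT.psi a (𝟙 X)).left) :
    LocallyQuasiFinite (pullback.snd (GIT.psi a (𝟙 X)).left (lift (𝟙 X) (𝟙 X)).left) := by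
  have h1 : (lift (𝟙 X) (𝟙 X)).left = pullback.diagonal X.hom := rfl
  have h2 : IsClosedImmersion (lift (𝟙 X) (𝟙 X)).left := by
    rw [h1]
    exact IsSeparated.isClosedImmersion_diagonal
  have h3 : pullback.fst (GIT.psi a (𝟙 X)).left (lift (𝟙 X) (𝟙 X)).left ≫ (snd G X).left =
      pullback.snd (GIT.psi a (𝟙 X)).left (lift (𝟙 X) (𝟙 X)).left := by
    have e1 : (GIT.psi a (𝟙 X)).left ≫ (snd X X).left = (snd G X).left := by
      rw [← Over.comp_left, psi_snd]
    have e2 : (lift (𝟙 X) (𝟙 X)).left ≫ (snd X X).left = 𝟙 _ := by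
      rw [← Over.comp_left, lift_snd]; rfl
    rw [← e1, pullback.condition_assoc, e2, Category.comp_id]
  have hsq : IsPullback (fst G X).left (snd G X).left G.hom X.hom := IsPullback.of_hasPullback G.hom X.hom
  have h4 : IsAffineHom (snd G X).left := MorphismProperty.of_isPullback (P := @IsAffineHom) hsq ‹_›
  have h5 : IsAffineHom (pullback.snd (GIT.psi a (𝟙 X)).left (lift (𝟙 X) (𝟙 X)).left) := by
    rw [← h3]; infer_instance
  have h6 : IsFinite (pullback.snd (GIT.psi a (𝟙 X)).left (lift (𝟙 X) (𝟙 X)).left) :=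
    (IsFinite.iff_isProper_and_isAffineHom).2 ⟨inferInstance, h5⟩
  infer_instance

end Conv

end K687.GmGlob
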