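import Groth.Agent.GIT.K687.GmFix
import Groth.Agent.EqInt.K957.Glue2
import Groth.Agent.EqInt.K957.Restr

/-!
# Properness of `Ψ` near a point of a stable affine open subscheme, for a group of rank one
-/

set_option autoImplicit false
universe u
open CategoryTheory CategoryTheory.Limits MonoidalCategory CartesianMonoidalCategory MonObj AlgebraicGeometry
open scoped TensorProduct
open K687.PsiLoc K957.Pts K957.Restr K687.GmInt

namespace K687.GmLoc

section Semi

variable {S : Scheme.{u}} {G X X' P W : Over S} [GrpObj G] {a : AlgGrp.Action G X} {a' : AlgGrp.Action G X'}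

theorem semi_map {χ : Γ(G.left, ⊤)} {f : Γ(X.left, ⊤)} (h : Semi a χ f) {i : X' ⟶ X}
    (hi : AlgGrp.Action.IsEquivariant a' a i) : Semi a' χ (i.left.appTop.hom f) := by
  have h1 := congrArg (G ◁ i).left.appTop.hom h
  have h2 := congrArg (fun q : G ⊗ X' ⟶ X => q.left.appTop.hom f) hi
  have h3 := congrArg (fun q : G ⊗ X' ⟶ X => q.left.appTop.hom f) (whiskerLeft_snd G i)
  have h4 := congrArg (fun q : G ⊗ X' ⟶ G => q.left.appTop.hom χ) (whiskerLeft_fst G i)
  refine (h2.trans h1).trans ((map_mul (G ◁ i).left.appTop.hom _ _).trans ?_)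
  exact congrArg₂ (· * ·) h3 h4

theorem semi_basicOpen {χ : Γ(G.left, ⊤)} (hχ : IsUnit χ) {f : Γ(X.left, ⊤)} (h : Semi a χ f) :
    a.act.left ⁻¹ᵁ X.left.basicOpen f = (snd G X).left ⁻¹ᵁ X.left.basicOpen f := by
  rw [Scheme.preimage_basicOpen_top, Scheme.preimage_basicOpen_top]
  have h1 : (G ⊗ X).left.basicOpen (a.act.left.appTop.hom f) =
      (G ⊗ X).left.basicOpen ((snd G X).left.appTop.hom f * (fst G X).left.appTop.hom χ) :=
    congrArg _ h
  refine h1.trans ?_
  rw [Scheme.basicOpen_mul, Scheme.basicOpen_of_isUnit _ (hχ.map (fst G X).left.appTop.hom)]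
  exact inf_of_le_left (Scheme.basicOpen_le _ _)

theorem exists_lift {b : AlgGrp.Action G P} {w : AlgGrp.Action G W} {I : X ⟶ P}
    (hI : AlgGrp.Action.IsEquivariant a b I) {i : W ⟶ P} [IsOpenImmersion i.left]
    (hi : AlgGrp.Action.IsEquivariant w b i) :
    ∃ (X' : Over S) (a' : AlgGrp.Action G X') (v : X' ⟶ X) (I' : X' ⟶ W), IsOpenImmersion v.left ∧
      AlgGrp.Action.IsEquivariant a' a v ∧ AlgGrp.Action.IsEquivariant a' w I' ∧ I' ≫ i = v ≫ I ∧
      ∀ x, I.left x ∈ Set.range i.left → x ∈ Set.range v.left := by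
  set U : X.left.Opens := I.left ⁻¹ᵁ i.left.opensRange with hU
  have hUs : a.act.left ⁻¹ᵁ U = (snd G X).left ⁻¹ᵁ U := by
    have h1 : a.act.left ≫ I.left = (G ◁ I).left ≫ b.act.left := congrArg CommaMorphism.left hI
    have h2 : (snd G X).left ≫ I.left = (G ◁ I).left ≫ (snd G P).left := by
      rw [← Over.comp_left, ← Over.comp_left, whiskerLeft_snd]
    rw [hU, ← Scheme.Hom.comp_preimage, ← Scheme.Hom.comp_preimage, h1, h2, Scheme.Hom.comp_preimage,
      Scheme.Hom.comp_preimage, K957.Glue.invariant_opensRange i hi]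
  have hran : Set.range (U.ι ≫ I.left) ⊆ Set.range i.left := by
    rintro _ ⟨y, rfl⟩
    exact y.2
  let I' : XU U ⟶ W := Over.homMk (IsOpenImmersion.lift i.left (U.ι ≫ I.left) hran) (by
    change IsOpenImmersion.lift i.left (U.ι ≫ I.left) hran ≫ W.hom = U.ι ≫ X.hom
    have h3 : i.left ≫ P.hom = W.hom := Over.w i
    rw [← h3, IsOpenImmersion.lift_fac_assoc, Category.assoc, Over.w])
  have hI' : I' ≫ i = iU U ≫ I := Over.OverMorphism.ext (IsOpenImmersion.lift_fac _ _ _)
  have hmono : Mono i := by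
    have : Mono i.left := inferInstance
    exact Over.mono_of_mono_left _
  refine ⟨XU U, restrict a U hUs, iU U, I', inferInstance, restrict_isEquivariant a U hUs, ?_, hI', ?_⟩
  · apply isEquivariant_of_dot
    intro T g x
    rw [← cancel_mono i, Category.assoc, hI', dot_comp w hi, Category.assoc, hI', ← Category.assoc,
      ← Category.assoc, dot_comp _ (restrict_isEquivariant a U hUs), dot_comp a hI]
  · intro x hx
    exact ⟨⟨x, hx⟩, rfl⟩

end Semi

section Span

variable {K : Type u} [Field K] {N : Type} [CommGroup N]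

theorem span_top (hN : ∀ m : N, m ≠ 1 → ∀ n : N, ∃ i : ℕ, 0 < i ∧ ∃ z : ℕ, n ^ i = m ^ z ∨ n ^ i * m ^ z = 1)
    (m : N) (hm : m ≠ 1) :
    Submodule.span K {d : MonoidAlgebra K N | ∃ i : ℕ, 0 < i ∧ ∃ z : ℕ,
      d ^ i = (MonoidAlgebra.single m 1) ^ z ∨ d ^ i * (MonoidAlgebra.single m 1) ^ z = 1} = ⊤ := by
  rw [eq_top_iff]
  rintro p -
  rw [← MonoidAlgebra.sum_coeff_single p, Finsupp.sum]
  refine Submodule.sum_mem _ fun n _ => ?_
  have h1 : (MonoidAlgebra.single n (p.coeff n) : MonoidAlgebra K N) = p.coeff n • MonoidAlgebra.single n 1 := by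
    rw [MonoidAlgebra.smul_single, smul_eq_mul, _root_.mul_one]
  rw [h1]
  refine Submodule.smul_mem _ _ (Submodule.subset_span ?_)
  obtain ⟨i, hi, z, hz⟩ := hN m hm n
  refine ⟨i, hi, z, ?_⟩
  rw [MonoidAlgebra.single_pow, MonoidAlgebra.single_pow, one_pow, one_pow]
  rcases hz with hz | hz
  · left; rw [hz]
  · right; rw [MonoidAlgebra.single_mul_single, hz, _root_.mul_one]; rfl

end Span

section Loc

open K686.CoactOf Groth.Agent.Books.AffBridge

attribute [local instance] K951.Pts.algΓ CoactBr.braidedAlgSpecOf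

variable {K : Type u} [Field K] {G W : Over (Spec (CommRingCat.of K))} [GrpObj G]
  [LocallyOfFiniteType G.hom] [LocallyOfFiniteType W.hom] [IsAffine W.left]
  {w : AlgGrp.Action G W} {N : Type} [CommGroup N] (e : SpecOver K (MonoidAlgebra K N) ≅ G) [IsMonHom e.hom]

theorem isProper_of_unit
    (hN : ∀ m : N, m ≠ 1 → ∀ n : N, ∃ i : ℕ, 0 < i ∧ ∃ z : ℕ, n ^ i = m ^ z ∨ n ^ i * m ^ z = 1)
    (m : N) (hm : m ≠ 1) (f : Γ(W.left, ⊤)) (hf : IsUnit f)
    (hs : Semi w (chi e (MonoidAlgebra.single m 1)) f) : IsProper (GIT.psi w (𝟙 W)).left := by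
  have h1 : IsIntegralHom (GIT.psi w (𝟙 W)).left :=
    isIntegral_psi w e hf (c := MonoidAlgebra.single m 1) (MonoidAlgebra.isGroupLikeElem_of (R := K) m) hs
      (span_top hN m hm)
  have h2 : LocallyOfFiniteType (GIT.psi w (𝟙 W)).left := by
    have h3 : LocallyOfFiniteType ((GIT.psi w (𝟙 W)).left ≫ (W ⊗ W).hom) := by
      rw [Over.w, Over.tensorObj_hom]
      infer_instance
    exact locallyOfFiniteType_of_comp _ (W ⊗ W).hom
  have h3 : IsFinite (GIT.psi w (𝟙 W)).left :=
    (IsFinite.iff_isIntegralHom_and_locallyOfFiniteType _).2 ⟨h1, h2⟩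
  infer_instance

theorem isUnit_of_top {Y : Scheme.{u}} (f : Γ(Y, ⊤)) (h : Y.basicOpen f = ⊤) : IsUnit f := by
  have h4 := (RingedSpace.isUnit_res_basicOpen _ f).map
    (Y.presheaf.map (eqToHom h.symm).op).hom
  have h5 : (Y.presheaf.map (eqToHom h.symm).op).hom
      ((Y.presheaf.map (homOfLE (Y.basicOpen_le f)).op).hom f) = f := by
    rw [← CommRingCat.comp_apply, ← Functor.map_comp]
    have : (homOfLE (Y.basicOpen_le f)).op ≫ (eqToHom h.symm).op = 𝟙 _ := rfl
    rw [this, CategoryTheory.Functor.map_id]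
    rfl
  rw [← h5]
  exact h4

theorem isUnit_spec {κ : Type u} [Field κ] (r : Γ(Spec (CommRingCat.of κ), ⊤)) (h : r ≠ 0) : IsUnit r := by
  let E := (Scheme.ΓSpecIso (CommRingCat.of κ)).commRingCatIsoToRingEquiv
  have h1 : IsUnit (E r) := isUnit_iff_ne_zero.2 fun h0 => h (E.injective (h0.trans (map_zero E).symm))
  exact (MulEquiv.isUnit_map E).1 h1

include e in
/-- `Ψ` is proper on a stable neighbourhood of each point lying in a stable affine open subscheme of `P` -/
theorem exists_proper {X P : Over (Spec (CommRingCat.of K))} [LocallyOfFiniteType P.hom]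
    {a : AlgGrp.Action G X} {b : AlgGrp.Action G P} (I : X ⟶ P) [Mono I]
    (hI : AlgGrp.Action.IsEquivariant a b I) [Infinite N]
    (hN : ∀ m : N, m ≠ 1 → ∀ n : N, ∃ i : ℕ, 0 < i ∧ ∃ z : ℕ, n ^ i = m ^ z ∨ n ^ i * m ^ z = 1)
    (H : ∀ (κ : Type u) [Field κ] (x : Spec (CommRingCat.of κ) ⟶ X.left),
      LocallyQuasiFinite (pullback.snd (GIT.psi a (𝟙 X)).left (x ≫ (lift (𝟙 X) (𝟙 X)).left)))
    (V : P.left.Opens) (hV : IsAffineOpen V) (hVs : b.act.left ⁻¹ᵁ V = (snd G P).left ⁻¹ᵁ V)
    (x : X.left) (hx : I.left x ∈ V) :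
    ∃ (X' : Over (Spec (CommRingCat.of K))) (a' : AlgGrp.Action G X') (i : X' ⟶ X), IsOpenImmersion i.left ∧
      AlgGrp.Action.IsEquivariant a' a i ∧ x ∈ Set.range i.left ∧ IsProper (GIT.psi a' (𝟙 X')).left := by
  classical
  have haffV : IsAffine (XU V).left := hV
  set bV := restrict b V hVs with hbV
  let T : Over (Spec (CommRingCat.of K)) := Over.mk (X.left.fromSpecResidueField x ≫ X.hom)
  let xx : T ⟶ X := Over.homMk (X.left.fromSpecResidueField x)
  have hran : Set.range (X.left.fromSpecResidueField x ≫ I.left) ⊆ Set.range V.ι := by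
    rintro _ ⟨t, rfl⟩
    rw [Scheme.Opens.range_ι, Scheme.Hom.comp_apply]
    have : X.left.fromSpecResidueField x t = x := X.left.fromSpecResidueField_apply x t
    rw [this]
    exact hx
  let y : T ⟶ XU V := Over.homMk (IsOpenImmersion.lift V.ι (X.left.fromSpecResidueField x ≫ I.left) hran) (by
    change IsOpenImmersion.lift V.ι (X.left.fromSpecResidueField x ≫ I.left) hran ≫ V.ι ≫ P.hom = _
    rw [IsOpenImmersion.lift_fac_assoc, Category.assoc, Over.w]
    rfl)
  have hy : y ≫ iU V = xx ≫ I := Over.OverMorphism.ext (IsOpenImmersion.lift_fac _ _ _)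
  by_cases hcase : ∀ (m : N) (f : Γ((XU V).left, ⊤)), m ≠ 1 → GmAff.IsWt bV e m f → y.left.appTop.hom f = 0
  · exfalso
    have hfix : ∀ (T' : Over (Spec (CommRingCat.of K))) (g : T' ⟶ G) (p : T' ⟶ T),
        dot a g (p ≫ xx) = p ≫ xx := by
      intro T' g p
      have h1 : dot bV g (p ≫ y) = p ≫ y := GmAff.fixed bV e y hcase g p
      rw [← cancel_mono I, dot_comp a hI, Category.assoc, ← hy, ← Category.assoc,
        ← dot_comp bV (restrict_isEquivariant b V hVs), h1]
    have hsq := isPullback_left (GmFix.isPullback_triv a xx hfix)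
    have h2 : LocallyQuasiFinite (snd G T).left := by
      have h3 := H (X.left.residueField x) (X.left.fromSpecResidueField x)
      have h4 : (lift xx xx).left = X.left.fromSpecResidueField x ≫ (lift (𝟙 X) (𝟙 X)).left := by
        have : lift xx xx = xx ≫ lift (𝟙 X) (𝟙 X) := by rw [comp_lift, Category.comp_id]
        rw [this]
        rfl
      rw [← h4] at h3
      have h5 := hsq.isoPullback_hom_snd
      rw [← h5]
      infer_instance
    exact GmFix.not_finite_monoidAlgebra N (GmFix.finite_of_lqf (κ := X.left.residueField x) e rfl h2)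
  · push Not at hcase
    obtain ⟨m, f, hm, hf, hne⟩ := hcase
    have hc : IsGroupLikeElem K (MonoidAlgebra.single m 1 : MonoidAlgebra K N) :=
      MonoidAlgebra.isGroupLikeElem_of (R := K) m
    have hsemi : Semi bV (chi e (MonoidAlgebra.single m 1)) f := semi_of_wt bV e _ f hf
    set D := (XU V).left.basicOpen f with hD
    have hDs := semi_basicOpen (isUnit_chi e hc) hsemi
    rw [← hD] at hDs
    have hDaff : IsAffineOpen D := (isAffineOpen_top _).basicOpen f
    have haffW : IsAffine (XU (X := XU V) D).left := hDaff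
    let w := restrict bV D hDs
    have hwe : AlgGrp.Action.IsEquivariant w b (iU D ≫ iU V) := by
      apply isEquivariant_of_dot
      intro T g z
      rw [← Category.assoc, dot_comp w (restrict_isEquivariant bV D hDs), dot_comp bV
        (restrict_isEquivariant b V hVs), Category.assoc]
    have hsw : Semi w (chi e (MonoidAlgebra.single m 1)) ((iU D).left.appTop.hom f) :=
      semi_map hsemi (restrict_isEquivariant bV D hDs)
    have huw : IsUnit ((iU D).left.appTop.hom f) := by
      apply isUnit_of_top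
      have h7 := Scheme.preimage_basicOpen_top (iU (X := XU V) D).left f
      rw [← h7]
      exact Scheme.Opens.ι_preimage_self D
    have hft : LocallyOfFiniteType (XU (X := XU V) D).hom :=
      inferInstanceAs (LocallyOfFiniteType (D.ι ≫ V.ι ≫ P.hom))
    have hprop := isProper_of_unit (w := w) e hN m hm _ huw hsw
    have hio : IsOpenImmersion (iU D ≫ iU V).left := inferInstanceAs (IsOpenImmersion (D.ι ≫ V.ι))
    obtain ⟨X', a', v, I', hv, ha1, ha2, hI', hx'⟩ := exists_lift (w := w) hI (i := iU D ≫ iU V) hwe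
    have hmonoI' : Mono I' := by
      have h1 : Mono v := by
        have : Mono v.left := inferInstance
        exact Over.mono_of_mono_left _
      have : Mono (I' ≫ (iU D ≫ iU V)) := by rw [hI']; infer_instance
      exact mono_of_mono I' (iU D ≫ iU V)
    refine ⟨X', a', v, hv, ha1, hx' x ?_, ?_⟩
    · have ht : Nonempty T.left := inferInstanceAs (Nonempty (PrimeSpectrum (X.left.residueField x)))
      have t : T.left := Classical.arbitrary _
      have hu : IsUnit (y.left.appTop.hom f) := by
        exact isUnit_spec (κ := X.left.residueField x) _ hne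
      have h8 : T.left.basicOpen (y.left.appTop.hom f) = ⊤ := Scheme.basicOpen_of_isUnit _ hu
      have h9 : y.left t ∈ D := by
        have h10 := Scheme.preimage_basicOpen_top y.left f
        change t ∈ y.left ⁻¹ᵁ D
        rw [hD, h10]
        have h14 : t ∈ T.left.basicOpen (y.left.appTop.hom f) := by rw [h8]; trivial
        exact h14
      refine ⟨⟨y.left t, h9⟩, ?_⟩
      have h11 : (y ≫ iU V).left t = (xx ≫ I).left t := by rw [hy]
      have h12 : X.left.fromSpecResidueField x t = x := X.left.fromSpecResidueField_apply x t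
      have h13 : (xx ≫ I).left t = I.left (X.left.fromSpecResidueField x t) := rfl
      rw [h13, h12] at h11
      exact h11
    · exact MorphismProperty.of_isPullback (P := @IsProper) (isPullback_psi_left w a' ha2) hprop

end Loc

end K687.GmLoc
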