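import Groth.Agent.GIT.K687.Lift2
import Groth.Agent.HopfRep.K191.GLEmb

/-!
# The Hilbert-Mumford criterion for linearly reductive groups in characteristic zero

`K687.hm_dvr`: the form with a discrete valuation ring; `K687.hm`: the form with orbit closures.
-/

set_option autoImplicit false
set_option linter.unusedSectionVars false
set_option linter.style.haveILetI false

universe u v w w'

open TensorProduct LaurentPolynomial IsLocalRing CoordGrp

namespace K687

section GLn2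

variable {k : Type u} [Field k] [IsAlgClosed k] {n : ℕ}
  {R : Type w} [CommRing R] [Algebra k R] [HopfRep.Comod k (GLn n k) R] [GLin.IsCoactAlg k (GLn n k) R]

/-- Hilbert-Mumford for the general linear group, with a discrete valuation ring and an explicit one-parameter
subgroup. -/
theorem hm_GLn_dvr_explicit {O : Type u} [CommRing O] [IsDomain O] [IsDiscreteValuationRing O] [Algebra k O]
    {K : Type v} [Field K] [Algebra k K] [Algebra O K] [IsFractionRing O K] [IsScalarTower k O K]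
    (I : Ideal R) (hI : IsStable (k := k) (GLn n k) I) (x : R →ₐ[k] k)
    (g : Pt k (GLn n k) K) (h : R →ₐ[k] O)
    (hgh : (IsScalarTower.toAlgHom k O K).comp h = mv ((Algebra.ofId k K).comp x) g)
    (hhI : ∀ f ∈ I, h f ∈ maximalIdeal O) :
    ∃ (r : Fin n → ℤ) (a₀ : Pt k (GLn n k) k) (y : R →ₐ[k] k),
      GLin.IsLimit k (GLn n k) (conj a₀ (GLn.diag n k r)) x y ∧ (∀ f ∈ I, y f = 0) ∧
      (lamPt (GLn.diag n k r) = 1 → ∃ g₀ : Pt k (GLn n k) O, Pt.bc (IsScalarTower.toAlgHom k O K) g₀ = g) := by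
  obtain ⟨π, hπ⟩ := IsDiscreteValuationRing.exists_irreducible O
  have hinj : Function.Injective (IsScalarTower.toAlgHom k O K) := IsFractionRing.injective O K
  have hπK : algebraMap O K π ≠ 0 := by
    intro h
    exact hπ.ne_zero (hinj (by rw [map_zero]; exact h))
  obtain ⟨P, B, r, hP, hB, hPB⟩ := exists_cartan (K := K) π hπ (GLn_mat g) (isUnit_det_GLn_mat g).ne_zero
  let u : Kˣ := Units.mk0 (algebraMap O K π) hπK
  have hg : g = Pt.bc (IsScalarTower.toAlgHom k O K) (GLn_pt P hP) *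
      Pt.mk ((evU k u).comp (GLn.diag n k r : GLn n k →ₐ[k] k[T;T⁻¹])) *
      Pt.bc (IsScalarTower.toAlgHom k O K) (GLn_pt B hB) := by
    apply GLn_pt_ext
    intro i j
    have h1 := congrFun (congrFun hPB i) j
    change g.hom (GLn.X i j) = _ at h1
    rw [h1, Matrix.mul_apply, GLn_mul_X]
    refine Finset.sum_congr rfl fun l _ => ?_
    rw [Matrix.mul_apply, GLn_mul_X]
    congr 1
    · refine Finset.sum_congr rfl fun m _ => ?_
      rw [Matrix.map_apply, Pt.bc_apply, GLn_pt_X, Matrix.diagonal_apply]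
      congr 1
      change _ = evU k u (GLn.diag n k r (GLn.X m l))
      rw [GLn.diag_X]
      split_ifs with hml
      · rw [evU_T, Units.val_zpow_eq_zpow_val]
        rfl
      · rw [map_zero]
    · rw [Matrix.map_apply, Pt.bc_apply, GLn_pt_X]
      rfl
  obtain ⟨a₀, y, hy, hyI⟩ := hm_core (IsScalarTower.toAlgHom k O K) hinj I hI x g h hgh hhI
    (GLn_pt P hP) (GLn_pt B hB) (GLn.diag n k r) π
    ((IsDiscreteValuationRing.irreducible_iff_uniformizer π).mp hπ ▸ Ideal.mem_span_singleton_self π) u rfl hg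
  refine ⟨r, a₀, y, hy, hyI, fun htriv => ?_⟩
  have h1 : Pt.mk ((evU k u).comp (GLn.diag n k r : GLn n k →ₐ[k] k[T;T⁻¹])) = (1 : Pt k (GLn n k) K) := by
    have h2 : Pt.mk ((evU k u).comp (GLn.diag n k r : GLn n k →ₐ[k] k[T;T⁻¹])) =
        Pt.bc (evU k u) (lamPt (GLn.diag n k r)) := rfl
    rw [h2, htriv, map_one]
  refine ⟨GLn_pt P hP * GLn_pt B hB, ?_⟩
  rw [hg, h1, map_mul, mul_one]

end GLn2

section Laurent

variable {k : Type u} [Field k] [Infinite k]

/-- A Laurent polynomial vanishing at all units is zero. -/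
theorem eq_zero_of_evU (p : k[T;T⁻¹]) (hp : ∀ t : kˣ, evU k t p = 0) : p = 0 := by
  obtain ⟨N, q, hq⟩ := LaurentPolynomial.exists_T_pow p
  have h1 : ∀ t : kˣ, q.eval (t : k) = 0 := by
    intro t
    have h2 : (evU k t).comp (Polynomial.toLaurentAlg (R := k)) = Polynomial.aeval (t : k) := by
      apply Polynomial.algHom_ext
      rw [AlgHom.comp_apply, Polynomial.aeval_X]
      change evU k t (Polynomial.toLaurent Polynomial.X) = _
      rw [Polynomial.toLaurent_X, evU_T, zpow_one]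
    have h3 := DFunLike.congr_fun h2 q
    have h4 : evU k t (Polynomial.toLaurent q) = 0 := by
      rw [hq, map_mul, hp, zero_mul]
    rw [← Polynomial.coe_aeval_eq_eval]
    exact h3.symm.trans h4
  have h2 : Polynomial.X * q = 0 := by
    apply Polynomial.funext
    intro t
    rw [Polynomial.eval_mul, Polynomial.eval_X, Polynomial.eval_zero]
    by_cases ht : t = 0
    · rw [ht, zero_mul]
    · have h2 := h1 (Units.mk0 t ht)
      rw [Units.val_mk0] at h2
      rw [h2, mul_zero]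
  have h3 : q = 0 := by
    rcases mul_eq_zero.mp h2 with h | h
    · exact absurd h Polynomial.X_ne_zero
    · exact h
  rw [h3, map_zero] at hq
  have h4 : IsUnit (T (N : ℤ) : k[T;T⁻¹]) := LaurentPolynomial.isUnit_T _
  rcases h4 with ⟨v, hv⟩
  rw [← hv] at hq
  have h5 := congrArg (· * ((v⁻¹ : (k[T;T⁻¹])ˣ) : k[T;T⁻¹])) hq
  simp only [zero_mul, Units.mul_inv_cancel_right] at h5
  exact h5.symm

end Laurent

section ToInd

variable {k : Type u} [Field k] {A : Type v} [CommRing A] [HopfAlgebra k A] {B : Type v} [CommRing B]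
  [HopfAlgebra k B] (π : B →ₐc[k] A) (R : Type w) [CommRing R] [Algebra k R] [HopfRep.Comod k A R]
  [GLin.IsCoactAlg k A R] {C : Type w'} [CommRing C] [Algebra k C]

omit [HopfRep.Comod k A R] [GLin.IsCoactAlg k A R] in
variable {R} in
theorem ev2_includeRight' (p : R →ₐ[k] C) (b : Pt k B C) (f : B) :
    ev2 p b ((Algebra.TensorProduct.includeRight : B →ₐ[k] R ⊗[k] B) f) = b.hom f := by
  rw [Algebra.TensorProduct.includeRight_apply, ev2_tmul, map_one, one_mul]

theorem includeRight_mem_cot {f : B} (hf : f ∈ linv π) :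
    (Algebra.TensorProduct.includeRight : B →ₐ[k] R ⊗[k] B) f ∈ cot π R := by
  apply mem_cot_of_forall
  intro p g b
  rw [ev2_includeRight', ev2_includeRight', pull_mul_apply π hf]

/-- The projection `X ×^G H → G \ H`. -/
noncomputable def linvToInd : linv π →ₐ[k] IndAlg π R :=
  ((Algebra.TensorProduct.includeRight : B →ₐ[k] R ⊗[k] B).comp (linv π).val).codRestrict (cot π R)
    (fun f => includeRight_mem_cot π R f.2)

variable {R} in
theorem ind2_linvToInd (p : R →ₐ[k] C) (b : Pt k B C) (f : linv π) :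
    ind2 π p b (linvToInd π R f) = b.hom (f : B) := ev2_includeRight' p b (f : B)

end ToInd

section HM

variable {k : Type u} [Field k] [IsAlgClosed k] [CharZero k] {A : Type u} [CommRing A] [HopfAlgebra k A]
  [Algebra.FiniteType k A] {R : Type u} [CommRing R] [Algebra k R] [HopfRep.Comod k A R] [GLin.IsCoactAlg k A R]

/-- Hilbert-Mumford for linearly reductive groups in characteristic zero, with a discrete valuation ring. -/
theorem hm_dvr (hG : HopfRep.IsLinearlyReductive k A) {O : Type u} [CommRing O] [IsDomain O]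
    [IsDiscreteValuationRing O] [Algebra k O]
    {K : Type v} [Field K] [Algebra k K] [Algebra O K] [IsFractionRing O K] [IsScalarTower k O K]
    (I : Ideal R) (hI : IsStable (k := k) A I) (x : R →ₐ[k] k)
    (g : Pt k A K) (h : R →ₐ[k] O)
    (hgh : (IsScalarTower.toAlgHom k O K).comp h = mv ((Algebra.ofId k K).comp x) g)
    (hhI : ∀ f ∈ I, h f ∈ maximalIdeal O) :
    ∃ (lam : A →ₐc[k] k[T;T⁻¹]) (y : R →ₐ[k] k), GLin.IsLimit k A lam x y ∧ (∀ f ∈ I, y f = 0) ∧
      (SGA3t2b.IsTrivialBialgHom lam → ∃ g₀ : Pt k A O, Pt.bc (IsScalarTower.toAlgHom k O K) g₀ = g) := by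
  have hinj : Function.Injective (IsScalarTower.toAlgHom k O K) := IsFractionRing.injective O K
  obtain ⟨n, π, hπ⟩ := K191.GLEmb.exists_surjective (k := k) (A := A)
  let x' : IndAlg π R →ₐ[k] k := x.comp (rhoInd π)
  obtain ⟨r, a₀, y', hy', hyI', htriv⟩ := hm_GLn_dvr_explicit (K := K) (indIdeal π I) (isStable_indIdeal π I) x'
    (pull π g) (h.comp (rhoInd π)) (by
      rw [← AlgHom.comp_assoc, hgh, ← mv_comp_rhoInd_pull]
      rfl) (fun f hf => hhI _ (rhoInd_mem π hf))
  -- the limit along `diag (t ^ r)`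
  have hlim := isLimit_conj hy' a₀⁻¹
  rw [conj_conj, inv_mul_cancel, conj_one, inv_inv] at hlim
  obtain ⟨q, hq, hq0⟩ := hlim
  have hx'a : mv x' a₀ = ind2 π x a₀ := mv_comp_rhoInd π x a₀
  let P : linv π →ₐ[k] Polynomial k := q.comp (linvToInd π R)
  have hP : ∀ f : linv π, Polynomial.toLaurent (P f) =
      (Pt.bc (Algebra.ofId k k[T;T⁻¹]) a₀ * lamPt (GLn.diag n k r)).hom (f : GLn n k) := by
    intro f
    have h1 := DFunLike.congr_fun hq (linvToInd π R f)
    refine h1.trans ?_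
    rw [lamOrbit_eq, hx'a, comp_ind2, mv_ind2, ind2_linvToInd]
  obtain ⟨h₁, hh₁⟩ := exists_lift π hG ((Polynomial.aeval (0 : k)).comp P)
  obtain ⟨M, hM, hagree⟩ := exists_agree_mul_uPt a₀ h₁ P hP hh₁
  have hfix := agree_of_limit π (GLn.diag n k r) a₀ h₁ P hP hh₁
  let w : Pt k (GLn n k) k := uPt hM
  let u : Pt k (GLn n k) k := a₀ * w⁻¹
  let L : Pt k (GLn n k) k[T;T⁻¹] := lamPt (GLn.diag n k r)
  let μ : Pt k (GLn n k) k[T;T⁻¹] := lamPt (conj u (GLn.diag n k r))
  have hμ : μ = Pt.bc (Algebra.ofId k _) u * L * (Pt.bc (Algebra.ofId k _) u)⁻¹ := lamPt_conj _ _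
  have hu : Agree π u h₁ := by
    have h1 := hagree.symm.mul_right w⁻¹
    rw [mul_inv_cancel_right] at h1
    exact h1
  have hμ1 : Agree π μ 1 := by
    rw [hμ]
    have hu' : Agree π (Pt.bc (Algebra.ofId k k[T;T⁻¹]) u) (Pt.bc (Algebra.ofId k k[T;T⁻¹]) h₁) := hu.bc _
    have h1 : Agree π (Pt.bc (Algebra.ofId k k[T;T⁻¹]) u * L) (Pt.bc (Algebra.ofId k k[T;T⁻¹]) u) :=
      ((hu'.mul_right L).trans hfix).trans hu'.symm
    have h2 := h1.mul_right (Pt.bc (Algebra.ofId k k[T;T⁻¹]) u)⁻¹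
    rw [mul_inv_cancel] at h2
    exact h2
  -- it lies in the subgroup
  have hker : ∀ f, π f = 0 → μ.hom f = 0 := by
    intro f hf
    apply eq_zero_of_evU
    intro t
    have h1 : Agree π (Pt.bc (evU k t) μ) 1 := by
      have h2 := hμ1.bc (evU k t)
      rw [map_one] at h2
      exact h2
    exact eq_zero_of_agree_one π hG hπ _ h1 f hf
  obtain ⟨μ', hμ'⟩ := exists_pull hπ μ hker
  have hc1 : Pt.bc (Bialgebra.counitAlgHom k k[T;T⁻¹]) μ' = 1 := by
    apply pull_injective π hπ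
    rw [← bc_pull, hμ', bc_counit_lamPt, map_one]
  have hc2 : Pt.bc (Bialgebra.comulAlgHom k k[T;T⁻¹]) μ' =
      Pt.bc (Algebra.TensorProduct.includeLeft : k[T;T⁻¹] →ₐ[k] k[T;T⁻¹] ⊗[k] k[T;T⁻¹]) μ' *
      Pt.bc (Algebra.TensorProduct.includeRight : k[T;T⁻¹] →ₐ[k] k[T;T⁻¹] ⊗[k] k[T;T⁻¹]) μ' := by
    apply pull_injective π hπ
    rw [← bc_pull, hμ', map_mul, ← bc_pull, ← bc_pull, hμ', bc_comul_lamPt]
  let lam : A →ₐc[k] k[T;T⁻¹] := mkLam μ' hc1 hc2
  have hlam : lamPt lam = μ' := lamPt_mkLam _ _ _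
  -- the limit
  let q' : IndAlg π R →ₐ[k] Polynomial k := mv q ((gam hM)⁻¹ * Pt.bc (Algebra.ofId k _) u⁻¹)
  have hq' : (Polynomial.toLaurentAlg (R := k)).comp q' = (GLin.lamOrbit k A lam x).comp (rhoInd π) := by
    have h1 : (Polynomial.toLaurentAlg (R := k)).comp q' = mv ((Algebra.ofId k k[T;T⁻¹]).comp x')
        (Pt.bc (Algebra.ofId k k[T;T⁻¹]) a₀ * L * ((Pt.bc (Polynomial.toLaurentAlg (R := k)) (gam hM))⁻¹ *
          (Pt.bc (Algebra.ofId k k[T;T⁻¹]) u)⁻¹)) := by
      change (Polynomial.toLaurentAlg (R := k)).comp (mv q _) = _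
      rw [comp_mv, hq, lamOrbit_eq]
      have h2 : (Algebra.ofId k k[T;T⁻¹]).comp (mv x' a₀) =
        mv ((Algebra.ofId k k[T;T⁻¹]).comp x') (Pt.bc (Algebra.ofId k _) a₀) := comp_mv _ _ _
      rw [h2, mv_mul, mv_mul, map_mul, map_inv, bc_ofId, map_inv, ← mul_assoc]
    have h3 : Pt.bc (Algebra.ofId k k[T;T⁻¹]) a₀ * L * ((Pt.bc (Polynomial.toLaurentAlg (R := k)) (gam hM))⁻¹ *
          (Pt.bc (Algebra.ofId k k[T;T⁻¹]) u)⁻¹) = μ := by
      have h4 : L * (Pt.bc (Polynomial.toLaurentAlg (R := k)) (gam hM))⁻¹ =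
          (Pt.bc (Algebra.ofId k k[T;T⁻¹]) w)⁻¹ * L := by
        have h5 : L * Pt.bc (Polynomial.toLaurentAlg (R := k)) (gam hM) =
            Pt.bc (Algebra.ofId k k[T;T⁻¹]) w * L := lamPt_mul_gam hM
        rw [eq_inv_mul_iff_mul_eq, ← mul_assoc, ← h5, mul_inv_cancel_right]
      have h6 : Pt.bc (Algebra.ofId k k[T;T⁻¹]) u = Pt.bc (Algebra.ofId k k[T;T⁻¹]) a₀ *
          (Pt.bc (Algebra.ofId k k[T;T⁻¹]) w)⁻¹ := by
        change Pt.bc (Algebra.ofId k k[T;T⁻¹]) (a₀ * w⁻¹) = _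
        rw [map_mul, map_inv]
      rw [hμ, mul_assoc, ← mul_assoc L, h4, mul_assoc, ← mul_assoc, ← h6, ← mul_assoc]
    rw [h1, h3, ← hμ', lamOrbit_eq, hlam]
    have h7 := mv_comp_rhoInd_pull π ((Algebra.ofId k k[T;T⁻¹]).comp x) μ'
    exact h7
  have hq'0 : (Polynomial.aeval (0 : k)).comp q' = mv y' (a₀ * u⁻¹) := by
    change (Polynomial.aeval (0 : k)).comp (mv q _) = _
    rw [comp_mv, hq0, mv_mul, map_mul, map_inv, bc_aeval_gam, inv_one, one_mul, bc_ofId, bc_self]
  have hsurj := rhoInd_surjective π (R := R) hG hπ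
  have hcoeff : ∀ (t : IndAlg π R) (j : ℤ), x (wt lam j (rhoInd π t)) = (Polynomial.toLaurent (q' t)).coeff j := by
    intro t j
    rw [← coeff_lamOrbit]
    have h1 := DFunLike.congr_fun hq' t
    have h2 : GLin.lamOrbit k A lam x (rhoInd π t) = Polynomial.toLaurent (q' t) := h1.symm
    rw [h2]
  obtain ⟨y, hy, hy0⟩ := exists_limit_of_coeff lam x (fun f j hj => by
    obtain ⟨t, rfl⟩ := hsurj f
    rw [hcoeff, coeff_toLaurent_neg _ _ hj])
  refine ⟨lam, y, hy, ?_, ?_⟩
  · intro f hf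
    obtain ⟨t, ht, rfl⟩ := exists_indAlg π hG hπ I hI f hf
    rw [hy0, hcoeff, ← aeval_zero_eq_coeff]
    have h1 : Polynomial.aeval (0 : k) (q' t) = mv y' (a₀ * u⁻¹) t := DFunLike.congr_fun hq'0 t
    rw [h1]
    have h2 := mv_mem_of_stable (isStable_indIdeal π I) (⊥ : Ideal k) y' (fun f hf => hyI' f hf) (a₀ * u⁻¹) t ht
    exact h2
  · intro htr
    rw [isTrivial_iff, hlam] at htr
    have h1 : L = 1 := by
      have h2 : μ = 1 := by rw [← hμ', htr, map_one]
      rw [hμ] at h2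
      have h3 : L = (Pt.bc (Algebra.ofId k k[T;T⁻¹]) u)⁻¹ * (Pt.bc (Algebra.ofId k _) u * L *
          (Pt.bc (Algebra.ofId k _) u)⁻¹) * Pt.bc (Algebra.ofId k k[T;T⁻¹]) u := by group
      rw [h3, h2]
      group
    obtain ⟨g₀', hg₀'⟩ := htriv h1
    obtain ⟨g₀, hg₀⟩ := exists_pull hπ g₀' (fun f hf => by
      apply hinj
      have h2 := congrArg (fun g : Pt k (GLn n k) K => g.hom f) hg₀'
      have h3 : IsScalarTower.toAlgHom k O K (g₀'.hom f) = g.hom (π f) := h2
      rw [h3, hf, map_zero, map_zero])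
    refine ⟨g₀, ?_⟩
    apply pull_injective π hπ
    rw [← bc_pull, hg₀, hg₀']

/-- Hilbert-Mumford for linearly reductive groups in characteristic zero: if the zero set of a stable ideal `I` meets
the orbit closure of `x` in a rational point, then some one-parameter subgroup moves `x` to a limit in the zero set. -/
theorem hm [Algebra.FiniteType k R] (hG : HopfRep.IsLinearlyReductive k A)
    (I : Ideal R) (hI : IsStable (k := k) A I) (x z : R →ₐ[k] k)
    (hz : GLin.InOrbitClosure k A x z) (hzI : ∀ f ∈ I, z f = 0) :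
    ∃ (lam : A →ₐc[k] k[T;T⁻¹]) (y : R →ₐ[k] k), GLin.IsLimit k A lam x y ∧ ∀ f ∈ I, y f = 0 := by
  rcases exists_dvr_point (GLin.orbitHom k A x) z hz with ⟨g, hg⟩ |
    ⟨O, i1, i2, i3, i4, K, j1, j2, j3, j4, j5, g, h, hgh, hh⟩
  · -- `z` is in the orbit, so `x` is in the zero set
    obtain ⟨lam, _, hlam⟩ := exists_trivial_limit (A := A) x
    refine ⟨lam, x, hlam, ?_⟩
    have hgz : mv x (Pt.mk g) = z := by
      have := comp_orbitHom x (Pt.mk g)
      rw [ofId_self_comp] at this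
      rw [← this]
      exact hg
    have hx : mv z (Pt.mk g)⁻¹ = x := by
      rw [← hgz, mv_mul, mul_inv_cancel, mv_one]
    intro f hf
    rw [← hx]
    exact mv_mem_of_stable hI ⊥ z hzI _ f hf
  · obtain ⟨lam, y, h1, h2, _⟩ := hm_dvr (O := O) (K := K) hG I hI x (Pt.mk g) h (by
      rw [hgh]
      exact comp_orbitHom x (Pt.mk g)) (fun f hf => hh f (hzI f hf))
    exact ⟨lam, y, h1, h2⟩

end HM

end K687
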