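import Groth.Agent.GIT.K687.HMGLn

/-!
# The Hilbert-Mumford criterion for the special linear group

`K687.hm_SLn_dvr`, `K687.hm_SLn`: the one-parameter subgroup is a conjugate of a diagonal one.
-/

set_option autoImplicit false
set_option linter.unusedSectionVars false
set_option linter.style.haveILetI false

universe u v w w'

open TensorProduct LaurentPolynomial IsLocalRing CoordGrp

namespace K687

theorem prod_zpow_sum {K : Type*} [Field K] {a : K} (ha : a ≠ 0) {ι : Type*} (s : Finset ι) (r : ι → ℤ) :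
    ∏ i ∈ s, a ^ (r i) = a ^ (∑ i ∈ s, r i) := by
  classical
  induction s using Finset.induction_on with
  | empty => simp
  | insert i s hi ih => rw [Finset.prod_insert hi, Finset.sum_insert hi, ih, zpow_add₀ ha]

/-- Cartan decomposition of matrices of determinant one. -/
theorem exists_cartan_one {O : Type u} [CommRing O] [IsDomain O] [IsDiscreteValuationRing O] {K : Type v} [Field K]
    [Algebra O K] [IsFractionRing O K] (π : O) (hπ : Irreducible π) {n : ℕ}
    (M : Matrix (Fin n) (Fin n) K) (hM : M.det = 1) :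
    ∃ (P B : Matrix (Fin n) (Fin n) O) (r : Fin n → ℤ), P.det = 1 ∧ B.det = 1 ∧ ∑ i, r i = 0 ∧
      M = P.map (algebraMap O K) * Matrix.diagonal (fun i => (algebraMap O K π) ^ (r i)) *
        B.map (algebraMap O K) := by
  classical
  rcases n with _ | n
  · exact ⟨1, 1, 0, Matrix.det_one, Matrix.det_one, by simp, Subsingleton.elim _ _⟩
  have hinj : Function.Injective (algebraMap O K) := IsFractionRing.injective O K
  have hπK : algebraMap O K π ≠ 0 := by
    intro h
    exact hπ.ne_zero (hinj (by rw [map_zero]; exact h))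
  obtain ⟨P, B, r, hP, hB, hPB⟩ := exists_cartan (K := K) π hπ M (by rw [hM]; exact one_ne_zero)
  -- the determinant
  have hdet : algebraMap O K (P.det * B.det) * (algebraMap O K π) ^ (∑ i, r i) = 1 := by
    rw [← hM, hPB, Matrix.det_mul, Matrix.det_mul, Matrix.det_diagonal, map_mul]
    have h1 : (P.map (algebraMap O K)).det = algebraMap O K P.det := ((algebraMap O K).map_det P).symm
    have h2 : (B.map (algebraMap O K)).det = algebraMap O K B.det := ((algebraMap O K).map_det B).symm
    rw [h1, h2, prod_zpow_sum hπK]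
    ring
  have hr : ∑ i, r i = 0 := by
    have hu : IsUnit (P.det * B.det) := hP.mul hB
    rcases lt_trichotomy (∑ i, r i) 0 with hlt | h0 | hgt
    · exfalso
      obtain ⟨m, hm⟩ : ∃ m : ℕ, ∑ i, r i = -((m : ℤ) + 1) := ⟨(-(∑ i, r i) - 1).toNat, by omega⟩
      rw [hm, zpow_neg] at hdet
      have h1 : algebraMap O K (P.det * B.det) = algebraMap O K (π ^ (m + 1)) := by
        rw [map_pow]
        have h2 : (algebraMap O K π) ^ ((m : ℤ) + 1) = (algebraMap O K π) ^ (m + 1) := by
          rw [← zpow_natCast]; norm_cast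
        rw [h2] at hdet
        exact (mul_inv_eq_one₀ (pow_ne_zero _ hπK)).mp hdet
      have h3 := hinj h1
      rw [h3] at hu
      exact hπ.not_isUnit (isUnit_of_dvd_unit (dvd_pow_self π (Nat.succ_ne_zero m)) hu)
    · exact h0
    · exfalso
      obtain ⟨m, hm⟩ : ∃ m : ℕ, ∑ i, r i = (m : ℤ) + 1 := ⟨((∑ i, r i) - 1).toNat, by omega⟩
      rw [hm] at hdet
      have h1 : algebraMap O K (P.det * B.det * π ^ (m + 1)) = algebraMap O K 1 := by
        rw [map_mul, map_pow, map_one, ← hdet]
        congr 1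
        rw [← zpow_natCast]; norm_cast
      have h3 := hinj h1
      have h4 : IsUnit (π ^ (m + 1)) := IsUnit.of_mul_eq_one _ (by rw [mul_comm]; exact h3)
      exact hπ.not_isUnit (isUnit_of_dvd_unit (dvd_pow_self π (Nat.succ_ne_zero m)) h4)
  rw [hr, zpow_zero, mul_one] at hdet
  have hPBdet : P.det * B.det = 1 := hinj (by rw [hdet, map_one])
  have hdd : ∀ δ : O, (Matrix.diagonal (Function.update (1 : Fin (n + 1) → O) 0 δ)).det = δ := by
    intro δ
    rw [Matrix.det_diagonal, Fin.prod_univ_succ]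
    simp
  refine ⟨P * Matrix.diagonal (Function.update 1 0 B.det), Matrix.diagonal (Function.update 1 0 P.det) * B, r,
    ?_, ?_, hr, ?_⟩
  · rw [Matrix.det_mul, hdd, hPBdet]
  · rw [Matrix.det_mul, hdd, hPBdet]
  · have hDD : (Matrix.diagonal (Function.update (1 : Fin (n + 1) → O) 0 B.det)).map (algebraMap O K) *
        Matrix.diagonal (fun i => (algebraMap O K π) ^ (r i)) *
        (Matrix.diagonal (Function.update (1 : Fin (n + 1) → O) 0 P.det)).map (algebraMap O K) =
        Matrix.diagonal (fun i => (algebraMap O K π) ^ (r i)) := by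
      rw [Matrix.diagonal_map (map_zero _), Matrix.diagonal_map (map_zero _), Matrix.diagonal_mul_diagonal,
        Matrix.diagonal_mul_diagonal]
      congr 1
      funext i
      by_cases hi : i = 0
      · subst hi
        simp only [Function.comp_apply, Function.update_self]
        have h1 : algebraMap O K B.det * algebraMap O K P.det = 1 := by rw [← map_mul, mul_comm, hPBdet, map_one]
        linear_combination (algebraMap O K π) ^ (r 0) * h1
      · simp only [Function.comp_apply, Function.update_of_ne hi, Pi.one_apply, map_one]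
        ring
    rw [hPB, Matrix.map_mul, Matrix.map_mul]
    conv_lhs => rw [← hDD]
    simp only [Matrix.mul_assoc]

section SLnPts

variable {k : Type u} [CommRing k] {n : ℕ} {C : Type w} [CommRing C] [Algebra k C]

/-- The matrix of a point of the special linear group. -/
noncomputable def SLn_mat (g : Pt k (SLn n k) C) : Matrix (Fin n) (Fin n) C := fun i j => g.hom (SLn.X i j)

/-- The point of the special linear group given by a matrix. -/
noncomputable def SLn_pt (M : Matrix (Fin n) (Fin n) C) (h : M.det = 1) : Pt k (SLn n k) C :=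
  Pt.mk (SLn.pt n k M h)

theorem SLn_mul_X (g h : Pt k (SLn n k) C) (i j : Fin n) :
    (g * h).hom (SLn.X i j) = ∑ l, g.hom (SLn.X i l) * h.hom (SLn.X l j) := by
  have h1 : (g * h).hom.comp (SLn.mk n k) =
      (Pt.mk (g.hom.comp (SLn.mk n k)) * Pt.mk (h.hom.comp (SLn.mk n k)) : Pt k (GLn n k) C).hom := by
    apply AlgHom.ext
    intro a
    rw [Pt.mul_apply, AlgHom.comp_apply, Pt.mul_apply]
    have h2 : CoalgebraStruct.comul (R := k) (SLn.mk n k a) =
        TensorProduct.map (SLn.mk n k).toLinearMap (SLn.mk n k).toLinearMap (CoalgebraStruct.comul (R := k) a) :=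
      (CoalgHomClass.map_comp_comul_apply (SLn.mkHom n k) a).symm
    rw [h2]
    induction CoalgebraStruct.comul (R := k) a using TensorProduct.induction_on with
    | zero => simp
    | tmul x y =>
      rw [TensorProduct.map_tmul, Algebra.TensorProduct.lift_tmul, Algebra.TensorProduct.lift_tmul]
      rfl
    | add x y hx hy => rw [map_add, map_add, map_add, hx, hy]
  have h2 := congrArg (fun φ => φ (GLn.X i j)) h1
  exact h2.trans (GLn_mul_X _ _ i j)

theorem SLn_pt_ext {g h : Pt k (SLn n k) C} (e : ∀ i j, g.hom (SLn.X i j) = h.hom (SLn.X i j)) : g = h := by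
  have h1 : (Pt.mk (g.hom.comp (SLn.mk n k)) : Pt k (GLn n k) C) = Pt.mk (h.hom.comp (SLn.mk n k)) :=
    GLn_pt_ext e
  apply Pt.ext
  intro a
  obtain ⟨a, rfl⟩ := Ideal.Quotient.mk_surjective a
  exact congrArg (fun φ : Pt k (GLn n k) C => φ.hom a) h1

theorem SLn_pt_X (M : Matrix (Fin n) (Fin n) C) (h : M.det = 1) (i j : Fin n) :
    (SLn_pt (k := k) M h).hom (SLn.X i j) = M i j := SLn.pt_X M h i j

theorem det_SLn_mat (g : Pt k (SLn n k) C) : (SLn_mat g).det = 1 := by
  have h1 : (SLn_mat g).det = g.hom (SLn.mk n k GLn.det) := by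
    rw [GLn.det_eq]
    have := (g.hom.comp (SLn.mk n k)).map_det (Matrix.of fun i j => (GLn.X i j : GLn n k))
    exact this.symm
  rw [h1]
  have h2 : SLn.mk n k (GLn.det : GLn n k) = 1 := by
    have h3 : (GLn.det - 1 : GLn n k) ∈ GLn.slIdeal n k := Ideal.subset_span rfl
    have h4 := Ideal.Quotient.eq_zero_iff_mem.mpr h3
    have h5 : SLn.mk n k (GLn.det - 1 : GLn n k) = 0 := h4
    rw [map_sub, map_one, sub_eq_zero] at h5
    exact h5
  rw [h2, map_one]

end SLnPts

section HM

variable {k : Type u} [Field k] [IsAlgClosed k] {n : ℕ}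
  {R : Type w} [CommRing R] [Algebra k R] [HopfRep.Comod k (SLn n k) R] [GLin.IsCoactAlg k (SLn n k) R]

instance finiteType_SLn : Algebra.FiniteType k (SLn n k) :=
  Algebra.FiniteType.of_surjective (SLn.mk n k) Ideal.Quotient.mk_surjective

/-- Hilbert-Mumford for the special linear group, with a discrete valuation ring: the one-parameter subgroup is a
conjugate of a diagonal one. -/
theorem hm_SLn_dvr {O : Type u} [CommRing O] [IsDomain O] [IsDiscreteValuationRing O] [Algebra k O]
    {K : Type v} [Field K] [Algebra k K] [Algebra O K] [IsFractionRing O K] [IsScalarTower k O K]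
    (I : Ideal R) (hI : IsStable (k := k) (SLn n k) I) (x : R →ₐ[k] k)
    (g : Pt k (SLn n k) K) (h : R →ₐ[k] O)
    (hgh : (IsScalarTower.toAlgHom k O K).comp h = mv ((Algebra.ofId k K).comp x) g)
    (hhI : ∀ f ∈ I, h f ∈ maximalIdeal O) :
    ∃ (a₀ : Pt k (SLn n k) k) (r : Fin n → ℤ) (hr : ∑ i, r i = 0) (y : R →ₐ[k] k),
      GLin.IsLimit k (SLn n k) (conj a₀ (SLn.diag n k r hr)) x y ∧ (∀ f ∈ I, y f = 0) ∧
      (r = 0 → ∃ g₀ : Pt k (SLn n k) O, Pt.bc (IsScalarTower.toAlgHom k O K) g₀ = g) := by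
  obtain ⟨π, hπ⟩ := IsDiscreteValuationRing.exists_irreducible O
  have hinj : Function.Injective (IsScalarTower.toAlgHom k O K) := IsFractionRing.injective O K
  have hπK : algebraMap O K π ≠ 0 := by
    intro h
    exact hπ.ne_zero (hinj (by rw [map_zero]; exact h))
  obtain ⟨P, B, r, hP, hB, hr, hPB⟩ := exists_cartan_one (K := K) π hπ (SLn_mat g) (det_SLn_mat g)
  let u : Kˣ := Units.mk0 (algebraMap O K π) hπK
  have hg : g = Pt.bc (IsScalarTower.toAlgHom k O K) (SLn_pt P hP) *
      Pt.mk ((evU k u).comp (SLn.diag n k r hr : SLn n k →ₐ[k] k[T;T⁻¹])) *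
      Pt.bc (IsScalarTower.toAlgHom k O K) (SLn_pt B hB) := by
    apply SLn_pt_ext
    intro i j
    have h1 := congrFun (congrFun hPB i) j
    change g.hom (SLn.X i j) = _ at h1
    rw [h1, Matrix.mul_apply, SLn_mul_X]
    refine Finset.sum_congr rfl fun l _ => ?_
    rw [Matrix.mul_apply, SLn_mul_X]
    congr 1
    · refine Finset.sum_congr rfl fun m _ => ?_
      rw [Matrix.map_apply, Pt.bc_apply, SLn_pt_X, Matrix.diagonal_apply]
      congr 1
      change _ = evU k u (SLn.diag n k r hr (SLn.X m l))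
      rw [SLn.diag_X]
      split_ifs with hml
      · rw [evU_T, Units.val_zpow_eq_zpow_val]
        rfl
      · rw [map_zero]
    · rw [Matrix.map_apply, Pt.bc_apply, SLn_pt_X]
      rfl
  obtain ⟨a₀, y, hy, hyI⟩ := hm_core (IsScalarTower.toAlgHom k O K) hinj I hI x g h hgh hhI
    (SLn_pt P hP) (SLn_pt B hB) (SLn.diag n k r hr) π
    ((IsDiscreteValuationRing.irreducible_iff_uniformizer π).mp hπ ▸ Ideal.mem_span_singleton_self π) u rfl hg
  refine ⟨a₀, r, hr, y, hy, hyI, fun h0 => ?_⟩
  have h1 : Pt.mk ((evU k u).comp (SLn.diag n k r hr : SLn n k →ₐ[k] k[T;T⁻¹])) = (1 : Pt k (SLn n k) K) := by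
    apply SLn_pt_ext
    intro i j
    change evU k u (SLn.diag n k r hr (SLn.X i j)) = algebraMap k K (CoalgebraStruct.counit (R := k) (SLn.X i j : SLn n k))
    have h2 : CoalgebraStruct.counit (R := k) (SLn.X i j : SLn n k) = if i = j then 1 else 0 := by
      have h3 := CoalgHomClass.counit_comp_apply (SLn.mkHom n k) (GLn.X i j)
      have h4 : CoalgebraStruct.counit (R := k) (SLn.X i j : SLn n k) =
        CoalgebraStruct.counit (R := k) (GLn.X i j : GLn n k) := h3
      rw [h4, GLn.counit_X]
    rw [SLn.diag_X, h2]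
    split_ifs with hij
    · rw [evU_T, h0]
      simp
    · rw [map_zero, map_zero]
  refine ⟨SLn_pt P hP * SLn_pt B hB, ?_⟩
  rw [hg, h1, map_mul, mul_one]

end HM

section HM2

variable {k : Type u} [Field k] [IsAlgClosed k] {n : ℕ}
  {R : Type u} [CommRing R] [Algebra k R] [Algebra.FiniteType k R] [HopfRep.Comod k (SLn n k) R]
  [GLin.IsCoactAlg k (SLn n k) R]

/-- Hilbert-Mumford for the special linear group. -/
theorem hm_SLn (I : Ideal R) (hI : IsStable (k := k) (SLn n k) I) (x z : R →ₐ[k] k)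
    (hz : GLin.InOrbitClosure k (SLn n k) x z) (hzI : ∀ f ∈ I, z f = 0) :
    ∃ (a₀ : Pt k (SLn n k) k) (r : Fin n → ℤ) (hr : ∑ i, r i = 0) (y : R →ₐ[k] k),
      GLin.IsLimit k (SLn n k) (conj a₀ (SLn.diag n k r hr)) x y ∧ (∀ f ∈ I, y f = 0) := by
  rcases exists_dvr_point (GLin.orbitHom k (SLn n k) x) z hz with ⟨g, hg⟩ |
    ⟨O, i1, i2, i3, i4, K, j1, j2, j3, j4, j5, g, h, hgh, hh⟩
  · -- `z` is in the orbit, so `x` is in the zero set
    have hgz : mv x (Pt.mk g) = z := by
      have := comp_orbitHom x (Pt.mk g)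
      rw [ofId_self_comp] at this
      rw [← this]
      exact hg
    have hx : mv z (Pt.mk g)⁻¹ = x := by
      rw [← hgz, mv_mul, mul_inv_cancel, mv_one]
    have hxI : ∀ f ∈ I, x f = 0 := by
      intro f hf
      rw [← hx]
      exact mv_mem_of_stable hI ⊥ z hzI _ f hf
    have h0 : ∑ i : Fin n, (0 : Fin n → ℤ) i = 0 := by simp
    have htriv : lamPt (SLn.diag n k 0 h0) = 1 := by
      apply SLn_pt_ext
      intro i j
      change SLn.diag n k 0 h0 (SLn.X i j) = algebraMap k k[T;T⁻¹] (CoalgebraStruct.counit (R := k) (SLn.X i j : SLn n k))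
      have h2 : CoalgebraStruct.counit (R := k) (SLn.X i j : SLn n k) = if i = j then 1 else 0 := by
        have h3 := CoalgHomClass.counit_comp_apply (SLn.mkHom n k) (GLn.X i j)
        have h4 : CoalgebraStruct.counit (R := k) (SLn.X i j : SLn n k) =
          CoalgebraStruct.counit (R := k) (GLn.X i j : GLn n k) := h3
        rw [h4, GLn.counit_X]
      rw [SLn.diag_X, h2]
      split_ifs with hij
      · simp
      · rw [map_zero]
    refine ⟨1, 0, h0, x, ?_, hxI⟩
    rw [conj_one]
    refine ⟨(Algebra.ofId k _).comp x, ?_, ?_⟩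
    · rw [lamOrbit_eq, htriv, mv_one, ofId_comp]
    · rw [ofId_comp, ofId_self_comp]
  · obtain ⟨a₀, r, hr, y, h1, h2, _⟩ := hm_SLn_dvr (O := O) (K := K) I hI x (Pt.mk g) h (by
      rw [hgh]
      exact comp_orbitHom x (Pt.mk g)) (fun f hf => hh f (hzI f hf))
    exact ⟨a₀, r, hr, y, h1, h2⟩

end HM2

end K687
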