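import Groth.Agent.GIT.K687.HMCore
import Groth.Prelude.Def_ComodSub
import Groth.Prelude.Def_GLin2

/-!
# The induced action: `X ×^G H` for a subgroup `G` of `H`

`π : B → A` is a surjective map of Hopf algebras (`G = Spec A` a closed subgroup of `H = Spec B`) and `G` acts on
`X = Spec R` on the right.  `K687.IndAlg π R` is the cotensor product `R □_A B`, the coordinate ring of `X ×^G H`, a
comodule algebra over `B`.
-/

set_option autoImplicit false
set_option linter.unusedSectionVars false

universe u v v' w w' w''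

open TensorProduct

namespace K687

section Nat

variable {k : Type u} [CommRing k] {A : Type v} [CommRing A] [Bialgebra k A]
  {R : Type w} [CommRing R] [Algebra k R] [HopfRep.Comod k A R] [GLin.IsCoactAlg k A R]
  {R' : Type w'} [CommRing R'] [Algebra k R'] [HopfRep.Comod k A R'] [GLin.IsCoactAlg k A R']
  {C : Type w''} [CommRing C] [Algebra k C]

/-- Naturality of the action on points. -/
theorem mv_comp_hom (φ : R →ₐ[k] R')
    (hφ : ∀ f, HopfRep.Comod.coact (k := k) (A := A) (φ f) =
      Algebra.TensorProduct.map φ (AlgHom.id k A) (HopfRep.Comod.coact (k := k) (A := A) f))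
    (q : R' →ₐ[k] C) (y : Pt k A C) : mv (q.comp φ) y = (mv q y).comp φ := by
  apply AlgHom.ext
  intro f
  rw [AlgHom.comp_apply, mv_apply, mv_apply, hφ]
  induction HopfRep.Comod.coact (k := k) (A := A) f using TensorProduct.induction_on with
  | zero => simp
  | tmul x a => rw [Algebra.TensorProduct.map_tmul, Algebra.TensorProduct.lift_tmul,
      Algebra.TensorProduct.lift_tmul]; rfl
  | add x y hx hy => rw [map_add, map_add, map_add, hx, hy]

end Nat

section Sub

variable {k : Type u} [Field k] {B : Type v} [CommRing B] [Bialgebra k B]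
  {V : Type w} [CommRing V] [Algebra k V] [HopfRep.Comod k B V] [GLin.IsCoactAlg k B V]

/-- The comodule structure on a stable subalgebra. -/
@[reducible] noncomputable def subComod (W : Subalgebra k V)
    (hW : HopfRep.IsSubcomod (k := k) (A := B) (Subalgebra.toSubmodule W)) : HopfRep.Comod k B W :=
  ComodSub.Comod.restr inferInstance (Subalgebra.toSubmodule W) hW

theorem subComod_coact (W : Subalgebra k V)
    (hW : HopfRep.IsSubcomod (k := k) (A := B) (Subalgebra.toSubmodule W)) (w : W) :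
    Algebra.TensorProduct.map W.val (AlgHom.id k B) ((subComod W hW).coact w) =
      HopfRep.Comod.coact (k := k) (A := B) (w : V) :=
  ComodSub.restr_coact_coe _ (Subalgebra.toSubmodule W) hW w

theorem map_val_injective (W : Subalgebra k V) :
    Function.Injective (Algebra.TensorProduct.map W.val (AlgHom.id k B)) :=
  ComodSub.rTensor_subtype_injective (A := B) (Subalgebra.toSubmodule W)

theorem isCoactAlg_subComod (W : Subalgebra k V)
    (hW : HopfRep.IsSubcomod (k := k) (A := B) (Subalgebra.toSubmodule W)) :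
    @GLin.IsCoactAlg k _ B _ _ W _ _ (subComod W hW) := by
  refine @GLin.IsCoactAlg.mk k _ B _ _ W _ _ (subComod W hW) ?_ ?_
  · apply map_val_injective (B := B) W
    rw [subComod_coact, map_one]
    exact GLin.IsCoactAlg.coact_one (k := k) (A := B) (R := V)
  · intro f g
    apply map_val_injective (B := B) W
    refine (subComod_coact W hW (f * g)).trans ?_
    refine Eq.trans ?_ (map_mul (Algebra.TensorProduct.map W.val (AlgHom.id k B)) ((subComod W hW).coact f)
      ((subComod W hW).coact g)).symm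
    refine Eq.trans ?_ (congrArg₂ (· * ·) (subComod_coact W hW f) (subComod_coact W hW g)).symm
    exact GLin.IsCoactAlg.coact_mul (k := k) (A := B) (R := V) _ _

end Sub

section Cofree

variable (k : Type u) [CommRing k] (B : Type v) [CommRing B] [Bialgebra k B]
  (R : Type w) [CommRing R] [Algebra k R]

/-- The comodule structure of `R ⊗ B` over `B`, through the second factor. -/
@[reducible] noncomputable def cofree : HopfRep.Comod k B (R ⊗[k] B) where
  coact := Hoch.Ind.coactAux k B R
  coassoc := (Hoch.Ind.comod k B R).coassoc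
  counit_comp := (Hoch.Ind.comod k B R).counit_comp

/-- The coaction of `R ⊗ B` as an algebra map. -/
noncomputable def cofreeAlg : R ⊗[k] B →ₐ[k] (R ⊗[k] B) ⊗[k] B :=
  ((Algebra.TensorProduct.assoc k k k R B B).symm : R ⊗[k] (B ⊗[k] B) →ₐ[k] (R ⊗[k] B) ⊗[k] B).comp
    (Algebra.TensorProduct.map (AlgHom.id k R) (Bialgebra.comulAlgHom k B))

theorem coactAux_eq (t : R ⊗[k] B) : Hoch.Ind.coactAux k B R t = cofreeAlg k B R t := by
  induction t using TensorProduct.induction_on with
  | zero => rw [map_zero, map_zero]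
  | tmul r b => rfl
  | add x y hx hy => rw [map_add, map_add, hx, hy]

theorem isCoactAlg_cofree : @GLin.IsCoactAlg k _ B _ _ (R ⊗[k] B) _ _ (cofree k B R) := by
  refine @GLin.IsCoactAlg.mk k _ B _ _ (R ⊗[k] B) _ _ (cofree k B R) ?_ ?_
  · change Hoch.Ind.coactAux k B R 1 = 1
    rw [coactAux_eq, map_one]
  · intro f g
    change Hoch.Ind.coactAux k B R (f * g) = Hoch.Ind.coactAux k B R f * Hoch.Ind.coactAux k B R g
    rw [coactAux_eq, coactAux_eq, coactAux_eq, map_mul]

end Cofree

section Ev2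

variable {k : Type u} [CommRing k] {B : Type v} [CommRing B] [Bialgebra k B]
  {R : Type w} [CommRing R] [Algebra k R] {C : Type w'} [CommRing C] [Algebra k C]
  {D : Type w''} [CommRing D] [Algebra k D]

/-- The point of `X × H` with the given components. -/
noncomputable def ev2 (p : R →ₐ[k] C) (b : Pt k B C) : R ⊗[k] B →ₐ[k] C :=
  Algebra.TensorProduct.lift p b.hom (fun _ _ => Commute.all _ _)

@[simp] theorem ev2_tmul (p : R →ₐ[k] C) (b : Pt k B C) (r : R) (x : B) : ev2 p b (r ⊗ₜ[k] x) = p r * b.hom x :=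
  Algebra.TensorProduct.lift_tmul _ _ _ _ _

theorem comp_ev2 (φ : C →ₐ[k] D) (p : R →ₐ[k] C) (b : Pt k B C) : φ.comp (ev2 p b) = ev2 (φ.comp p) (Pt.bc φ b) := by
  apply Algebra.TensorProduct.ext'
  intro r x
  rw [AlgHom.comp_apply, ev2_tmul, ev2_tmul, map_mul]
  rfl

attribute [local instance] cofree isCoactAlg_cofree

/-- `H` acts on `X × H` by multiplication on the second factor. -/
theorem mv_ev2 (p : R →ₐ[k] C) (b y : Pt k B C) : mv (ev2 p b) y = ev2 p (b * y) := by
  apply Algebra.TensorProduct.ext'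
  intro r x
  rw [mv_apply]
  change Algebra.TensorProduct.lift (ev2 p b) y.hom (fun _ _ => Commute.all _ _)
    (Hoch.Ind.coactAux k B R (r ⊗ₜ[k] x)) = _
  rw [coactAux_eq, ev2_tmul, Pt.mul_apply]
  change Algebra.TensorProduct.lift (ev2 p b) y.hom (fun _ _ => Commute.all _ _)
    ((TensorProduct.assoc k R B B).symm (r ⊗ₜ[k] CoalgebraStruct.comul (R := k) x)) = _
  induction CoalgebraStruct.comul (R := k) x using TensorProduct.induction_on with
  | zero => simp
  | tmul x1 x2 =>
    rw [TensorProduct.assoc_symm_tmul, Algebra.TensorProduct.lift_tmul, Algebra.TensorProduct.lift_tmul, ev2_tmul,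
      mul_assoc]
  | add u v hu hv => rw [TensorProduct.tmul_add, map_add, map_add, hu, hv, map_add, mul_add]

/-- The coaction of `X × H` on points. -/
theorem ev2_comp_cofreeAlg (p : R →ₐ[k] C) (b y : Pt k B C) :
    (ev2 (ev2 p b) y).comp (cofreeAlg k B R) = ev2 p (b * y) := by
  rw [← mv_ev2]
  apply AlgHom.ext
  intro t
  rw [AlgHom.comp_apply, ← coactAux_eq, mv_apply]
  rfl

theorem ev2_incl : ev2 (Algebra.TensorProduct.includeLeft : R →ₐ[k] R ⊗[k] B)
    (Pt.mk (Algebra.TensorProduct.includeRight : B →ₐ[k] R ⊗[k] B)) = AlgHom.id k (R ⊗[k] B) := by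
  apply Algebra.TensorProduct.ext'
  intro r x
  rw [ev2_tmul]
  change (r ⊗ₜ[k] (1 : B)) * ((1 : R) ⊗ₜ[k] x) = r ⊗ₜ[k] x
  rw [Algebra.TensorProduct.tmul_mul_tmul, mul_one, one_mul]

theorem eq_ev2 (ψ : R ⊗[k] B →ₐ[k] C) :
    ψ = ev2 (ψ.comp Algebra.TensorProduct.includeLeft) (Pt.mk (ψ.comp Algebra.TensorProduct.includeRight)) := by
  apply Algebra.TensorProduct.ext'
  intro r x
  rw [ev2_tmul]
  change _ = ψ (r ⊗ₜ[k] (1 : B)) * ψ ((1 : R) ⊗ₜ[k] x)
  rw [← map_mul, Algebra.TensorProduct.tmul_mul_tmul, mul_one, one_mul]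

theorem ev2_comp_map {R' : Type*} [CommRing R'] [Algebra k R'] (q : R' →ₐ[k] C) (y : Pt k B C) (φ : R →ₐ[k] R') :
    (ev2 q y).comp (Algebra.TensorProduct.map φ (AlgHom.id k B)) = ev2 (q.comp φ) y := by
  apply Algebra.TensorProduct.ext'
  intro r x
  rw [AlgHom.comp_apply, Algebra.TensorProduct.map_tmul, ev2_tmul, ev2_tmul]
  rfl

end Ev2

section Pull

variable {k : Type u} [CommRing k] {A : Type v} [CommRing A] [Bialgebra k A] {B : Type w} [CommRing B] [Bialgebra k B]
  {C : Type w'} [CommRing C] [Algebra k C] {D : Type w''} [CommRing D] [Algebra k D]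

/-- The points of the subgroup as points of the group. -/
noncomputable def pull (π : B →ₐc[k] A) : Pt k A C →* Pt k B C where
  toFun g := Pt.mk (g.hom.comp (π : B →ₐ[k] A))
  map_one' := by
    apply Pt.ext
    intro b
    change algebraMap k C (CoalgebraStruct.counit (R := k) (π b)) = algebraMap k C (CoalgebraStruct.counit (R := k) b)
    rw [CoalgHomClass.counit_comp_apply]
  map_mul' g h := by
    apply Pt.ext
    intro b
    rw [Pt.mul_apply]
    change Algebra.TensorProduct.lift g.hom h.hom (fun _ _ => Commute.all _ _) (CoalgebraStruct.comul (R := k) (π b)) = _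
    have h1 : CoalgebraStruct.comul (R := k) (π b) =
        TensorProduct.map (π : B →ₗ[k] A) (π : B →ₗ[k] A) (CoalgebraStruct.comul (R := k) b) :=
      (CoalgHomClass.map_comp_comul_apply π b).symm
    rw [h1]
    induction CoalgebraStruct.comul (R := k) b using TensorProduct.induction_on with
    | zero => simp
    | tmul x y =>
      rw [TensorProduct.map_tmul, Algebra.TensorProduct.lift_tmul, Algebra.TensorProduct.lift_tmul]
      rfl
    | add x y hx hy => rw [map_add, map_add, map_add, hx, hy]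

@[simp] theorem pull_apply (π : B →ₐc[k] A) (g : Pt k A C) (b : B) : (pull π g).hom b = g.hom (π b) := rfl

theorem bc_pull (π : B →ₐc[k] A) (φ : C →ₐ[k] D) (g : Pt k A C) : Pt.bc φ (pull π g) = pull π (Pt.bc φ g) := rfl

theorem pull_injective (π : B →ₐc[k] A) (hπ : Function.Surjective π) :
    Function.Injective (pull π : Pt k A C →* Pt k B C) := by
  intro g h e
  apply Pt.ext
  intro a
  obtain ⟨b, rfl⟩ := hπ a
  exact congrArg (fun y : Pt k B C => y.hom b) e

end Pull

section Cot

variable {k : Type u} [Field k] {A : Type v} [CommRing A] [Bialgebra k A] {B : Type v'} [CommRing B] [Bialgebra k B]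
  (π : B →ₐc[k] A) (R : Type w) [CommRing R] [Algebra k R] [HopfRep.Comod k A R] [GLin.IsCoactAlg k A R]
  {C : Type w'} [CommRing C] [Algebra k C]

/-- first map of the cotensor product -/
noncomputable def cotL : R ⊗[k] B →ₐ[k] (R ⊗[k] A) ⊗[k] B :=
  Algebra.TensorProduct.map (GLin.coactAlgHom k A R) (AlgHom.id k B)

omit [HopfRep.Comod k A R] [GLin.IsCoactAlg k A R] in
/-- second map of the cotensor product -/
noncomputable def cotR : R ⊗[k] B →ₐ[k] (R ⊗[k] A) ⊗[k] B :=
  ((Algebra.TensorProduct.assoc k k k R A B).symm : R ⊗[k] (A ⊗[k] B) →ₐ[k] (R ⊗[k] A) ⊗[k] B).comp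
    (Algebra.TensorProduct.map (AlgHom.id k R)
      ((Algebra.TensorProduct.map (π : B →ₐ[k] A) (AlgHom.id k B)).comp (Bialgebra.comulAlgHom k B)))

/-- The cotensor product `R □_A B` as a subalgebra of `R ⊗ B`. -/
noncomputable def cot : Subalgebra k (R ⊗[k] B) := AlgHom.equalizer (cotL (A := A) (B := B) R) (cotR π R)

variable {R}

theorem ev3_comp_cotL (p : R →ₐ[k] C) (g : Pt k A C) (b : Pt k B C) :
    (ev2 (ev2 p g) b).comp (cotL R) = ev2 (mv p g) b := by
  rw [cotL, ev2_comp_map]
  rfl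

theorem ev3_comp_cotR (p : R →ₐ[k] C) (g : Pt k A C) (b : Pt k B C) :
    (ev2 (ev2 p g) b).comp (cotR π R) = ev2 p (pull π g * b) := by
  apply Algebra.TensorProduct.ext'
  intro r x
  rw [ev2_tmul, Pt.mul_apply]
  change ev2 (ev2 p g) b ((TensorProduct.assoc k R A B).symm (r ⊗ₜ[k]
    (Algebra.TensorProduct.map (π : B →ₐ[k] A) (AlgHom.id k B) (CoalgebraStruct.comul (R := k) x)))) = _
  induction CoalgebraStruct.comul (R := k) x using TensorProduct.induction_on with
  | zero => simp
  | tmul x1 x2 =>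
    rw [Algebra.TensorProduct.map_tmul, TensorProduct.assoc_symm_tmul, ev2_tmul, ev2_tmul,
      Algebra.TensorProduct.lift_tmul, mul_assoc]
    rfl
  | add u v hu hv => rw [map_add, TensorProduct.tmul_add, map_add, map_add, hu, hv, map_add, mul_add]

/-- Values of an element of the cotensor product. -/
theorem ev2_mv_of_mem {t : R ⊗[k] B} (ht : t ∈ cot π R) (p : R →ₐ[k] C) (g : Pt k A C) (b : Pt k B C) :
    ev2 (mv p g) b t = ev2 p (pull π g * b) t := by
  rw [← ev3_comp_cotL, ← ev3_comp_cotR]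
  exact congrArg (ev2 (ev2 p g) b) ht

/-- Membership in the cotensor product from the universal point. -/
theorem mem_cot_of_forall {t : R ⊗[k] B}
    (h : ∀ (p : R →ₐ[k] (R ⊗[k] A) ⊗[k] B) (g : Pt k A ((R ⊗[k] A) ⊗[k] B)) (b : Pt k B ((R ⊗[k] A) ⊗[k] B)),
      ev2 (mv p g) b t = ev2 p (pull π g * b) t) : t ∈ cot π R := by
  let i1 : R ⊗[k] A →ₐ[k] (R ⊗[k] A) ⊗[k] B := Algebra.TensorProduct.includeLeft
  have h1 := h (i1.comp Algebra.TensorProduct.includeLeft) (Pt.mk (i1.comp Algebra.TensorProduct.includeRight))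
    (Pt.mk Algebra.TensorProduct.includeRight)
  rw [← ev3_comp_cotL, ← ev3_comp_cotR] at h1
  have h2 : ev2 (i1.comp Algebra.TensorProduct.includeLeft)
      (Pt.mk (i1.comp Algebra.TensorProduct.includeRight) : Pt k A ((R ⊗[k] A) ⊗[k] B)) = i1 := by
    have := comp_ev2 i1 (Algebra.TensorProduct.includeLeft : R →ₐ[k] R ⊗[k] A)
      (Pt.mk (Algebra.TensorProduct.includeRight : A →ₐ[k] R ⊗[k] A))
    rw [ev2_incl, AlgHom.comp_id] at this
    exact this.symm
  rw [h2, ev2_incl] at h1
  exact h1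

/-- Kernels of maps compatible with a coaction are stable. -/
theorem isSubcomod_ker {V : Type w''} [AddCommGroup V] [Module k V] [HopfRep.Comod k B V] {Y : Type*}
    [AddCommGroup Y] [Module k Y] (φ : V →ₗ[k] Y) (cY : Y →ₗ[k] Y ⊗[k] B)
    (h : φ.rTensor B ∘ₗ HopfRep.Comod.coact (k := k) (A := B) = cY ∘ₗ φ) :
    HopfRep.IsSubcomod (k := k) (A := B) (LinearMap.ker φ) := by
  intro v hv
  have hex : Function.Exact (LinearMap.ker φ).subtype φ := by
    intro x
    simp
  have h1 := Module.Flat.rTensor_exact B hex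
  have h2 : φ.rTensor B (HopfRep.Comod.coact (k := k) (A := B) v) = 0 := by
    have h3 := congrArg (fun ψ => ψ v) h
    simp only [LinearMap.comp_apply] at h3
    rw [h3, LinearMap.mem_ker.mp hv, map_zero]
  exact (h1 _).mp h2

section

attribute [local instance] cofree isCoactAlg_cofree

theorem comp_map_cotL (E : ((R ⊗[k] A) ⊗[k] B) ⊗[k] B →ₐ[k] C) :
    E.comp ((Algebra.TensorProduct.map (cotL (k := k) (A := A) (B := B) R) (AlgHom.id k B)).comp (cofreeAlg k B R)) =
      E.comp ((cofreeAlg k B (R ⊗[k] A)).comp (cotL R)) := by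
  rw [eq_ev2 E, ← AlgHom.comp_assoc, ← AlgHom.comp_assoc, ev2_comp_map]
  generalize (Pt.mk (E.comp Algebra.TensorProduct.includeRight) : Pt k B C) = y
  generalize (E.comp Algebra.TensorProduct.includeLeft : (R ⊗[k] A) ⊗[k] B →ₐ[k] C) = E2
  rw [eq_ev2 E2, ev2_comp_cofreeAlg]
  generalize (Pt.mk (E2.comp Algebra.TensorProduct.includeRight) : Pt k B C) = b
  generalize (E2.comp Algebra.TensorProduct.includeLeft : R ⊗[k] A →ₐ[k] C) = E3
  rw [eq_ev2 E3, ev3_comp_cotL, ev3_comp_cotL, ev2_comp_cofreeAlg]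

theorem comp_map_cotR (E : ((R ⊗[k] A) ⊗[k] B) ⊗[k] B →ₐ[k] C) :
    E.comp ((Algebra.TensorProduct.map (cotR π R) (AlgHom.id k B)).comp (cofreeAlg k B R)) =
      E.comp ((cofreeAlg k B (R ⊗[k] A)).comp (cotR π R)) := by
  rw [eq_ev2 E, ← AlgHom.comp_assoc, ← AlgHom.comp_assoc, ev2_comp_map]
  generalize (Pt.mk (E.comp Algebra.TensorProduct.includeRight) : Pt k B C) = y
  generalize (E.comp Algebra.TensorProduct.includeLeft : (R ⊗[k] A) ⊗[k] B →ₐ[k] C) = E2
  rw [eq_ev2 E2, ev2_comp_cofreeAlg]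
  generalize (Pt.mk (E2.comp Algebra.TensorProduct.includeRight) : Pt k B C) = b
  generalize (E2.comp Algebra.TensorProduct.includeLeft : R ⊗[k] A →ₐ[k] C) = E3
  rw [eq_ev2 E3, ev3_comp_cotR, ev3_comp_cotR, ev2_comp_cofreeAlg, mul_assoc]

theorem isSubcomod_cot : HopfRep.IsSubcomod (k := k) (A := B) (Subalgebra.toSubmodule (cot π R)) := by
  have h1 : Subalgebra.toSubmodule (cot π R) =
      LinearMap.ker ((cotL (k := k) (A := A) (B := B) R).toLinearMap - (cotR π R).toLinearMap) := by
    ext t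
    rw [LinearMap.mem_ker, LinearMap.sub_apply, sub_eq_zero]
    rfl
  rw [h1]
  apply isSubcomod_ker _ (cofreeAlg k B (R ⊗[k] A)).toLinearMap
  apply LinearMap.ext
  intro t
  let E : (((R ⊗[k] A) ⊗[k] B) ⊗[k] B) →ₐ[k] (((R ⊗[k] A) ⊗[k] B) ⊗[k] B) := AlgHom.id k _
  have h2' := comp_map_cotL (k := k) (A := A) (B := B) (R := R) (C := ((R ⊗[k] A) ⊗[k] B) ⊗[k] B) E
  have h3' := comp_map_cotR π (R := R) (C := ((R ⊗[k] A) ⊗[k] B) ⊗[k] B) E
  have h2 : Algebra.TensorProduct.map (cotL (k := k) (A := A) (B := B) R) (AlgHom.id k B) (cofreeAlg k B R t) =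
      cofreeAlg k B (R ⊗[k] A) (cotL R t) := DFunLike.congr_fun h2' t
  have h3 : Algebra.TensorProduct.map (cotR π R) (AlgHom.id k B) (cofreeAlg k B R t) =
      cofreeAlg k B (R ⊗[k] A) (cotR π R t) := DFunLike.congr_fun h3' t
  rw [LinearMap.comp_apply, LinearMap.rTensor_sub, LinearMap.sub_apply]
  have h4 : (HopfRep.Comod.coact (k := k) (A := B) t : (R ⊗[k] B) ⊗[k] B) = cofreeAlg k B R t := coactAux_eq k B R t
  rw [h4]
  refine Eq.trans ?_ (map_sub (cofreeAlg k B (R ⊗[k] A)) (cotL R t) (cotR π R t)).symm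
  exact congrArg₂ (· - ·) h2 h3

end

variable (R) in
/-- The coordinate ring of `X ×^G H`. -/
def IndAlg : Type _ := ↥(cot π R)

noncomputable instance : CommRing (IndAlg π R) := inferInstanceAs (CommRing ↥(cot π R))
noncomputable instance : Algebra k (IndAlg π R) := inferInstanceAs (Algebra k ↥(cot π R))

/-- The inclusion in the coordinate ring of `X × H`. -/
noncomputable def IndAlg.val : IndAlg π R →ₐ[k] R ⊗[k] B := (cot π R).val

theorem IndAlg.val_injective : Function.Injective (IndAlg.val π (R := R)) := Subtype.val_injective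

theorem IndAlg.val_mem (t : IndAlg π R) : IndAlg.val π t ∈ cot π R := t.2

noncomputable instance : HopfRep.Comod k B (IndAlg π R) :=
  letI := cofree k B R
  haveI := isCoactAlg_cofree k B R
  subComod (cot π R) (isSubcomod_cot π)

instance : GLin.IsCoactAlg k B (IndAlg π R) :=
  letI := cofree k B R
  haveI := isCoactAlg_cofree k B R
  isCoactAlg_subComod (cot π R) (isSubcomod_cot π)

theorem IndAlg.coact_val (t : IndAlg π R) :
    Algebra.TensorProduct.map (IndAlg.val π) (AlgHom.id k B) (HopfRep.Comod.coact (k := k) (A := B) t) =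
      cofreeAlg k B R (IndAlg.val π t) := by
  letI := cofree k B R
  haveI := isCoactAlg_cofree k B R
  rw [← coactAux_eq]
  exact subComod_coact (cot π R) (isSubcomod_cot π) t

/-- The point of `X ×^G H` with components `p` and `b`. -/
noncomputable def ind2 (p : R →ₐ[k] C) (b : Pt k B C) : IndAlg π R →ₐ[k] C := (ev2 p b).comp (IndAlg.val π)

theorem mv_ind2 (p : R →ₐ[k] C) (b y : Pt k B C) : mv (ind2 π p b) y = ind2 π p (b * y) := by
  letI := cofree k B R
  haveI := isCoactAlg_cofree k B R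
  rw [ind2, mv_comp_hom (IndAlg.val π), mv_ev2]
  · rfl
  · intro f
    rw [IndAlg.coact_val]
    exact coactAux_eq k B R _

theorem ind2_mv (p : R →ₐ[k] C) (g : Pt k A C) (b : Pt k B C) : ind2 π (mv p g) b = ind2 π p (pull π g * b) := by
  apply AlgHom.ext
  intro t
  exact ev2_mv_of_mem π (IndAlg.val_mem π t) p g b

theorem comp_ind2 {D : Type*} [CommRing D] [Algebra k D] (φ : C →ₐ[k] D) (p : R →ₐ[k] C) (b : Pt k B C) :
    φ.comp (ind2 π p b) = ind2 π (φ.comp p) (Pt.bc φ b) := by
  rw [ind2, ← AlgHom.comp_assoc, comp_ev2]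
  rfl

/-- The restriction map from `X ×^G H` to `X`. -/
noncomputable def rhoInd : IndAlg π R →ₐ[k] R := ind2 π (AlgHom.id k R) 1

theorem comp_rhoInd (p : R →ₐ[k] C) : p.comp (rhoInd π) = ind2 π p 1 := by
  rw [rhoInd, comp_ind2, map_one]
  rfl

theorem mv_comp_rhoInd (p : R →ₐ[k] C) (b : Pt k B C) : mv (p.comp (rhoInd π)) b = ind2 π p b := by
  rw [comp_rhoInd, mv_ind2, one_mul]

theorem mv_comp_rhoInd_pull (p : R →ₐ[k] C) (g : Pt k A C) :
    mv (p.comp (rhoInd π)) (pull π g) = (mv p g).comp (rhoInd π) := by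
  rw [mv_comp_rhoInd, comp_rhoInd, ind2_mv, mul_one]

/-- The ideal of `Z ×^G H` for a closed `Z ⊂ X` with ideal `I`. -/
noncomputable def indIdeal (I : Ideal R) : Ideal (IndAlg π R) :=
  RingHom.ker ((Algebra.TensorProduct.map (Ideal.Quotient.mkₐ k I) (AlgHom.id k B)).comp (IndAlg.val π))

theorem rhoInd_mem {I : Ideal R} {t : IndAlg π R} (ht : t ∈ indIdeal π I) : rhoInd π t ∈ I := by
  rw [← Ideal.Quotient.eq_zero_iff_mem]
  have h1 : (Ideal.Quotient.mkₐ k I).comp (rhoInd π) = (ev2 (AlgHom.id k (R ⧸ I)) (1 : Pt k B (R ⧸ I))).comp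
      ((Algebra.TensorProduct.map (Ideal.Quotient.mkₐ k I) (AlgHom.id k B)).comp (IndAlg.val π)) := by
    rw [comp_rhoInd, ← AlgHom.comp_assoc, ev2_comp_map]
    rfl
  have h2 := congrArg (fun φ => φ t) h1
  have h3 : (Algebra.TensorProduct.map (Ideal.Quotient.mkₐ k I) (AlgHom.id k B)).comp (IndAlg.val π) t = 0 := ht
  rw [AlgHom.comp_apply, AlgHom.comp_apply, h3, map_zero] at h2
  exact h2

theorem isStable_indIdeal (I : Ideal R) : IsStable (k := k) B (indIdeal π I) := by
  intro t ht
  let φ : IndAlg π R →ₐ[k] (R ⧸ I) ⊗[k] B :=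
    (Algebra.TensorProduct.map (Ideal.Quotient.mkₐ k I) (AlgHom.id k B)).comp (IndAlg.val π)
  have ht0 : φ t = 0 := ht
  have hex : Function.Exact (LinearMap.ker φ.toLinearMap).subtype φ.toLinearMap := by
    intro x
    simp
  have h1 := Module.Flat.rTensor_exact B hex
  have h2 : φ.toLinearMap.rTensor B (HopfRep.Comod.coact (k := k) (A := B) t) = 0 := by
    change Algebra.TensorProduct.map φ (AlgHom.id k B) (HopfRep.Comod.coact (k := k) (A := B) t) = 0
    have h3 : Algebra.TensorProduct.map φ (AlgHom.id k B) =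
        (Algebra.TensorProduct.map (Algebra.TensorProduct.map (Ideal.Quotient.mkₐ k I) (AlgHom.id k B))
          (AlgHom.id k B)).comp (Algebra.TensorProduct.map (IndAlg.val π) (AlgHom.id k B)) := by
      apply Algebra.TensorProduct.ext'
      intro a b
      rfl
    have h4 : (Algebra.TensorProduct.map (Algebra.TensorProduct.map (Ideal.Quotient.mkₐ k I) (AlgHom.id k B))
        (AlgHom.id k B)).comp (cofreeAlg k B R) = (cofreeAlg k B (R ⧸ I)).comp
          (Algebra.TensorProduct.map (Ideal.Quotient.mkₐ k I) (AlgHom.id k B)) := by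
      apply Algebra.TensorProduct.ext'
      intro r x
      change (Algebra.TensorProduct.map (Algebra.TensorProduct.map (Ideal.Quotient.mkₐ k I) (AlgHom.id k B))
        (AlgHom.id k B)) ((TensorProduct.assoc k R B B).symm (r ⊗ₜ[k] CoalgebraStruct.comul (R := k) x)) =
        (TensorProduct.assoc k (R ⧸ I) B B).symm ((Ideal.Quotient.mkₐ k I r) ⊗ₜ[k] CoalgebraStruct.comul (R := k) x)
      induction CoalgebraStruct.comul (R := k) x using TensorProduct.induction_on with
      | zero => simp
      | tmul x1 x2 => rfl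
      | add u v hu hv => rw [TensorProduct.tmul_add, TensorProduct.tmul_add, map_add, map_add, map_add, hu, hv]
    rw [h3, AlgHom.comp_apply, IndAlg.coact_val, ← AlgHom.comp_apply, h4, AlgHom.comp_apply, ← AlgHom.comp_apply
      (Algebra.TensorProduct.map (Ideal.Quotient.mkₐ k I) (AlgHom.id k B)) (IndAlg.val π)]
    change cofreeAlg k B (R ⧸ I) (φ t) = 0
    rw [ht0, map_zero]
  obtain ⟨z, hz⟩ := (h1 _).mp h2
  rw [← hz]
  clear hz
  induction z using TensorProduct.induction_on with
  | zero => rw [map_zero]; exact Ideal.zero_mem _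
  | tmul a b =>
    have h5 : (a : IndAlg π R) ∈ indIdeal π I := a.2
    have h6 : (LinearMap.rTensor B (LinearMap.ker φ.toLinearMap).subtype) (a ⊗ₜ[k] b) =
        (Algebra.TensorProduct.includeLeft : IndAlg π R →ₐ[k] IndAlg π R ⊗[k] B) (a : IndAlg π R) *
          (1 ⊗ₜ[k] b) := by
      rw [Algebra.TensorProduct.includeLeft_apply, Algebra.TensorProduct.tmul_mul_tmul, mul_one, one_mul]
      rfl
    rw [h6]
    exact Ideal.mul_mem_right _ _ (Ideal.mem_map_of_mem _ h5)
  | add u v hu hv => rw [map_add]; exact Ideal.add_mem _ hu hv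

end Cot

end K687
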