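import Groth.Agent.GIT.K687.IndSurj
import Groth.Agent.InvQ.K701.Orbit3

/-!
# The quotient `G \ H` of an affine group by a linearly reductive subgroup

`K687.linv π`: the functions on `H` invariant under left translations by `G`.
-/

set_option autoImplicit false
set_option linter.unusedSectionVars false

universe u v w w'

open TensorProduct

namespace K687

section Basic

variable {k : Type u} [Field k] {A : Type v} [CommRing A] [HopfAlgebra k A] {B : Type v} [CommRing B]
  [HopfAlgebra k B] (π : B →ₐc[k] A) {C : Type w} [CommRing C] [Algebra k C]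

/-- left translation by the universal point of the subgroup -/
noncomputable def lcoact : B →ₐ[k] A ⊗[k] B :=
  (Algebra.TensorProduct.map (π : B →ₐ[k] A) (AlgHom.id k B)).comp (Bialgebra.comulAlgHom k B)

/-- The functions on `H` invariant under left translations by `G`. -/
noncomputable def linv : Subalgebra k B := AlgHom.equalizer (lcoact π) Algebra.TensorProduct.includeRight

theorem ev2_lcoact (g : Pt k A C) (b : Pt k B C) (f : B) : ev2 g.hom b (lcoact π f) = (pull π g * b).hom f := by
  rw [Pt.mul_apply]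
  change ev2 g.hom b (Algebra.TensorProduct.map (π : B →ₐ[k] A) (AlgHom.id k B)
    (CoalgebraStruct.comul (R := k) f)) = _
  induction CoalgebraStruct.comul (R := k) f using TensorProduct.induction_on with
  | zero => simp
  | tmul x y => rw [Algebra.TensorProduct.map_tmul, ev2_tmul, Algebra.TensorProduct.lift_tmul]; rfl
  | add x y hx hy => rw [map_add, map_add, hx, hy, map_add]

theorem ev2_includeRight (g : A →ₐ[k] C) (b : Pt k B C) (f : B) :
    ev2 g b ((Algebra.TensorProduct.includeRight : B →ₐ[k] A ⊗[k] B) f) = b.hom f := by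
  rw [Algebra.TensorProduct.includeRight_apply, ev2_tmul, map_one, one_mul]

theorem pull_mul_apply {f : B} (hf : f ∈ linv π) (g : Pt k A C) (b : Pt k B C) :
    (pull π g * b).hom f = b.hom f := by
  rw [← ev2_lcoact, ← ev2_includeRight (A := A) g.hom b f]
  exact congrArg (ev2 g.hom b) hf

theorem mem_linv_of_forall {f : B}
    (h : ∀ (g : Pt k A (A ⊗[k] B)) (b : Pt k B (A ⊗[k] B)), (pull π g * b).hom f = b.hom f) : f ∈ linv π := by
  let g : Pt k A (A ⊗[k] B) := Pt.mk Algebra.TensorProduct.includeLeft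
  let b : Pt k B (A ⊗[k] B) := Pt.mk Algebra.TensorProduct.includeRight
  have h1 := h g b
  rw [← ev2_lcoact, ← ev2_includeRight (A := A) g.hom b f] at h1
  have h2 : ev2 g.hom b = AlgHom.id k (A ⊗[k] B) := ev2_incl
  rw [h2] at h1
  exact h1

theorem isSubcomod_linv : HopfRep.IsSubcomod (k := k) (A := B) (Subalgebra.toSubmodule (linv π)) := by
  have h1 : Subalgebra.toSubmodule (linv π) =
      LinearMap.ker ((lcoact π).toLinearMap -
        (Algebra.TensorProduct.includeRight : B →ₐ[k] A ⊗[k] B).toLinearMap) := by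
    ext t
    rw [LinearMap.mem_ker, LinearMap.sub_apply, sub_eq_zero]
    rfl
  rw [h1]
  apply isSubcomod_ker _ (cofreeAlg k B A).toLinearMap
  have key : ∀ (E : (A ⊗[k] B) ⊗[k] B →ₐ[k] (A ⊗[k] B) ⊗[k] B) (f : B),
      E (Algebra.TensorProduct.map (lcoact π) (AlgHom.id k B) (CoalgebraStruct.comul (R := k) f)) =
        E (cofreeAlg k B A (lcoact π f)) ∧
      E (Algebra.TensorProduct.map (Algebra.TensorProduct.includeRight : B →ₐ[k] A ⊗[k] B) (AlgHom.id k B)
        (CoalgebraStruct.comul (R := k) f)) =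
        E (cofreeAlg k B A ((Algebra.TensorProduct.includeRight : B →ₐ[k] A ⊗[k] B) f)) := by
    intro E f
    rw [eq_ev2 E]
    generalize (Pt.mk (E.comp Algebra.TensorProduct.includeRight) : Pt k B ((A ⊗[k] B) ⊗[k] B)) = y
    generalize (E.comp Algebra.TensorProduct.includeLeft : A ⊗[k] B →ₐ[k] (A ⊗[k] B) ⊗[k] B) = E2
    rw [eq_ev2 E2]
    generalize (Pt.mk (E2.comp Algebra.TensorProduct.includeRight) : Pt k B ((A ⊗[k] B) ⊗[k] B)) = b
    generalize (E2.comp Algebra.TensorProduct.includeLeft : A →ₐ[k] (A ⊗[k] B) ⊗[k] B) = g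
    have e1 : ∀ z, ev2 (ev2 g b) y (cofreeAlg k B A z) = ev2 g (b * y) z := fun z =>
      DFunLike.congr_fun (ev2_comp_cofreeAlg g b y) z
    constructor
    · rw [e1]
      have e2 := DFunLike.congr_fun (ev2_comp_map (ev2 g b) y (lcoact π)) (CoalgebraStruct.comul (R := k) f)
      rw [AlgHom.comp_apply] at e2
      rw [e2]
      have e3 : (ev2 g b).comp (lcoact π) = (pull π (Pt.mk g) * b).hom := by
        apply AlgHom.ext
        intro x
        exact ev2_lcoact π (Pt.mk g) b x
      rw [e3]
      have e4 := ev2_lcoact π (Pt.mk g) (b * y) f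
      rw [Pt.hom_mk] at e4
      rw [e4, ← mul_assoc, Pt.mul_apply]
      rfl
    · rw [e1]
      have e2 := DFunLike.congr_fun (ev2_comp_map (ev2 g b) y
        (Algebra.TensorProduct.includeRight : B →ₐ[k] A ⊗[k] B)) (CoalgebraStruct.comul (R := k) f)
      rw [AlgHom.comp_apply] at e2
      rw [e2, ev2_includeRight]
      have e3 : (ev2 g b).comp (Algebra.TensorProduct.includeRight : B →ₐ[k] A ⊗[k] B) = b.hom := by
        apply AlgHom.ext
        intro x
        exact ev2_includeRight g b x
      rw [e3, Pt.mul_apply]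
      rfl
  apply LinearMap.ext
  intro t
  let E : (A ⊗[k] B) ⊗[k] B →ₐ[k] (A ⊗[k] B) ⊗[k] B := AlgHom.id k _
  obtain ⟨k1, k2⟩ := key E t
  rw [LinearMap.comp_apply, LinearMap.rTensor_sub, LinearMap.sub_apply]
  refine Eq.trans ?_ (map_sub (cofreeAlg k B A) (lcoact π t)
    ((Algebra.TensorProduct.includeRight : B →ₐ[k] A ⊗[k] B) t)).symm
  exact congrArg₂ (· - ·) k1 k2

/-- Two points of `H` with the same image in `G \ H`. -/
def Agree (p p' : Pt k B C) : Prop := ∀ f ∈ linv π, p.hom f = p'.hom f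

variable {π}

theorem Agree.symm {p p' : Pt k B C} (h : Agree π p p') : Agree π p' p := fun f hf => (h f hf).symm

theorem Agree.trans {p p' p'' : Pt k B C} (h : Agree π p p') (h' : Agree π p' p'') : Agree π p p'' :=
  fun f hf => (h f hf).trans (h' f hf)

theorem Agree.bc {D : Type w'} [CommRing D] [Algebra k D] {p p' : Pt k B C} (h : Agree π p p') (φ : C →ₐ[k] D) :
    Agree π (Pt.bc φ p) (Pt.bc φ p') := fun f hf => congrArg φ (h f hf)

theorem Agree.mul_right {p p' : Pt k B C} (h : Agree π p p') (y : Pt k B C) : Agree π (p * y) (p' * y) := by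
  intro f hf
  rw [Pt.mul_apply, Pt.mul_apply]
  obtain ⟨z, hz⟩ := isSubcomod_linv π f hf
  have hz' : (Subalgebra.toSubmodule (linv π)).subtype.rTensor B z = CoalgebraStruct.comul (R := k) f := hz
  rw [← hz']
  clear hz hz'
  induction z using TensorProduct.induction_on with
  | zero => simp
  | tmul a b =>
    rw [LinearMap.rTensor_tmul, Algebra.TensorProduct.lift_tmul, Algebra.TensorProduct.lift_tmul]
    congr 1
    exact h _ a.2
  | add u v hu hv => rw [map_add, map_add, map_add, hu, hv]

/-- A point of `H` killing the functions vanishing on `G` is a point of `G`. -/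
theorem exists_pull (hπ : Function.Surjective π) (b : Pt k B C) (hb : ∀ f, π f = 0 → b.hom f = 0) :
    ∃ g : Pt k A C, pull π g = b := by
  let e := Ideal.quotientKerAlgEquivOfSurjective (f := (π : B →ₐ[k] A)) hπ
  let g : A →ₐ[k] C := (Ideal.Quotient.liftₐ (RingHom.ker (π : B →ₐ[k] A)) b.hom
    (fun f hf => hb f hf)).comp (e.symm : A →ₐ[k] B ⧸ RingHom.ker (π : B →ₐ[k] A))
  refine ⟨Pt.mk g, ?_⟩
  apply Pt.ext
  intro f
  change Ideal.Quotient.liftₐ (RingHom.ker (π : B →ₐ[k] A)) b.hom (fun f hf => hb f hf) (e.symm (π f)) = b.hom f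
  have h1 : e.symm (π f) = Ideal.Quotient.mk _ f := by
    rw [AlgEquiv.symm_apply_eq]
    rfl
  rw [h1]
  rfl

/-- Left translate of a function by a rational point. -/
noncomputable def ltr (y : Pt k B k) (F : B) : B :=
  (Pt.bc (Algebra.ofId k B) y * Pt.mk (AlgHom.id k B)).hom F

theorem ltr_apply (y : Pt k B k) (F : B) (b : Pt k B C) :
    b.hom (ltr y F) = (Pt.bc (Algebra.ofId k C) y * b).hom F := by
  have h2 : Pt.bc b.hom (Pt.bc (Algebra.ofId k B) y * Pt.mk (AlgHom.id k B)) = Pt.bc (Algebra.ofId k C) y * b := by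
    rw [map_mul, bc_ofId]
    rfl
  exact congrArg (fun g : Pt k B C => g.hom F) h2

theorem agree_pull_mul (g : Pt k A C) (b : Pt k B C) : Agree π (pull π g * b) b :=
  fun _ hf => pull_mul_apply π hf g b

end Basic

section Red

open HopfRep

variable {k : Type u} [Field k] [IsAlgClosed k] {A : Type v} [CommRing A] [HopfAlgebra k A] {B : Type v}
  [CommRing B] [HopfAlgebra k B] [Algebra.FiniteType k B] (π : B →ₐc[k] A)

theorem antipode_antipode' (x : B) :
    HopfAlgebra.antipodeAlgHom k B (HopfAlgebra.antipodeAlgHom k B x) = x := by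
  have h1 : ((Pt.mk (AlgHom.id k B) : Pt k B B)⁻¹)⁻¹ = Pt.mk (AlgHom.id k B) := inv_inv _
  exact congrArg (fun g : Pt k B B => g.hom x) h1

/-- `B` as a comodule over `A` through right translations. -/
@[reducible] noncomputable def rtrans : HopfRep.Comod k A B := GLin.comodAlong π (HopfRep.Comod.regular k B)

theorem isCoactAlg_rtrans : @GLin.IsCoactAlg k _ A _ _ B _ _ (rtrans π) :=
  @GLin.isCoactAlg_comodAlong k _ B _ _ A _ _ B _ _ π (HopfRep.Comod.regular k B)
    (@GLin.IsCoactAlg.mk k _ B _ _ B _ _ (HopfRep.Comod.regular k B) (map_one (Bialgebra.comulAlgHom k B))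
      (fun f g => map_mul (Bialgebra.comulAlgHom k B) f g))

theorem mv_rtrans {C : Type w} [CommRing C] [Algebra k C] (b : Pt k B C) (g : Pt k A C) :
    letI := rtrans π
    haveI := isCoactAlg_rtrans π
    mv b.hom g = (b * pull π g).hom := by
  letI := rtrans π
  haveI := isCoactAlg_rtrans π
  apply AlgHom.ext
  intro f
  rw [mv_apply, Pt.mul_apply]
  change Algebra.TensorProduct.lift b.hom g.hom (fun _ _ => Commute.all _ _)
    (TensorProduct.map LinearMap.id (π : B →ₗ[k] A) (CoalgebraStruct.comul (R := k) f)) = _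
  induction CoalgebraStruct.comul (R := k) f using TensorProduct.induction_on with
  | zero => simp
  | tmul x y => rw [TensorProduct.map_tmul, Algebra.TensorProduct.lift_tmul, Algebra.TensorProduct.lift_tmul]; rfl
  | add x y hx hy => rw [map_add, map_add, hx, hy, map_add]

theorem mul_pull_apply_of_fixed {C : Type w} [CommRing C] [Algebra k C] {f : B}
    (hf : (rtrans π).coact f = f ⊗ₜ[k] (1 : A)) (b : Pt k B C) (g : Pt k A C) :
    (b * pull π g).hom f = b.hom f := by
  letI := rtrans π
  haveI := isCoactAlg_rtrans π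
  rw [← mv_rtrans, mv_apply]
  change Algebra.TensorProduct.lift b.hom g.hom (fun _ _ => Commute.all _ _) ((rtrans π).coact f) = _
  rw [hf, Algebra.TensorProduct.lift_tmul, map_one, mul_one]

theorem fixed_of_forall {f : B} (h : ∀ (b : Pt k B (B ⊗[k] A)) (g : Pt k A (B ⊗[k] A)),
    (b * pull π g).hom f = b.hom f) : (rtrans π).coact f = f ⊗ₜ[k] (1 : A) := by
  letI := rtrans π
  haveI := isCoactAlg_rtrans π
  let b : Pt k B (B ⊗[k] A) := Pt.mk Algebra.TensorProduct.includeLeft
  let g : Pt k A (B ⊗[k] A) := Pt.mk Algebra.TensorProduct.includeRight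
  have h1 := h b g
  rw [← mv_rtrans, mv_apply] at h1
  have h2 : Algebra.TensorProduct.lift b.hom g.hom (fun _ _ => Commute.all _ _) = AlgHom.id k (B ⊗[k] A) := ev2_incl
  rw [h2] at h1
  have h3 : b.hom f = f ⊗ₜ[k] (1 : A) := rfl
  rw [h3] at h1
  exact h1

theorem antipode_fixed_of_mem_linv {f : B} (hf : f ∈ linv π) :
    (rtrans π).coact (HopfAlgebra.antipodeAlgHom k B f) = HopfAlgebra.antipodeAlgHom k B f ⊗ₜ[k] (1 : A) := by
  apply fixed_of_forall
  intro b g
  have h1 : ∀ y : Pt k B (B ⊗[k] A), y.hom (HopfAlgebra.antipodeAlgHom k B f) = (y⁻¹).hom f := fun y => rfl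
  rw [h1, h1, mul_inv_rev, ← map_inv, pull_mul_apply π hf]

theorem antipode_mem_linv_of_fixed {f : B} (hf : (rtrans π).coact f = f ⊗ₜ[k] (1 : A)) :
    HopfAlgebra.antipodeAlgHom k B f ∈ linv π := by
  apply mem_linv_of_forall
  intro g b
  have h1 : ∀ y : Pt k B (A ⊗[k] B), y.hom (HopfAlgebra.antipodeAlgHom k B f) = (y⁻¹).hom f := fun y => rfl
  rw [h1, h1, mul_inv_rev, ← map_inv, mul_pull_apply_of_fixed π hf]

/-- Every rational point of `G \ H` lifts to `H`. -/
theorem exists_lift (hG : HopfRep.IsLinearlyReductive k A) (q : linv π →ₐ[k] k) :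
    ∃ h : Pt k B k, ∀ f : linv π, h.hom (f : B) = q f := by
  letI := rtrans π
  haveI := isCoactAlg_rtrans π
  -- the point of the ring of right invariants
  let S := GLin.invariants k A B
  have hS : ∀ f : B, f ∈ S → HopfAlgebra.antipodeAlgHom k B f ∈ linv π := fun f hf =>
    antipode_mem_linv_of_fixed π hf
  let σ : S →ₐ[k] linv π := ((HopfAlgebra.antipodeAlgHom k B).comp S.val).codRestrict (linv π)
    (fun f => hS f f.2)
  let q' : S →ₐ[k] k := q.comp σ
  let ψ : B → k := fun b => q' ⟨K765.Rey.rey hG B b, K765.Rey.rey_mem_invariants hG b⟩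
  let J : Ideal B := Ideal.span {b | ∃ f : S, b = (f : B) - algebraMap k B (q' f)}
  have hψadd : ∀ b b', ψ (b + b') = ψ b + ψ b' := by
    intro b b'
    change q' _ = q' _ + q' _
    rw [← map_add]
    congr 1
    apply Subtype.ext
    exact map_add (K765.Rey.rey hG B) b b'
  have hψmul : ∀ (b : B) (f : S), ψ (b * (f : B)) = ψ b * q' f := by
    intro b f
    change q' _ = q' _ * q' _
    rw [← map_mul]
    congr 1
    apply Subtype.ext
    exact K765.Rey.rey_mul hG b f.2
  have hψ1 : ψ 1 = 1 := by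
    change q' _ = 1
    rw [← map_one q']
    congr 1
    apply Subtype.ext
    exact K765.Rey.rey_of_mem_invariants hG (Subalgebra.one_mem _)
  have hψ0 : ψ 0 = 0 := by
    have := hψmul 0 0
    rw [ZeroMemClass.coe_zero, zero_mul, map_zero, mul_zero] at this
    exact this
  have hψJ : ∀ b ∈ J, ∀ a, ψ (a * b) = 0 := by
    intro b hb
    refine Submodule.span_induction ?_ ?_ ?_ ?_ hb
    · rintro _ ⟨f, rfl⟩ a
      have h1 := hψmul a (f - algebraMap k S (q' f))
      have h2 : ((f - algebraMap k S (q' f) : S) : B) = (f : B) - algebraMap k B (q' f) := rfl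
      rw [← h2, h1, map_sub, AlgHom.commutes]
      change ψ a * (q' f - q' f) = 0
      rw [sub_self, mul_zero]
    · intro a
      rw [mul_zero, hψ0]
    · intro x y _ _ hx hy a
      rw [mul_add, hψadd, hx, hy, add_zero]
    · intro a' x _ hx a
      rw [smul_eq_mul, ← mul_assoc, hx]
  have hJ : J ≠ ⊤ := by
    intro h
    have h1 : (1 : B) ∈ J := by rw [h]; trivial
    have h2 := hψJ 1 h1 1
    rw [mul_one, hψ1] at h2
    exact one_ne_zero h2
  obtain ⟨h', hh'⟩ := exists_algHom_of_ne_top (k := k) J hJ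
  refine ⟨(Pt.mk h')⁻¹, fun f => ?_⟩
  have hf := antipode_fixed_of_mem_linv π f.2
  have h1 := hh' _ (Ideal.subset_span ⟨⟨HopfAlgebra.antipodeAlgHom k B (f : B), hf⟩, rfl⟩)
  rw [map_sub, AlgHom.commutes, sub_eq_zero] at h1
  change h' (HopfAlgebra.antipodeAlgHom k B (f : B)) = q f
  refine h1.trans ?_
  change q (σ ⟨HopfAlgebra.antipodeAlgHom k B (f : B), hf⟩) = q f
  congr 1
  apply Subtype.ext
  exact antipode_antipode' (k := k) (f : B)

/-- A rational point of `H` with the same image in `G \\ H` as `1` is in `G`. -/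
theorem eq_zero_of_agree_one (hG : HopfRep.IsLinearlyReductive k A) (hπ : Function.Surjective π) (y : Pt k B k)
    (hy : Agree π y 1) (f : B) (hf : π f = 0) : y.hom f = 0 := by
  letI := rtrans π
  haveI := isCoactAlg_rtrans π
  -- `1` and `y⁻¹` have the same right invariants
  have h1 : ∀ F ∈ HopfRep.fixedPts k A B, (1 : Pt k B k).hom F = (y⁻¹).hom F := by
    intro F hF
    have h2 := hy _ (antipode_mem_linv_of_fixed π hF)
    have h3 : y.hom (HopfAlgebra.antipodeAlgHom k B F) = (y⁻¹).hom F := rfl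
    have h4 : (1 : Pt k B k).hom (HopfAlgebra.antipodeAlgHom k B F) = (1 : Pt k B k).hom F := by
      change ((1 : Pt k B k)⁻¹).hom F = _
      rw [inv_one]
    rw [← h3, h2, h4]
  obtain ⟨z, hz1, hz2⟩ := K701.Orbit3.exists_common_point hG (1 : Pt k B k).hom (y⁻¹).hom h1
  have horb : ∀ (b : Pt k B k) (F : B), GLin.orbitHom k A b.hom F =
      (Pt.bc (Algebra.ofId k A) b * pull π (Pt.mk (AlgHom.id k A))).hom F := by
    intro b F
    rw [← mv_rtrans]
    have h2 := DFunLike.congr_fun (comp_orbitHom b.hom (Pt.mk (AlgHom.id k A) : Pt k A A)) F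
    exact h2
  -- `z` is in the subgroup
  have hzG : ∀ F : B, π F = 0 → z F = 0 := by
    intro F hF
    apply hz1
    rw [RingHom.mem_ker]
    change GLin.orbitHom k A (1 : Pt k B k).hom F = 0
    rw [horb, map_one, one_mul]
    exact hF
  have hyz : ∀ F : B, π F = 0 → (y * Pt.mk z).hom F = 0 := by
    intro F hF
    have h2 : z (ltr y F) = 0 := by
      apply hz2
      rw [RingHom.mem_ker]
      change GLin.orbitHom k A (y⁻¹).hom (ltr y F) = 0
      rw [horb, ltr_apply, map_inv, mul_inv_cancel_left]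
      exact hF
    have h3 := ltr_apply y F (Pt.mk z)
    rw [bc_self] at h3
    rw [← h3]
    exact h2
  obtain ⟨ζ, hζ⟩ := exists_pull hπ (Pt.mk z) hzG
  obtain ⟨η, hη⟩ := exists_pull hπ (y * Pt.mk z) hyz
  have h5 : y = pull π (η * ζ⁻¹) := by
    rw [map_mul, map_inv, hη, hζ, mul_inv_cancel_right]
  rw [h5, pull_apply, hf, map_zero]

end Red

end K687
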