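import Groth.Agent.GIT.K687.LInv
import Groth.Agent.GIT.K687.DerExt

/-!
# Tangent vectors of `G \ H` lift to `H` (characteristic zero)
-/

set_option autoImplicit false
set_option linter.unusedSectionVars false

universe u v w w'

open TensorProduct

namespace K687

section Trans

variable {k : Type u} [Field k] {B : Type v} [CommRing B] [HopfAlgebra k B]
  {C : Type w} [CommRing C] [Algebra k C]

/-- Left translation as an algebra map. -/
noncomputable def ltrA (y : Pt k B k) : B →ₐ[k] B := (Pt.bc (Algebra.ofId k B) y * Pt.mk (AlgHom.id k B)).hom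

/-- Right translation as an algebra map. -/
noncomputable def rtrA (y : Pt k B k) : B →ₐ[k] B := (Pt.mk (AlgHom.id k B) * Pt.bc (Algebra.ofId k B) y).hom

theorem ltrA_apply (y : Pt k B k) (F : B) (b : Pt k B C) :
    b.hom (ltrA y F) = (Pt.bc (Algebra.ofId k C) y * b).hom F := ltr_apply y F b

theorem rtrA_apply (y : Pt k B k) (F : B) (b : Pt k B C) :
    b.hom (rtrA y F) = (b * Pt.bc (Algebra.ofId k C) y).hom F := by
  have h2 : Pt.bc b.hom (Pt.mk (AlgHom.id k B) * Pt.bc (Algebra.ofId k B) y) = b * Pt.bc (Algebra.ofId k C) y := by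
    rw [map_mul, bc_ofId]
    rfl
  exact congrArg (fun g : Pt k B C => g.hom F) h2

theorem ltrA_ltrA (y z : Pt k B k) (F : B) : ltrA y (ltrA z F) = ltrA (z * y) F := by
  have h1 := ltrA_apply z F (Pt.mk (ltrA y) : Pt k B B)
  have h2 : Pt.bc (Algebra.ofId k B) z * (Pt.mk (ltrA y) : Pt k B B) =
      Pt.bc (Algebra.ofId k B) (z * y) * Pt.mk (AlgHom.id k B) := by
    rw [map_mul, mul_assoc]
    rfl
  rw [h2] at h1
  exact h1

theorem rtrA_rtrA (y z : Pt k B k) (F : B) : rtrA y (rtrA z F) = rtrA (y * z) F := by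
  have h1 := rtrA_apply z F (Pt.mk (rtrA y) : Pt k B B)
  have h2 : (Pt.mk (rtrA y) : Pt k B B) * Pt.bc (Algebra.ofId k B) z =
      Pt.mk (AlgHom.id k B) * Pt.bc (Algebra.ofId k B) (y * z) := by
    rw [map_mul, ← mul_assoc]
    rfl
  rw [h2] at h1
  exact h1

theorem ltrA_one (F : B) : ltrA (1 : Pt k B k) F = F := by
  have : (Pt.bc (Algebra.ofId k B) (1 : Pt k B k) * Pt.mk (AlgHom.id k B)) = Pt.mk (AlgHom.id k B) := by
    rw [map_one, one_mul]
  exact congrArg (fun g : Pt k B B => g.hom F) this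

theorem rtrA_one (F : B) : rtrA (1 : Pt k B k) F = F := by
  have : (Pt.mk (AlgHom.id k B) * Pt.bc (Algebra.ofId k B) (1 : Pt k B k)) = Pt.mk (AlgHom.id k B) := by
    rw [map_one, mul_one]
  exact congrArg (fun g : Pt k B B => g.hom F) this

instance isCoactAlg_regular : GLin.IsCoactAlg k B B :=
  ⟨map_one (Bialgebra.comulAlgHom k B), fun f g => map_mul (Bialgebra.comulAlgHom k B) f g⟩

end Trans

section Tan

variable {k : Type u} [Field k] {A : Type v} [CommRing A] [HopfAlgebra k A]
  {B : Type v} [CommRing B] [HopfAlgebra k B] (π : B →ₐc[k] A)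

theorem rtrA_mem_linv (y : Pt k B k) {f : B} (hf : f ∈ linv π) : rtrA y f ∈ linv π := by
  apply mem_linv_of_forall
  intro g b
  rw [rtrA_apply, rtrA_apply, mul_assoc, pull_mul_apply π hf]

/-- A functional on the invariants as a translation-equivariant map. -/
noncomputable def dAux (D : linv π →ₗ[k] k) : (linv π) ⊗[k] B →ₗ[k] B :=
  TensorProduct.lift ((LinearMap.lsmul k B) ∘ₗ D)

theorem dAux_tmul (D : linv π →ₗ[k] k) (s : linv π) (b : B) : dAux π D (s ⊗ₜ[k] b) = D s • b := rfl

/-- The counit on the first factor. -/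
noncomputable def eAux : (linv π) ⊗[k] B →ₐ[k] B :=
  ev2 ((Algebra.ofId k B).comp ((1 : Pt k B k).hom.comp (linv π).val)) (Pt.mk (AlgHom.id k B))

theorem dAux_mul (D : linv π →ₗ[k] k)
    (hD : ∀ f f' : linv π, D (f * f') = (1 : Pt k B k).hom f * D f' + D f * (1 : Pt k B k).hom f')
    (z z' : (linv π) ⊗[k] B) : dAux π D (z * z') = eAux π z * dAux π D z' + dAux π D z * eAux π z' := by
  induction z using TensorProduct.induction_on with
  | zero => simp
  | add x y hx hy => rw [add_mul, map_add, hx, hy, map_add, map_add]; ring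
  | tmul s b =>
    induction z' using TensorProduct.induction_on with
    | zero => simp
    | add x y hx hy => rw [mul_add, map_add, hx, hy, map_add, map_add]; ring
    | tmul s' b' =>
      rw [Algebra.TensorProduct.tmul_mul_tmul, dAux_tmul, dAux_tmul, dAux_tmul, hD, eAux, ev2_tmul, ev2_tmul]
      simp only [Algebra.smul_def, map_add, map_mul]
      change _ = algebraMap k B ((1 : Pt k B k).hom s) * b * (algebraMap k B (D s') * b') +
        algebraMap k B (D s) * b * (algebraMap k B ((1 : Pt k B k).hom s') * b')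
      ring

/-- The coaction of the invariants. -/
noncomputable def cAux : linv π →ₗ[k] (linv π) ⊗[k] B := (subComod (linv π) (isSubcomod_linv π)).coact

theorem cAux_mul (f f' : linv π) : cAux π (f * f') = cAux π f * cAux π f' :=
  (isCoactAlg_subComod (B := B) (linv π) (isSubcomod_linv π)).coact_mul f f'

theorem map_cAux (f : linv π) : Algebra.TensorProduct.map (linv π).val (AlgHom.id k B) (cAux π f) =
    CoalgebraStruct.comul (R := k) (f : B) := subComod_coact (linv π) (isSubcomod_linv π) f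

theorem eAux_cAux (f : linv π) : eAux π (cAux π f) = f := by
  have h1 : eAux π = (ev2 ((Algebra.ofId k B).comp (1 : Pt k B k).hom) (Pt.mk (AlgHom.id k B) : Pt k B B)).comp
      (Algebra.TensorProduct.map (linv π).val (AlgHom.id k B)) := by
    rw [ev2_comp_map]
    rfl
  rw [h1, AlgHom.comp_apply, map_cAux]
  have h2 := ltrA_one (k := k) (f : B)
  exact h2

/-- The derivation attached to a tangent vector at the base point. -/
noncomputable def derAux (D : linv π →ₗ[k] k)
    (hD : ∀ f f' : linv π, D (f * f') = (1 : Pt k B k).hom f * D f' + D f * (1 : Pt k B k).hom f') :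
    Derivation k (linv π) B :=
  Derivation.mk' (dAux π D ∘ₗ cAux π) (fun f f' => by
    rw [LinearMap.comp_apply, cAux_mul, dAux_mul π D hD, eAux_cAux, eAux_cAux]
    rw [LinearMap.comp_apply, LinearMap.comp_apply, mul_comm (dAux π D (cAux π f))]
    rfl)

theorem apply_derAux (D : linv π →ₗ[k] k) (hD) (γ : Pt k B k) (f : linv π) :
    γ.hom (derAux π D hD f) = D ⟨rtrA γ (f : B), rtrA_mem_linv π γ f.2⟩ := by
  -- the translate through the coaction
  let r : (linv π) ⊗[k] B →ₗ[k] linv π :=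
    (TensorProduct.rid k (linv π)).toLinearMap ∘ₗ TensorProduct.map LinearMap.id γ.hom.toLinearMap
  have h1 : (⟨rtrA γ (f : B), rtrA_mem_linv π γ f.2⟩ : linv π) = r (cAux π f) := by
    apply Subtype.ext
    have h2 : ∀ z : (linv π) ⊗[k] B, ((r z : linv π) : B) =
        ev2 (AlgHom.id k B) (Pt.bc (Algebra.ofId k B) γ)
          (Algebra.TensorProduct.map (linv π).val (AlgHom.id k B) z) := by
      intro z
      induction z using TensorProduct.induction_on with
      | zero => simp
      | add x y hx hy => rw [map_add, map_add, map_add, ← hx, ← hy]; rfl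
      | tmul s b =>
        rw [Algebra.TensorProduct.map_tmul, ev2_tmul]
        change ((γ.hom b • s : linv π) : B) = (s : B) * algebraMap k B (γ.hom b)
        rw [mul_comm, ← Algebra.smul_def]
        rfl
    rw [h2, map_cAux]
    rfl
  rw [h1]
  change γ.hom (dAux π D (cAux π f)) = D (r (cAux π f))
  generalize cAux π f = z
  induction z using TensorProduct.induction_on with
  | zero => simp
  | add x y hx hy => rw [map_add, map_add, map_add, map_add, hx, hy]
  | tmul s b =>
    rw [dAux_tmul, map_smul]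
    change D s • γ.hom b = D (γ.hom b • s)
    rw [map_smul, smul_eq_mul, smul_eq_mul, mul_comm]

end Tan

section Main

variable {k : Type u} [Field k] [IsAlgClosed k] [CharZero k] {A : Type v} [CommRing A] [HopfAlgebra k A]
  {B : Type v} [CommRing B] [HopfAlgebra k B] [IsDomain B] [Algebra.FiniteType k B] (π : B →ₐc[k] A)

omit [CharZero k] [HopfAlgebra k B] in
/-- A nonzero element of a finitely generated domain is nonzero at some rational point. -/
theorem exists_point_ne_zero [Algebra k B] [Algebra.FiniteType k B] {c : B} (hc : c ≠ 0) : ∃ γ : B →ₐ[k] k, γ c ≠ 0 := by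
  haveI : Nontrivial (Localization.Away c) := by
    have h1 : Function.Injective (algebraMap B (Localization.Away c)) :=
      IsLocalization.injective _ (powers_le_nonZeroDivisors_of_noZeroDivisors hc)
    exact h1.nontrivial
  haveI : Algebra.FiniteType B (Localization.Away c) := IsLocalization.finiteType_of_monoid_fg (Submonoid.powers c) _
  haveI : Algebra.FiniteType k (Localization.Away c) := Algebra.FiniteType.trans (S := B) inferInstance inferInstance
  obtain ⟨a, _⟩ := exists_algHom_of_ne_top (k := k) (⊥ : Ideal (Localization.Away c)) bot_ne_top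
  refine ⟨a.comp (IsScalarTower.toAlgHom k B (Localization.Away c)), ?_⟩
  have h1 : IsUnit (algebraMap B (Localization.Away c) c) := IsLocalization.Away.algebraMap_isUnit c
  exact (h1.map a).ne_zero

/-- Tangent vectors at the base point lift. -/
theorem exists_tangent_one (D : linv π →ₗ[k] k)
    (hD : ∀ f f' : linv π, D (f * f') = (1 : Pt k B k).hom f * D f' + D f * (1 : Pt k B k).hom f') :
    ∃ X : B →ₗ[k] k, (∀ a b, X (a * b) = (1 : Pt k B k).hom a * X b + X a * (1 : Pt k B k).hom b) ∧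
      ∀ f : linv π, X f = D f := by
  obtain ⟨c, E, hc, hE⟩ := exists_derivation_of_charZero (linv π) (derAux π D hD)
  obtain ⟨γ', hγ'⟩ := exists_point_ne_zero (k := k) hc
  let γ : Pt k B k := Pt.mk γ'
  have hγ : γ.hom c ≠ 0 := hγ'
  have hε : ∀ b, γ.hom (rtrA γ⁻¹ b) = (1 : Pt k B k).hom b := by
    intro b
    rw [rtrA_apply, bc_self, mul_inv_cancel]
  refine ⟨(γ.hom c)⁻¹ • (γ.hom.toLinearMap ∘ₗ E.toLinearMap ∘ₗ (rtrA γ⁻¹).toLinearMap), fun a b => ?_, fun f => ?_⟩
  · change (γ.hom c)⁻¹ * γ.hom (E (rtrA γ⁻¹ (a * b))) = (1 : Pt k B k).hom a * ((γ.hom c)⁻¹ * γ.hom (E (rtrA γ⁻¹ b))) +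
      ((γ.hom c)⁻¹ * γ.hom (E (rtrA γ⁻¹ a))) * (1 : Pt k B k).hom b
    rw [map_mul, Derivation.leibniz, smul_eq_mul, smul_eq_mul, map_add, map_mul, map_mul, hε, hε]
    ring
  · change (γ.hom c)⁻¹ * γ.hom (E (rtrA γ⁻¹ (f : B))) = D f
    have h1 := hE ⟨rtrA γ⁻¹ (f : B), rtrA_mem_linv π γ⁻¹ f.2⟩
    have h2 : E (rtrA γ⁻¹ (f : B)) = c * derAux π D hD ⟨rtrA γ⁻¹ (f : B), rtrA_mem_linv π γ⁻¹ f.2⟩ := h1
    rw [h2, map_mul, apply_derAux, inv_mul_cancel_left₀ hγ]
    congr 1
    apply Subtype.ext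
    change rtrA γ (rtrA γ⁻¹ (f : B)) = f
    rw [rtrA_rtrA, mul_inv_cancel, rtrA_one]

/-- Tangent vectors at any point lift. -/
theorem exists_tangent (h : Pt k B k) (D : linv π →ₗ[k] k)
    (hD : ∀ f f' : linv π, D (f * f') = h.hom f * D f' + D f * h.hom f') :
    ∃ X : B →ₗ[k] k, (∀ a b, X (a * b) = (1 : Pt k B k).hom a * X b + X a * (1 : Pt k B k).hom b) ∧
      ∀ f : linv π, X (ltrA h (f : B)) = D f := by
  let τ : linv π →ₐ[k] linv π := ((rtrA h⁻¹).comp (linv π).val).codRestrict (linv π)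
    (fun f => rtrA_mem_linv π h⁻¹ f.2)
  have hτ : ∀ f : linv π, h.hom (τ f) = (1 : Pt k B k).hom f := by
    intro f
    change h.hom (rtrA h⁻¹ (f : B)) = _
    rw [rtrA_apply, bc_self, mul_inv_cancel]
  obtain ⟨X0, hX0, hX0'⟩ := exists_tangent_one π (D ∘ₗ τ.toLinearMap) (fun f f' => by
    change D (τ (f * f')) = _ * D (τ f') + D (τ f) * _
    rw [map_mul, hD, hτ, hτ])
  have hε : ∀ b, (1 : Pt k B k).hom (rtrA h (ltrA h⁻¹ b)) = (1 : Pt k B k).hom b := by
    intro b
    rw [rtrA_apply, ltrA_apply, bc_self, bc_self, one_mul, inv_mul_cancel]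
  refine ⟨X0 ∘ₗ (rtrA h).toLinearMap ∘ₗ (ltrA h⁻¹).toLinearMap, fun a b => ?_, fun f => ?_⟩
  · change X0 (rtrA h (ltrA h⁻¹ (a * b))) = _ * X0 (rtrA h (ltrA h⁻¹ b)) + X0 (rtrA h (ltrA h⁻¹ a)) * _
    rw [map_mul, map_mul, hX0, hε, hε]
  · change X0 (rtrA h (ltrA h⁻¹ (ltrA h (f : B)))) = D f
    rw [ltrA_ltrA, mul_inv_cancel, ltrA_one]
    have h1 := hX0' ⟨rtrA h (f : B), rtrA_mem_linv π h f.2⟩
    have h2 : X0 (rtrA h (f : B)) = D (τ ⟨rtrA h (f : B), rtrA_mem_linv π h f.2⟩) := h1
    rw [h2]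
    congr 1
    apply Subtype.ext
    change rtrA h⁻¹ (rtrA h (f : B)) = f
    rw [rtrA_rtrA, inv_mul_cancel, rtrA_one]

end Main

end K687
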