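import Groth.Agent.GIT.K687.UMat
import Groth.Agent.GIT.K687.Tangent

/-!
# Points of `GL_n` having a limit in `G \ GL_n` along a diagonal one-parameter subgroup

`K687.exists_lift_limit`: if the image of `a` in `G \ GL_n` has a limit along `λ = diag(t^r)`, then this limit is the
image of some `h`, and the image of `a` is the image of `h · w` with `w` in the unipotent group contracted by `λ`.
-/

set_option autoImplicit false
set_option linter.unusedSectionVars false

universe u v w w'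

open TensorProduct LaurentPolynomial CoordGrp

namespace K687

section Fixed

variable {k : Type u} [CommRing k] {A : Type v} [CommRing A] [Bialgebra k A]
  {R : Type w} [CommRing R] [Algebra k R] [HopfRep.Comod k A R] [GLin.IsCoactAlg k A R]

theorem wt_wt (lam : A →ₐc[k] k[T;T⁻¹]) (j : ℤ) (f : R) : wt lam j (wt lam j f) = wt lam j f := by
  change tc k R j (rho lam (wt lam j f)) = _
  rw [rho_wt, tc_tmul, LaurentPolynomial.T_apply, if_pos rfl, one_smul]

/-- Limit points are fixed. -/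
theorem mv_fixed_of_isLimit {lam : A →ₐc[k] k[T;T⁻¹]} {x y : R →ₐ[k] k} (hy : GLin.IsLimit k A lam x y) :
    mv ((Algebra.ofId k k[T;T⁻¹]).comp y) (lamPt lam) = (Algebra.ofId k k[T;T⁻¹]).comp y := by
  obtain ⟨_, hy0⟩ := wt_of_isLimit hy
  rw [← lamOrbit_eq]
  apply AlgHom.ext
  intro f
  ext n
  rw [coeff_lamOrbit, hy0]
  have h1 : wt lam 0 (wt lam n f) = if n = 0 then wt lam n f else 0 := by
    change tc k R 0 (rho lam (wt lam n f)) = _
    rw [rho_wt, tc_tmul, LaurentPolynomial.T_apply]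
    split_ifs <;> simp
  rw [h1]
  change _ = (algebraMap k k[T;T⁻¹] (y f)).coeff n
  rw [LaurentPolynomial.algebraMap_apply, LaurentPolynomial.C_apply, hy0]
  split_ifs with hn
  · rw [hn]; rfl
  · rw [map_zero]

end Fixed

section LinvPts

variable {k : Type u} [Field k] {A : Type v} [CommRing A] [HopfAlgebra k A] {B : Type v} [CommRing B]
  [HopfAlgebra k B] (π : B →ₐc[k] A) {C : Type w} [CommRing C] [Algebra k C]

noncomputable instance comodLinv : HopfRep.Comod k B (linv π) := subComod (linv π) (isSubcomod_linv π)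

instance isCoactAlg_linv : GLin.IsCoactAlg k B (linv π) := isCoactAlg_subComod (linv π) (isSubcomod_linv π)

theorem coact_linv (f : linv π) : Algebra.TensorProduct.map (linv π).val (AlgHom.id k B)
    (HopfRep.Comod.coact (k := k) (A := B) f) = CoalgebraStruct.comul (R := k) (f : B) :=
  subComod_coact (linv π) (isSubcomod_linv π) f

theorem mv_regular (b g : Pt k B C) : mv b.hom g = (b * g).hom := by
  apply AlgHom.ext
  intro f
  rw [mv_apply, Pt.mul_apply]
  rfl

/-- The image in `G \ H` of a point of `H`. -/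
noncomputable def rs (b : Pt k B C) : linv π →ₐ[k] C := b.hom.comp (linv π).val

theorem mv_rs (b g : Pt k B C) : mv (rs π b) g = rs π (b * g) := by
  rw [rs, mv_comp_hom (linv π).val, mv_regular]
  · rfl
  · intro f
    exact (coact_linv π f).symm

/-- The coefficients of the orbit map of a point of `G \ H`. -/
theorem coeff_mul_lamPt (lam : B →ₐc[k] k[T;T⁻¹]) (p : Pt k B k) (f : linv π) (j : ℤ) :
    ((Pt.bc (Algebra.ofId k k[T;T⁻¹]) p * lamPt lam).hom (f : B)).coeff j = p.hom (wt lam j f : linv π) := by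
  have h1 := coeff_lamOrbit lam (rs π p) j f
  rw [lamOrbit_eq] at h1
  have h2 : (Algebra.ofId k k[T;T⁻¹]).comp (rs π p) = rs π (Pt.bc (Algebra.ofId k _) p) := rfl
  rw [h2, mv_rs] at h1
  exact h1

/-- If the image of `a` has limit the image of `h`, then the image of `h` is fixed. -/
theorem agree_of_limit (lam : B →ₐc[k] k[T;T⁻¹]) (a h : Pt k B k) (P : linv π →ₐ[k] Polynomial k)
    (hP : ∀ f : linv π, Polynomial.toLaurent (P f) = (Pt.bc (Algebra.ofId k k[T;T⁻¹]) a * lamPt lam).hom (f : B))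
    (hh : ∀ f : linv π, h.hom (f : B) = Polynomial.aeval 0 (P f)) :
    Agree π (Pt.bc (Algebra.ofId k k[T;T⁻¹]) h * lamPt lam) (Pt.bc (Algebra.ofId k k[T;T⁻¹]) h) := by
  have h1 : GLin.IsLimit k B lam (rs π a) (rs π h) := by
    refine ⟨P, ?_, ?_⟩
    · rw [lamOrbit_eq]
      have h2 : (Algebra.ofId k k[T;T⁻¹]).comp (rs π a) = rs π (Pt.bc (Algebra.ofId k _) a) := rfl
      rw [h2, mv_rs]
      apply AlgHom.ext
      intro f
      exact hP f
    · apply AlgHom.ext
      intro f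
      exact (hh f).symm
  have h3 := mv_fixed_of_isLimit h1
  have h2 : (Algebra.ofId k k[T;T⁻¹]).comp (rs π h) = rs π (Pt.bc (Algebra.ofId k _) h) := rfl
  rw [h2, mv_rs] at h3
  intro f hf
  exact DFunLike.congr_fun h3 ⟨f, hf⟩

end LinvPts

section XT

variable {k : Type u} [Field k] {B : Type v} [CommRing B] [HopfAlgebra k B]

/-- Extension of a functional. -/
noncomputable def XT (X : B →ₗ[k] k) : B ⊗[k] k[T;T⁻¹] →ₗ[k] k[T;T⁻¹] :=
  TensorProduct.lift ((LinearMap.lsmul k k[T;T⁻¹]) ∘ₗ X)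

theorem XT_tmul (X : B →ₗ[k] k) (b : B) (p : k[T;T⁻¹]) : XT X (b ⊗ₜ[k] p) = X b • p := rfl

variable (k B) in
/-- Extension of the counit. -/
noncomputable def epT : B ⊗[k] k[T;T⁻¹] →ₐ[k] k[T;T⁻¹] :=
  Algebra.TensorProduct.lift (1 : Pt k B k[T;T⁻¹]).hom (AlgHom.id k _) (fun _ _ => Commute.all _ _)

theorem XT_mul (X : B →ₗ[k] k)
    (hX : ∀ a b, X (a * b) = (1 : Pt k B k).hom a * X b + X a * (1 : Pt k B k).hom b) (z z' : B ⊗[k] k[T;T⁻¹]) :
    XT X (z * z') = epT k B z * XT X z' + XT X z * epT k B z' := by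
  induction z using TensorProduct.induction_on with
  | zero => simp
  | add x y hx hy => rw [add_mul, map_add, hx, hy, map_add, map_add]; ring
  | tmul s b =>
    induction z' using TensorProduct.induction_on with
    | zero => simp
    | add x y hx hy => rw [mul_add, map_add, hx, hy, map_add, map_add]; ring
    | tmul s' b' =>
      rw [Algebra.TensorProduct.tmul_mul_tmul, XT_tmul, XT_tmul, XT_tmul, hX, epT, Algebra.TensorProduct.lift_tmul,
        Algebra.TensorProduct.lift_tmul]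
      simp only [Algebra.smul_def, map_add, map_mul]
      change _ = algebraMap k k[T;T⁻¹] ((1 : Pt k B k).hom s) * b * (algebraMap k k[T;T⁻¹] (X s') * b') +
        algebraMap k k[T;T⁻¹] (X s) * b * (algebraMap k k[T;T⁻¹] ((1 : Pt k B k).hom s') * b')
      ring

theorem lc_XT (X : B →ₗ[k] k) (j : ℤ) (z : B ⊗[k] k[T;T⁻¹]) : lc k j (XT X z) = X (tc k B j z) := by
  induction z using TensorProduct.induction_on with
  | zero => simp
  | add x y hx hy => rw [map_add, map_add, map_add, map_add, hx, hy]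
  | tmul s b =>
    rw [XT_tmul, tc_tmul, map_smul, map_smul, lc_apply, smul_eq_mul, smul_eq_mul, mul_comm]

/-- The conjugation point `λ⁻¹ b λ`. -/
noncomputable def kap (lam : B →ₐc[k] k[T;T⁻¹]) : Pt k B (B ⊗[k] k[T;T⁻¹]) :=
  (Pt.bc Algebra.TensorProduct.includeRight (lamPt lam))⁻¹ * Pt.mk Algebra.TensorProduct.includeLeft *
    Pt.bc Algebra.TensorProduct.includeRight (lamPt lam)

theorem epT_kap (lam : B →ₐc[k] k[T;T⁻¹]) (b : B) : epT k B ((kap lam).hom b) = (1 : Pt k B k[T;T⁻¹]).hom b := by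
  have h1 : Pt.bc (epT k B) (kap lam) = 1 := by
    rw [kap, map_mul, map_mul, map_inv, bc_bc]
    have h2 : (epT k B).comp (Algebra.TensorProduct.includeRight : k[T;T⁻¹] →ₐ[k] B ⊗[k] k[T;T⁻¹]) =
        AlgHom.id k _ := by
      apply AlgHom.ext
      intro p
      change epT k B (1 ⊗ₜ[k] p) = p
      rw [epT, Algebra.TensorProduct.lift_tmul, map_one, one_mul]
      rfl
    have h3 : Pt.bc (epT k B) (Pt.mk Algebra.TensorProduct.includeLeft) = (1 : Pt k B k[T;T⁻¹]) := by
      apply Pt.ext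
      intro b
      change epT k B (b ⊗ₜ[k] 1) = _
      rw [epT, Algebra.TensorProduct.lift_tmul, map_one, mul_one]
    rw [h2, h3, mul_one, inv_mul_cancel]
  exact congrArg (fun g : Pt k B k[T;T⁻¹] => g.hom b) h1

/-- The weight `j` part of a tangent vector. -/
noncomputable def XW (lam : B →ₐc[k] k[T;T⁻¹]) (j : ℤ) (X : B →ₗ[k] k) : B →ₗ[k] k :=
  lc k j ∘ₗ XT X ∘ₗ (kap lam).hom.toLinearMap

theorem XW_mul (lam : B →ₐc[k] k[T;T⁻¹]) (j : ℤ) (X : B →ₗ[k] k)
    (hX : ∀ a b, X (a * b) = (1 : Pt k B k).hom a * X b + X a * (1 : Pt k B k).hom b) (a b : B) :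
    XW lam j X (a * b) = (1 : Pt k B k).hom a * XW lam j X b + XW lam j X a * (1 : Pt k B k).hom b := by
  change lc k j (XT X ((kap lam).hom (a * b))) = (1 : Pt k B k).hom a * lc k j (XT X ((kap lam).hom b)) +
    lc k j (XT X ((kap lam).hom a)) * (1 : Pt k B k).hom b
  rw [map_mul, XT_mul X hX, epT_kap, epT_kap, map_add]
  have h1 : ∀ (c : B) (p : k[T;T⁻¹]), (1 : Pt k B k[T;T⁻¹]).hom c * p = (1 : Pt k B k).hom c • p := by
    intro c p
    rw [Algebra.smul_def]
    rfl
  rw [h1, mul_comm _ ((1 : Pt k B k[T;T⁻¹]).hom b), h1, map_smul, map_smul, smul_eq_mul, smul_eq_mul]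
  ring

theorem XW_apply (lam : B →ₐc[k] k[T;T⁻¹]) (j : ℤ) (X : B →ₗ[k] k) (b : B) :
    XW lam j X b = X (tc k B j ((kap lam).hom b)) := lc_XT X j _

end XT

section XWLinv

variable {k : Type u} [Field k] {A : Type v} [CommRing A] [HopfAlgebra k A] {B : Type v} [CommRing B]
  [HopfAlgebra k B] {π : B →ₐc[k] A}

/-- The weight `j` part of a tangent vector at a fixed point of `G \ H`. -/
theorem XW_ltrA (lam : B →ₐc[k] k[T;T⁻¹]) (j : ℤ) (X : B →ₗ[k] k) (h : Pt k B k)
    (hfix : Agree π (Pt.bc (Algebra.ofId k k[T;T⁻¹]) h * lamPt lam) (Pt.bc (Algebra.ofId k k[T;T⁻¹]) h))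
    (f : linv π) : XW lam j X (ltrA h (f : B)) = X (ltrA h ((wt lam j f : linv π) : B)) := by
  rw [XW_apply]
  congr 1
  let iR : k[T;T⁻¹] →ₐ[k] B ⊗[k] k[T;T⁻¹] := Algebra.TensorProduct.includeRight
  let ι : Pt k B (B ⊗[k] k[T;T⁻¹]) := Pt.mk Algebra.TensorProduct.includeLeft
  have h1 := ltrA_apply h (f : B) (kap lam)
  rw [h1, kap]
  -- remove the first factor
  have h2 : Agree π (Pt.bc (Algebra.ofId k _) h * ((Pt.bc iR (lamPt lam))⁻¹ * ι * Pt.bc iR (lamPt lam)))
      (Pt.bc (Algebra.ofId k _) h * ι * Pt.bc iR (lamPt lam)) := by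
    have h3 := (hfix.bc iR).mul_right ((Pt.bc iR (lamPt lam))⁻¹ * ι * Pt.bc iR (lamPt lam))
    rw [map_mul, bc_ofId] at h3
    have h4 : Pt.bc (Algebra.ofId k (B ⊗[k] k[T;T⁻¹])) h * Pt.bc iR (lamPt lam) *
        ((Pt.bc iR (lamPt lam))⁻¹ * ι * Pt.bc iR (lamPt lam)) =
        Pt.bc (Algebra.ofId k (B ⊗[k] k[T;T⁻¹])) h * ι * Pt.bc iR (lamPt lam) := by group
    rw [h4] at h3
    exact h3.symm
  have h5 := h2 (f : B) f.2
  refine (congrArg (tc k B j) h5).trans ?_
  -- the coaction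
  have h6 : Pt.bc (Algebra.ofId k (B ⊗[k] k[T;T⁻¹])) h * ι =
      Pt.mk ((Algebra.TensorProduct.includeLeft : B →ₐ[k] B ⊗[k] k[T;T⁻¹]).comp (ltrA h)) := by
    apply Pt.ext
    intro b
    exact (ltrA_apply h b ι).symm
  rw [h6, Pt.mul_apply, ← coact_linv]
  change _ = ltrA h ((tc k (linv π) j (TensorProduct.map LinearMap.id (lam : B →ₗ[k] k[T;T⁻¹])
    (HopfRep.Comod.coact (k := k) (A := B) f)) : linv π) : B)
  generalize HopfRep.Comod.coact (k := k) (A := B) f = z
  induction z using TensorProduct.induction_on with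
  | zero => simp
  | add x y hx hy => 
    rw [map_add, map_add, map_add, hx, hy, map_add, map_add, Subalgebra.coe_add, map_add]
  | tmul s b =>
    rw [Algebra.TensorProduct.map_tmul, Algebra.TensorProduct.lift_tmul, TensorProduct.map_tmul, tc_tmul]
    change tc k B j ((ltrA h (s : B) ⊗ₜ[k] (1 : k[T;T⁻¹])) * ((1 : B) ⊗ₜ[k] lam b)) =
      ltrA h ((lam b).coeff j • (s : B))
    rw [Algebra.TensorProduct.tmul_mul_tmul, mul_one, one_mul, tc_tmul, map_smul]

end XWLinv

section GLn1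

variable {k : Type u} [Field k] {n : ℕ} (r : Fin n → ℤ)

theorem kap_X (i j : Fin n) : (kap (GLn.diag n k r)).hom (GLn.X i j) =
    (GLn.X i j : GLn n k) ⊗ₜ[k] (T (r j - r i) : k[T;T⁻¹]) := by
  let iR : k[T;T⁻¹] →ₐ[k] GLn n k ⊗[k] k[T;T⁻¹] := Algebra.TensorProduct.includeRight
  let ι : Pt k (GLn n k) (GLn n k ⊗[k] k[T;T⁻¹]) := Pt.mk Algebra.TensorProduct.includeLeft
  have h1 : Pt.bc iR (lamPt (GLn.diag n k r)) * kap (GLn.diag n k r) = ι * Pt.bc iR (lamPt (GLn.diag n k r)) := by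
    change Pt.bc iR (lamPt (GLn.diag n k r)) * ((Pt.bc iR (lamPt (GLn.diag n k r)))⁻¹ * ι *
      Pt.bc iR (lamPt (GLn.diag n k r))) = _
    group
  have h2 : (Pt.bc iR (lamPt (GLn.diag n k r)) * kap (GLn.diag n k r)).hom (GLn.X i j) =
    (ι * Pt.bc iR (lamPt (GLn.diag n k r))).hom (GLn.X i j) := by rw [h1]
  rw [GLn_mul_X, GLn_mul_X, Finset.sum_eq_single i, Finset.sum_eq_single j] at h2
  · rw [Pt.bc_apply, Pt.bc_apply, lamPt_diag_X, if_pos rfl, lamPt_diag_X, if_pos rfl] at h2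
    have h3 : ((1 : GLn n k) ⊗ₜ[k] (T (-r i) : k[T;T⁻¹])) * (iR (T (r i)) * (kap (GLn.diag n k r)).hom (GLn.X i j)) =
        (kap (GLn.diag n k r)).hom (GLn.X i j) := by
      rw [← mul_assoc]
      change ((1 : GLn n k) ⊗ₜ[k] (T (-r i) : k[T;T⁻¹])) * ((1 : GLn n k) ⊗ₜ[k] (T (r i) : k[T;T⁻¹])) * _ = _
      rw [Algebra.TensorProduct.tmul_mul_tmul, mul_one, ← T_add, neg_add_cancel, T_zero]
      exact one_mul _
    rw [← h3, h2]
    change ((1 : GLn n k) ⊗ₜ[k] (T (-r i) : k[T;T⁻¹])) * ((GLn.X i j ⊗ₜ[k] 1) * (1 ⊗ₜ[k] T (r j))) = _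
    rw [Algebra.TensorProduct.tmul_mul_tmul, Algebra.TensorProduct.tmul_mul_tmul, mul_one, one_mul, one_mul, ← T_add]
    congr 2
    ring
  · intro l _ hl
    rw [Pt.bc_apply, lamPt_diag_X, if_neg hl, map_zero, mul_zero]
  · intro h; exact absurd (Finset.mem_univ j) h
  · intro l _ hl
    rw [Pt.bc_apply, lamPt_diag_X, if_neg (Ne.symm hl), map_zero, zero_mul]
  · intro h; exact absurd (Finset.mem_univ i) h

theorem XW_X (m : ℤ) (X : GLn n k →ₗ[k] k) (i j : Fin n) :
    XW (GLn.diag n k r) m X (GLn.X i j) = if r j - r i = m then X (GLn.X i j) else 0 := by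
  rw [XW_apply, kap_X, tc_tmul, LaurentPolynomial.T_apply]
  split_ifs <;> simp

end GLn1

end K687
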