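import Groth.Agent.GIT.K687.Lift

/-!
# Points of `GL_n` having a limit in `G \ GL_n` along a diagonal one-parameter subgroup (continued)
-/

set_option autoImplicit false
set_option linter.unusedSectionVars false

universe u v w w'

open TensorProduct LaurentPolynomial CoordGrp

namespace K687

section Step

variable {k : Type u} [Field k] {n : ℕ} {r : Fin n → ℤ}

/-- Adding a tangent vector of weight `m + 1`. -/
theorem isU_add {M : Matrix (Fin n) (Fin n) k} (hM : IsU r M) (m : ℕ) (X : GLn n k →ₗ[k] k) :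
    IsU r (M + Matrix.of fun i j => XW (GLn.diag n k r) ((m + 1 : ℕ) : ℤ) X (GLn.X i j)) := by
  intro i j hij
  rw [Matrix.add_apply, Matrix.of_apply, XW_X, if_neg, add_zero]
  · exact hM i j hij
  · push_cast
    omega

theorem hat_add (M : Matrix (Fin n) (Fin n) k) (m : ℕ) (X : GLn n k →ₗ[k] k) (i j : Fin n) :
    hat r (M + Matrix.of fun i j => XW (GLn.diag n k r) ((m + 1 : ℕ) : ℤ) X (GLn.X i j)) i j =
      hat r M i j + Polynomial.monomial (m + 1) (XW (GLn.diag n k r) ((m + 1 : ℕ) : ℤ) X (GLn.X i j)) := by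
  rw [hat, hat, Matrix.add_apply, Matrix.of_apply, map_add, add_mul]
  congr 1
  rw [XW_X]
  split_ifs with h
  · rw [h, Int.toNat_natCast, Polynomial.C_mul_X_pow_eq_monomial]
  · rw [map_zero, zero_mul, map_zero]

theorem gam_coeff_zero {M : Matrix (Fin n) (Fin n) k} (hM : IsU r M) (b : GLn n k) :
    ((gam hM).hom b).coeff 0 = (1 : Pt k (GLn n k) k).hom b := by
  have h1 := congrArg (fun g : Pt k (GLn n k) k => g.hom b) (bc_aeval_gam hM)
  have h2 : Polynomial.aeval (0 : k) ((gam hM).hom b) = (1 : Pt k (GLn n k) k).hom b := h1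
  rw [← h2, Polynomial.coe_aeval_eq_eval, Polynomial.coeff_zero_eq_eval_zero]

/-- The point attached to the modified matrix, up to higher order. -/
theorem gam_add {M : Matrix (Fin n) (Fin n) k} (hM : IsU r M) (m : ℕ) (X : GLn n k →ₗ[k] k)
    (hX : ∀ a b, X (a * b) = (1 : Pt k (GLn n k) k).hom a * X b + X a * (1 : Pt k (GLn n k) k).hom b) (b : GLn n k) :
    Polynomial.X ^ (m + 2) ∣ (gam (isU_add hM m X)).hom b -
      ((gam hM).hom b + Polynomial.monomial (m + 1) (XW (GLn.diag n k r) ((m + 1 : ℕ) : ℤ) X b)) := by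
  let I : Ideal (Polynomial k) := Ideal.span {Polynomial.X ^ (m + 2)}
  let q : Polynomial k →ₐ[k] Polynomial k ⧸ I := Ideal.Quotient.mkₐ k I
  let X' : GLn n k →ₗ[k] k := XW (GLn.diag n k r) ((m + 1 : ℕ) : ℤ) X
  have hX' : ∀ a b, X' (a * b) = (1 : Pt k (GLn n k) k).hom a * X' b + X' a * (1 : Pt k (GLn n k) k).hom b :=
    XW_mul _ _ X hX
  have hX'1 : X' 1 = 0 := by
    have h1 := hX' 1 1
    have h2 : (1 : Pt k (GLn n k) k).hom (1 : GLn n k) = 1 := map_one _
    rw [mul_one, h2, one_mul, mul_one] at h1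
    exact left_eq_add.mp h1
  have hgam : ∀ a : GLn n k, ∃ c : Polynomial k, (gam hM).hom a =
      Polynomial.C ((1 : Pt k (GLn n k) k).hom a) + Polynomial.X * c := by
    intro a
    have h1 : Polynomial.X ∣ (gam hM).hom a - Polynomial.C ((1 : Pt k (GLn n k) k).hom a) := by
      rw [Polynomial.X_dvd_iff, Polynomial.coeff_sub, gam_coeff_zero, Polynomial.coeff_C_zero, sub_self]
    obtain ⟨c, hc⟩ := h1
    exact ⟨c, by rw [← hc]; ring⟩
  let ψ : GLn n k →ₐ[k] Polynomial k ⧸ I := AlgHom.ofLinearMap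
    (q.toLinearMap ∘ₗ ((gam hM).hom.toLinearMap + (Polynomial.monomial (m + 1)) ∘ₗ X'))
    (by
      change q ((gam hM).hom 1 + Polynomial.monomial (m + 1) (X' 1)) = 1
      rw [hX'1, map_zero, add_zero, map_one, map_one])
    (by
      intro a b
      change q ((gam hM).hom (a * b) + Polynomial.monomial (m + 1) (X' (a * b))) =
        q ((gam hM).hom a + Polynomial.monomial (m + 1) (X' a)) *
        q ((gam hM).hom b + Polynomial.monomial (m + 1) (X' b))
      rw [← map_mul]
      refine Ideal.Quotient.eq.mpr ?_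
      rw [Ideal.mem_span_singleton, hX', map_mul]
      obtain ⟨ca, hca⟩ := hgam a
      obtain ⟨cb, hcb⟩ := hgam b
      rw [hca, hcb, ← Polynomial.C_mul_X_pow_eq_monomial, ← Polynomial.C_mul_X_pow_eq_monomial,
        ← Polynomial.C_mul_X_pow_eq_monomial, map_add, map_mul, map_mul]
      refine ⟨-(ca * Polynomial.C (X' b)) - cb * Polynomial.C (X' a) -
        Polynomial.X ^ m * Polynomial.C (X' a) * Polynomial.C (X' b), ?_⟩
      ring)
  have h1 : (Pt.mk (q.comp (gam (isU_add hM m X)).hom) : Pt k (GLn n k) (Polynomial k ⧸ I)) = Pt.mk ψ := by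
    apply GLn_pt_ext
    intro i j
    change q ((gam (isU_add hM m X)).hom (GLn.X i j)) =
      q ((gam hM).hom (GLn.X i j) + Polynomial.monomial (m + 1) (X' (GLn.X i j)))
    rw [gam, gam, GLn_pt_X, GLn_pt_X, hat_add]
  have h2 : q ((gam (isU_add hM m X)).hom b) = q ((gam hM).hom b + Polynomial.monomial (m + 1) (X' b)) :=
    congrArg (fun g : Pt k (GLn n k) (Polynomial k ⧸ I) => g.hom b) h1
  exact Ideal.mem_span_singleton.mp (Ideal.Quotient.eq.mp h2)

theorem coeff_gam_add {M : Matrix (Fin n) (Fin n) k} (hM : IsU r M) (m : ℕ) (X : GLn n k →ₗ[k] k)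
    (hX : ∀ a b, X (a * b) = (1 : Pt k (GLn n k) k).hom a * X b + X a * (1 : Pt k (GLn n k) k).hom b) (b : GLn n k)
    (j : ℕ) (hj : j < m + 2) :
    ((gam (isU_add hM m X)).hom b).coeff j = ((gam hM).hom b).coeff j +
      if j = m + 1 then XW (GLn.diag n k r) ((m + 1 : ℕ) : ℤ) X b else 0 := by
  have h1 := Polynomial.X_pow_dvd_iff.mp (gam_add hM m X hX b) j hj
  rw [Polynomial.coeff_sub, sub_eq_zero, Polynomial.coeff_add, Polynomial.coeff_monomial] at h1
  rw [h1]
  congr 1
  simp only [eq_comm]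

end Step

section Main

variable {k : Type u} [Field k] {n : ℕ} {r : Fin n → ℤ} {A : Type u} [CommRing A] [HopfAlgebra k A]
  {π : GLn n k →ₐc[k] A}

/-- The orbit in `G \ H` of the modified point. -/
theorem toLaurent_gam (h : Pt k (GLn n k) k)
    (hfix : Agree π (Pt.bc (Algebra.ofId k k[T;T⁻¹]) h * lamPt (GLn.diag n k r)) (Pt.bc (Algebra.ofId k k[T;T⁻¹]) h))
    {M : Matrix (Fin n) (Fin n) k} (hM : IsU r M) (f : linv π) :
    Polynomial.toLaurent ((gam hM).hom (ltrA h (f : GLn n k))) =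
      (Pt.bc (Algebra.ofId k k[T;T⁻¹]) (h * uPt hM) * lamPt (GLn.diag n k r)).hom (f : GLn n k) := by
  rw [ltrA_apply]
  have h1 : Polynomial.toLaurentAlg (R := k) ((Pt.bc (Algebra.ofId k (Polynomial k)) h * gam hM).hom (f : GLn n k)) =
      (Pt.bc (Algebra.ofId k k[T;T⁻¹]) h * Pt.bc (Polynomial.toLaurentAlg (R := k)) (gam hM)).hom (f : GLn n k) := by
    rw [← bc_ofId (Polynomial.toLaurentAlg (R := k)), ← map_mul]
    rfl
  refine h1.trans ?_
  have h2 : Pt.bc (Polynomial.toLaurentAlg (R := k)) (gam hM) = (lamPt (GLn.diag n k r))⁻¹ *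
      (Pt.bc (Algebra.ofId k k[T;T⁻¹]) (uPt hM) * lamPt (GLn.diag n k r)) := by
    rw [← lamPt_mul_gam hM, inv_mul_cancel_left]
  rw [h2]
  have h3 := hfix.mul_right ((lamPt (GLn.diag n k r))⁻¹ *
      (Pt.bc (Algebra.ofId k k[T;T⁻¹]) (uPt hM) * lamPt (GLn.diag n k r)))
  rw [mul_assoc, mul_inv_cancel_left] at h3
  rw [← h3 (f : GLn n k) f.2, map_mul, mul_assoc]

variable (a h : Pt k (GLn n k) k) (P : linv π →ₐ[k] Polynomial k)

/-- Agreement up to order `N`. -/
def Good (N : ℕ) {M : Matrix (Fin n) (Fin n) k} (hM : IsU r M) : Prop :=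
  ∀ (f : linv π) (j : ℕ), j < N → (P f).coeff j = ((gam hM).hom (ltrA h (f : GLn n k))).coeff j

variable [IsAlgClosed k] [CharZero k]

theorem good_step (hP : ∀ f : linv π, Polynomial.toLaurent (P f) =
      (Pt.bc (Algebra.ofId k k[T;T⁻¹]) a * lamPt (GLn.diag n k r)).hom (f : GLn n k))
    (hh : ∀ f : linv π, h.hom (f : GLn n k) = Polynomial.aeval 0 (P f)) (m : ℕ)
    {M : Matrix (Fin n) (Fin n) k} (hM : IsU r M) (hgood : Good h P (m + 1) hM) :
    ∃ (M' : Matrix (Fin n) (Fin n) k) (hM' : IsU r M'), Good h P (m + 2) hM' ∧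
      ((∀ i j, r j - r i ≠ ((m + 1 : ℕ) : ℤ)) → M' = M) := by
  have hfix := agree_of_limit π (GLn.diag n k r) a h P hP hh
  have hPc : ∀ (f : linv π) (j : ℕ), (P f).coeff j = a.hom (wt (GLn.diag n k r) (j : ℤ) f : linv π) := by
    intro f j
    rw [← coeff_mul_lamPt, ← hP, coeff_toLaurent_nat]
  have hQc : ∀ (f : linv π) (j : ℕ), ((gam hM).hom (ltrA h (f : GLn n k))).coeff j =
      (h * uPt hM).hom (wt (GLn.diag n k r) (j : ℤ) f : linv π) := by
    intro f j
    rw [← coeff_mul_lamPt, ← toLaurent_gam h hfix hM, coeff_toLaurent_nat]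
  have hP0 : ∀ f : linv π, (P f).coeff 0 = h.hom (f : GLn n k) := by
    intro f
    rw [hh, Polynomial.coe_aeval_eq_eval, Polynomial.coeff_zero_eq_eval_zero]
  have hQ0 : ∀ f : linv π, ((gam hM).hom (ltrA h (f : GLn n k))).coeff 0 = h.hom (f : GLn n k) := by
    intro f
    rw [gam_coeff_zero, ltrA_apply, bc_self, mul_one]
  -- the difference is a tangent vector
  let D : linv π →ₗ[k] k := Polynomial.lcoeff k (m + 1) ∘ₗ (P.toLinearMap -
    ((gam hM).hom.comp ((ltrA h).comp (linv π).val)).toLinearMap)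
  have hDapp : ∀ f : linv π, D f = (P f).coeff (m + 1) - ((gam hM).hom (ltrA h (f : GLn n k))).coeff (m + 1) := by
    intro f
    change (P f - (gam hM).hom (ltrA h (f : GLn n k))).coeff (m + 1) = _
    rw [Polynomial.coeff_sub]
  have hdvd : ∀ f : linv π, ∃ c : Polynomial k, P f - (gam hM).hom (ltrA h (f : GLn n k)) =
      Polynomial.X ^ (m + 1) * c ∧ c.coeff 0 = D f := by
    intro f
    have h1 : Polynomial.X ^ (m + 1) ∣ P f - (gam hM).hom (ltrA h (f : GLn n k)) := by
      rw [Polynomial.X_pow_dvd_iff]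
      intro j hj
      rw [Polynomial.coeff_sub, hgood f j hj, sub_self]
    obtain ⟨c, hc⟩ := h1
    refine ⟨c, hc, ?_⟩
    have h2 : D f = (Polynomial.X ^ (m + 1) * c).coeff (m + 1) := by
      rw [← hc]
      rfl
    rw [h2]
    have h3 := Polynomial.coeff_X_pow_mul c (m + 1) 0
    rw [zero_add] at h3
    exact h3.symm
  have hD : ∀ f f' : linv π, D (f * f') = h.hom (f : GLn n k) * D f' + D f * h.hom (f' : GLn n k) := by
    intro f f'
    obtain ⟨c, hc, hc0⟩ := hdvd f
    obtain ⟨c', hc', hc0'⟩ := hdvd f'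
    have h1 : D (f * f') = (P (f * f') - (gam hM).hom (ltrA h ((f * f' : linv π) : GLn n k))).coeff (m + 1) := rfl
    have h2 : P (f * f') - (gam hM).hom (ltrA h ((f * f' : linv π) : GLn n k)) =
        Polynomial.X ^ (m + 1) * (P f * c' + c * (gam hM).hom (ltrA h (f' : GLn n k))) := by
      rw [map_mul]
      change P f * P f' - (gam hM).hom (ltrA h ((f : GLn n k) * (f' : GLn n k))) = _
      rw [map_mul, map_mul, mul_add, mul_left_comm, ← hc', ← mul_assoc, ← hc]
      ring
    rw [h1, h2]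
    have h3 := Polynomial.coeff_X_pow_mul (P f * c' + c * (gam hM).hom (ltrA h (f' : GLn n k))) (m + 1) 0
    rw [zero_add] at h3
    rw [h3, Polynomial.coeff_add, Polynomial.mul_coeff_zero, Polynomial.mul_coeff_zero, hP0, hQ0, hc0, hc0']
  have hDwt : ∀ f : linv π, D (wt (GLn.diag n k r) ((m + 1 : ℕ) : ℤ) f) = D f := by
    intro f
    rw [hDapp, hDapp, hPc, hQc, wt_wt, ← hPc, ← hQc]
  obtain ⟨X, hX, hXD⟩ := exists_tangent π h D hD
  refine ⟨_, isU_add hM m X, ?_, ?_⟩
  · intro f j hj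
    rw [coeff_gam_add hM m X hX _ j hj]
    rcases Nat.lt_succ_iff_lt_or_eq.mp hj with h1 | h1
    · rw [if_neg (by omega), add_zero]
      exact hgood f j h1
    · rw [if_pos h1, XW_ltrA (π := π) _ _ X h hfix f, hXD, hDwt, hDapp, h1]
      ring
  · intro hr
    apply Matrix.ext
    intro i j
    rw [Matrix.add_apply, Matrix.of_apply, XW_X, if_neg (hr i j), add_zero]

/-- If the image of `a` in `G \ GL_n` has the limit `h` along `λ = diag(t^r)`, then it is the image of `h · w` with `w`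
in the unipotent group contracted by `λ`. -/
theorem exists_agree_mul_uPt (hP : ∀ f : linv π, Polynomial.toLaurent (P f) =
      (Pt.bc (Algebra.ofId k k[T;T⁻¹]) a * lamPt (GLn.diag n k r)).hom (f : GLn n k))
    (hh : ∀ f : linv π, h.hom (f : GLn n k) = Polynomial.aeval 0 (P f)) :
    ∃ (M : Matrix (Fin n) (Fin n) k) (hM : IsU r M), Agree π (h * uPt hM) a := by
  have hfix := agree_of_limit π (GLn.diag n k r) a h P hP hh
  have hP0 : ∀ f : linv π, (P f).coeff 0 = h.hom (f : GLn n k) := by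
    intro f
    rw [hh, Polynomial.coe_aeval_eq_eval, Polynomial.coeff_zero_eq_eval_zero]
  have h1 : ∀ N : ℕ, ∃ (M : Matrix (Fin n) (Fin n) k) (hM : IsU r M), Good h P (N + 1) hM := by
    intro N
    induction N with
    | zero =>
      refine ⟨1, isU_one r, ?_⟩
      intro f j hj
      obtain rfl : j = 0 := by omega
      rw [hP0, gam_coeff_zero, ltrA_apply, bc_self, mul_one]
    | succ N ih =>
      obtain ⟨M, hM, hgood⟩ := ih
      obtain ⟨M', hM', h2, _⟩ := good_step a h P hP hh N hM hgood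
      exact ⟨M', hM', h2⟩
  -- a bound for the weights
  obtain ⟨N0, hN0⟩ : ∃ N0 : ℕ, ∀ i j, r j - r i < (N0 : ℤ) := by
    refine ⟨(∑ i, ∑ j, (r j - r i).natAbs) + 1, fun i j => ?_⟩
    have h2 : (r j - r i).natAbs ≤ ∑ j, (r j - r i).natAbs :=
      Finset.single_le_sum (f := fun j => (r j - r i).natAbs) (fun _ _ => Nat.zero_le _) (Finset.mem_univ j)
    have h3 : (∑ j, (r j - r i).natAbs) ≤ ∑ i, ∑ j, (r j - r i).natAbs :=
      Finset.single_le_sum (f := fun i => ∑ j, (r j - r i).natAbs) (fun _ _ => Nat.zero_le _) (Finset.mem_univ i)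
    generalize (∑ i, ∑ j, (r j - r i).natAbs) = S at h3 ⊢
    omega
  obtain ⟨M, hM, hgood⟩ := h1 N0
  have h2 : ∀ N : ℕ, Good h P (N0 + N + 1) hM := by
    intro N
    induction N with
    | zero => exact hgood
    | succ N ih =>
      obtain ⟨M', hM', h3, h4⟩ := good_step a h P hP hh (N0 + N) hM ih
      have h5 : M' = M := h4 (fun i j => by
        have := hN0 i j
        push_cast
        omega)
      subst h5
      exact h3
  have h3 : ∀ f : linv π, P f = (gam hM).hom (ltrA h (f : GLn n k)) := by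
    intro f
    ext j
    exact h2 j f j (by omega)
  refine ⟨M, hM, ?_⟩
  intro f hf
  -- compare at `T = 1`
  have h4 := toLaurent_gam h hfix hM ⟨f, hf⟩
  rw [← h3, hP] at h4
  have h5 := congrArg (Bialgebra.counitAlgHom k k[T;T⁻¹]) h4
  have h6 : ∀ p : Pt k (GLn n k) k, Bialgebra.counitAlgHom k k[T;T⁻¹]
      ((Pt.bc (Algebra.ofId k k[T;T⁻¹]) p * lamPt (GLn.diag n k r)).hom f) = p.hom f := by
    intro p
    have h7 : Pt.bc (Bialgebra.counitAlgHom k k[T;T⁻¹])
        (Pt.bc (Algebra.ofId k k[T;T⁻¹]) p * lamPt (GLn.diag n k r)) = p := by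
      rw [map_mul, bc_counit_lamPt, mul_one, bc_ofId, bc_self]
    exact congrArg (fun g : Pt k (GLn n k) k => g.hom f) h7
  rw [h6, h6] at h5
  exact h5.symm

end Main

end K687
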