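import Groth.Agent.GIT.K687.Wt

/-!
# Limits along one-parameter subgroups and conjugation
-/

set_option autoImplicit false
set_option linter.unusedSectionVars false

universe u v w w' w''

open TensorProduct LaurentPolynomial

namespace K687

section Bi

variable {k : Type u} [CommRing k] {A : Type v} [CommRing A] [Bialgebra k A]
  {R : Type w} [CommRing R] [Algebra k R] [HopfRep.Comod k A R] [GLin.IsCoactAlg k A R]
  {C : Type w'} [CommRing C] [Algebra k C] {D : Type w''} [CommRing D] [Algebra k D]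

/-- Base change of rational points of `Spec R`. -/
theorem ofId_comp (φ : C →ₐ[k] D) (x : R →ₐ[k] k) :
    φ.comp ((Algebra.ofId k C).comp x) = (Algebra.ofId k D).comp x := by
  apply AlgHom.ext
  intro f
  exact φ.commutes _

theorem ofId_self_comp (x : R →ₐ[k] k) : (Algebra.ofId k k).comp x = x := by
  apply AlgHom.ext
  intro f
  rfl

theorem bc_bc {E : Type*} [CommRing E] [Algebra k E] (φ : C →ₐ[k] D) (ψ : D →ₐ[k] E) (g : Pt k A C) :
    Pt.bc ψ (Pt.bc φ g) = Pt.bc (ψ.comp φ) g := rfl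

theorem bc_ofId (φ : C →ₐ[k] D) (g : Pt k A k) :
    Pt.bc φ (Pt.bc (Algebra.ofId k C) g) = Pt.bc (Algebra.ofId k D) g := by
  apply Pt.ext
  intro a
  exact φ.commutes _

theorem bc_self (φ : k →ₐ[k] k) (g : Pt k A k) : Pt.bc φ g = g := by
  apply Pt.ext
  intro a
  exact φ.commutes _

/-- The tautological point of a one-parameter subgroup. -/
noncomputable def lamPt (lam : A →ₐc[k] k[T;T⁻¹]) : Pt k A k[T;T⁻¹] := Pt.mk (lam : A →ₐ[k] k[T;T⁻¹])

theorem lamOrbit_eq (lam : A →ₐc[k] k[T;T⁻¹]) (x : R →ₐ[k] k) :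
    GLin.lamOrbit k A lam x = mv ((Algebra.ofId k _).comp x) (lamPt lam) :=
  comp_orbitHom x (lamPt lam)

theorem bc_counit_lamPt (lam : A →ₐc[k] k[T;T⁻¹]) :
    Pt.bc (Bialgebra.counitAlgHom k k[T;T⁻¹]) (lamPt lam) = 1 := by
  apply Pt.ext
  intro a
  exact CoalgHomClass.counit_comp_apply lam a

theorem bc_comul_lamPt (lam : A →ₐc[k] k[T;T⁻¹]) :
    Pt.bc (Bialgebra.comulAlgHom k k[T;T⁻¹]) (lamPt lam) =
      Pt.bc (Algebra.TensorProduct.includeLeft : k[T;T⁻¹] →ₐ[k] k[T;T⁻¹] ⊗[k] k[T;T⁻¹]) (lamPt lam) *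
      Pt.bc (Algebra.TensorProduct.includeRight : k[T;T⁻¹] →ₐ[k] k[T;T⁻¹] ⊗[k] k[T;T⁻¹]) (lamPt lam) := by
  apply Pt.ext
  intro a
  have h1 : CoalgebraStruct.comul (R := k) (lam a) =
      TensorProduct.map (lam : A →ₗ[k] k[T;T⁻¹]) (lam : A →ₗ[k] k[T;T⁻¹])
        (CoalgebraStruct.comul (R := k) a) :=
    (CoalgHomClass.map_comp_comul_apply lam a).symm
  rw [Pt.mul_apply]
  change CoalgebraStruct.comul (R := k) (lam a) = _
  rw [h1]
  induction CoalgebraStruct.comul (R := k) a using TensorProduct.induction_on with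
  | zero => simp
  | tmul x y =>
    rw [TensorProduct.map_tmul, Algebra.TensorProduct.lift_tmul]
    change _ = (lam x ⊗ₜ[k] 1) * (1 ⊗ₜ[k] lam y)
    rw [Algebra.TensorProduct.tmul_mul_tmul, mul_one, one_mul]
    rfl
  | add x y hx hy => rw [map_add, map_add, hx, hy]

/-- A `k[T;T⁻¹]`-point which is multiplicative in `T` is a one-parameter subgroup. -/
noncomputable def mkLam (μ : Pt k A k[T;T⁻¹])
    (h1 : Pt.bc (Bialgebra.counitAlgHom k k[T;T⁻¹]) μ = 1)
    (h2 : Pt.bc (Bialgebra.comulAlgHom k k[T;T⁻¹]) μ =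
      Pt.bc (Algebra.TensorProduct.includeLeft : k[T;T⁻¹] →ₐ[k] k[T;T⁻¹] ⊗[k] k[T;T⁻¹]) μ *
      Pt.bc (Algebra.TensorProduct.includeRight : k[T;T⁻¹] →ₐ[k] k[T;T⁻¹] ⊗[k] k[T;T⁻¹]) μ) :
    A →ₐc[k] k[T;T⁻¹] :=
  BialgHom.ofAlgHom μ.hom
    (by
      apply AlgHom.ext
      intro a
      exact congrArg (fun g : Pt k A k => g.hom a) h1)
    (by
      apply AlgHom.ext
      intro a
      have h3 := congrArg (fun g : Pt k A _ => g.hom a) h2
      refine Eq.trans ?_ h3.symm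
      change Algebra.TensorProduct.map μ.hom μ.hom (CoalgebraStruct.comul (R := k) a) =
        Pt.hom (Pt.bc (Algebra.TensorProduct.includeLeft : k[T;T⁻¹] →ₐ[k] k[T;T⁻¹] ⊗[k] k[T;T⁻¹]) μ *
          Pt.bc (Algebra.TensorProduct.includeRight : k[T;T⁻¹] →ₐ[k] k[T;T⁻¹] ⊗[k] k[T;T⁻¹]) μ) a
      rw [Pt.mul_apply]
      induction CoalgebraStruct.comul (R := k) a using TensorProduct.induction_on with
      | zero => simp
      | tmul x y =>
        rw [Algebra.TensorProduct.map_tmul, Algebra.TensorProduct.lift_tmul]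
        change _ = (μ.hom x ⊗ₜ[k] 1) * (1 ⊗ₜ[k] μ.hom y)
        rw [Algebra.TensorProduct.tmul_mul_tmul, mul_one, one_mul]
      | add x y hx hy => rw [map_add, map_add, hx, hy])

theorem lamPt_mkLam (μ : Pt k A k[T;T⁻¹]) (h1) (h2) : lamPt (mkLam μ h1 h2) = μ := by
  apply Pt.ext
  intro a
  rfl

theorem lam_ext {lam lam' : A →ₐc[k] k[T;T⁻¹]} (h : lamPt lam = lamPt lam') : lam = lam' := by
  apply DFunLike.ext
  intro a
  exact congrArg (fun g : Pt k A _ => g.hom a) h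

/-- If the orbit has no negative coefficients, the limit exists and is the weight-zero component. -/
theorem exists_limit_of_coeff (lam : A →ₐc[k] k[T;T⁻¹]) (p : R →ₐ[k] k)
    (hp : ∀ f : R, ∀ j : ℤ, j < 0 → p (wt lam j f) = 0) :
    ∃ y : R →ₐ[k] k, GLin.IsLimit k A lam p y ∧ ∀ f, y f = p (wt lam 0 f) := by
  have h1 : ∀ f : R, GLin.lamOrbit k A lam p f ∈ (Polynomial.toLaurentAlg (R := k)).range := by
    intro f
    obtain ⟨q, hq⟩ := exists_toLaurent_eq (GLin.lamOrbit k A lam p f) (fun n hn => by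
      rw [coeff_lamOrbit]
      exact hp f n hn)
    exact ⟨q, hq⟩
  let e := AlgEquiv.ofInjective (Polynomial.toLaurentAlg (R := k)) Polynomial.toLaurent_injective
  let h : R →ₐ[k] Polynomial k := (e.symm : _ →ₐ[k] Polynomial k).comp
    ((GLin.lamOrbit k A lam p).codRestrict _ h1)
  have hh : (Polynomial.toLaurentAlg (R := k)).comp h = GLin.lamOrbit k A lam p := by
    apply AlgHom.ext
    intro f
    have h2 : e (e.symm (⟨GLin.lamOrbit k A lam p f, h1 f⟩)) = ⟨GLin.lamOrbit k A lam p f, h1 f⟩ :=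
      e.apply_symm_apply _
    exact congrArg Subtype.val h2
  refine ⟨(Polynomial.aeval (0 : k)).comp h, ⟨h, hh, rfl⟩, fun f => ?_⟩
  rw [AlgHom.comp_apply, aeval_zero_eq_coeff, ← coeff_lamOrbit, ← hh]
  rfl

/-- Coefficients of the orbit of a point having a limit. -/
theorem wt_of_isLimit {lam : A →ₐc[k] k[T;T⁻¹]} {p y : R →ₐ[k] k} (h : GLin.IsLimit k A lam p y) :
    (∀ f : R, ∀ j : ℤ, j < 0 → p (wt lam j f) = 0) ∧ ∀ f, y f = p (wt lam 0 f) := by
  obtain ⟨q, hq, rfl⟩ := h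
  refine ⟨fun f j hj => ?_, fun f => ?_⟩
  · rw [← coeff_lamOrbit, ← hq]
    exact coeff_toLaurent_neg (q f) j hj
  · rw [← coeff_lamOrbit, ← hq, AlgHom.comp_apply, aeval_zero_eq_coeff]
    rfl

end Bi

section Hopf

variable {k : Type u} [CommRing k] {A : Type v} [CommRing A] [HopfAlgebra k A]
  {R : Type w} [CommRing R] [Algebra k R] [HopfRep.Comod k A R] [GLin.IsCoactAlg k A R]

/-- The conjugate `a λ a⁻¹` of a one-parameter subgroup by a rational point. -/
noncomputable def conj (a : Pt k A k) (lam : A →ₐc[k] k[T;T⁻¹]) : A →ₐc[k] k[T;T⁻¹] :=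
  mkLam (Pt.bc (Algebra.ofId k _) a * lamPt lam * (Pt.bc (Algebra.ofId k _) a)⁻¹)
    (by
      rw [map_mul, map_mul, map_inv, bc_counit_lamPt, bc_ofId]
      group)
    (by
      rw [map_mul, map_mul, map_inv, bc_comul_lamPt, bc_ofId, map_mul, map_mul, map_inv, map_mul, map_mul,
        map_inv, bc_ofId, bc_ofId]
      group)

theorem lamPt_conj (a : Pt k A k) (lam : A →ₐc[k] k[T;T⁻¹]) :
    lamPt (conj a lam) = Pt.bc (Algebra.ofId k _) a * lamPt lam * (Pt.bc (Algebra.ofId k _) a)⁻¹ :=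
  lamPt_mkLam _ _ _

theorem conj_conj (a b : Pt k A k) (lam : A →ₐc[k] k[T;T⁻¹]) : conj a (conj b lam) = conj (a * b) lam := by
  apply lam_ext
  rw [lamPt_conj, lamPt_conj, lamPt_conj, map_mul]
  group

theorem conj_one (lam : A →ₐc[k] k[T;T⁻¹]) : conj 1 lam = lam := by
  apply lam_ext
  rw [lamPt_conj, map_one]
  group

/-- Limits and conjugation. -/
theorem isLimit_conj {lam : A →ₐc[k] k[T;T⁻¹]} {p y : R →ₐ[k] k} (h : GLin.IsLimit k A lam p y)
    (a : Pt k A k) : GLin.IsLimit k A (conj a lam) (mv p a⁻¹) (mv y a⁻¹) := by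
  obtain ⟨q, hq, rfl⟩ := h
  refine ⟨mv q (Pt.bc (Algebra.ofId k _) a⁻¹), ?_, ?_⟩
  · rw [comp_mv, hq, lamOrbit_eq, lamOrbit_eq, lamPt_conj, bc_ofId]
    have h1 : (Algebra.ofId k k[T;T⁻¹]).comp (mv p a⁻¹) =
        mv ((Algebra.ofId k k[T;T⁻¹]).comp p) (Pt.bc (Algebra.ofId k _) a⁻¹) := comp_mv _ _ _
    rw [h1, mv_mul, mv_mul, map_inv]
    congr 1
    group
  · rw [comp_mv, bc_ofId, bc_self]

end Hopf

end K687
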