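import Groth.Prelude.Def_GLin
import Mathlib.Tactic

/-!
# The numerical function of a vector along a one-parameter subgroup, in terms of coefficients
-/

set_option autoImplicit false
set_option linter.unusedSectionVars false

universe u v w

open TensorProduct LaurentPolynomial

namespace K687

section Laurent

variable {k : Type u} [CommRing k]

theorem coeff_toLaurent_nat (q : Polynomial k) (n : ℕ) :
    (Polynomial.toLaurent q).coeff (n : ℤ) = q.coeff n := by
  rw [LaurentPolynomial.coeff_toLaurent]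
  have h := Finsupp.mapDomain_apply (f := (Nat.castEmbedding : ℕ ↪ ℤ)) Nat.castEmbedding.injective
    q.toFinsupp.coeff n
  exact h

theorem coeff_toLaurent_neg (q : Polynomial k) (n : ℤ) (hn : n < 0) :
    (Polynomial.toLaurent q).coeff n = 0 := by
  rw [LaurentPolynomial.coeff_toLaurent]
  apply Finsupp.mapDomain_of_notMem_range
  rintro ⟨m, hm⟩
  have : (m : ℤ) = n := hm
  omega

/-- A Laurent polynomial without negative coefficients is a polynomial. -/
theorem exists_toLaurent_eq (p : k[T;T⁻¹]) (hp : ∀ n : ℤ, n < 0 → p.coeff n = 0) :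
    ∃ q : Polynomial k, Polynomial.toLaurent q = p := by
  refine ⟨LaurentPolynomial.trunc p, ?_⟩
  ext n
  rcases lt_or_ge n 0 with hn | hn
  · rw [coeff_toLaurent_neg _ _ hn, hp n hn]
  · obtain ⟨m, rfl⟩ := Int.eq_ofNat_of_zero_le hn
    rw [coeff_toLaurent_nat]
    clear hp hn
    induction p using LaurentPolynomial.induction_on' with
    | add p q hp hq =>
      rw [map_add, Polynomial.coeff_add, hp, hq]
      rfl
    | C_mul_T j a =>
      rw [LaurentPolynomial.trunc_C_mul_T, ← LaurentPolynomial.single_eq_C_mul_T]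
      rw [AddMonoidAlgebra.coeff_single, Finsupp.single_apply]
      split_ifs with h1 h2 h2
      · rw [Polynomial.coeff_monomial, if_pos (by omega)]
      · rw [Polynomial.coeff_monomial, if_neg (by omega)]
      · omega
      · rfl

theorem exists_toLaurent_iff (p : k[T;T⁻¹]) :
    (∃ q : Polynomial k, Polynomial.toLaurent q = p) ↔ ∀ n : ℤ, n < 0 → p.coeff n = 0 := by
  constructor
  · rintro ⟨q, rfl⟩ n hn
    exact coeff_toLaurent_neg q n hn
  · exact exists_toLaurent_eq p

theorem aeval_zero_eq_coeff (q : Polynomial k) :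
    Polynomial.aeval (0 : k) q = (Polynomial.toLaurent q).coeff 0 := by
  have := coeff_toLaurent_nat q 0
  rw [Nat.cast_zero] at this
  rw [this, Polynomial.coe_aeval_eq_eval, Polynomial.coeff_zero_eq_eval_zero]

theorem coeff_T_mul (m n : ℤ) (p : k[T;T⁻¹]) : (T m * p).coeff n = p.coeff (n - m) := by
  have h := AddMonoidAlgebra.coeff_single_mul_add (R := k) p (1 : k) m (n - m)
  rw [add_sub_cancel, one_mul] at h
  exact h

end Laurent

section Mu

variable {k : Type u} [Field k] {A : Type v} [CommRing A] [Bialgebra k A]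
  {ι : Type w} [Fintype ι] [HopfRep.Comod k A (MvPolynomial ι k)] [GLin.IsCoactAlg k A (MvPolynomial ι k)]

/-- The coordinates of the orbit of `v` under a one-parameter subgroup. -/
noncomputable def orbCoord (lam : A →ₐc[k] k[T;T⁻¹]) (v : ι → k) (i : ι) : k[T;T⁻¹] :=
  GLin.lamOrbit k A lam (GLin.vecPt k ι v) (MvPolynomial.X i)

theorem algHom_comp_toLaurent_iff (φ : MvPolynomial ι k →ₐ[k] k[T;T⁻¹])
    (P : (ι → k) → Prop) :
    (∃ h : MvPolynomial ι k →ₐ[k] Polynomial k, (Polynomial.toLaurentAlg (R := k)).comp h = φ ∧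
      P (fun i => Polynomial.aeval (0 : k) (h (MvPolynomial.X i)))) ↔
    (∀ i, ∀ n : ℤ, n < 0 → (φ (MvPolynomial.X i)).coeff n = 0) ∧
      P (fun i => (φ (MvPolynomial.X i)).coeff 0) := by
  constructor
  · rintro ⟨h, rfl, hP⟩
    refine ⟨fun i n hn => coeff_toLaurent_neg _ n hn, ?_⟩
    convert hP using 2 with i
    rw [aeval_zero_eq_coeff]
    rfl
  · rintro ⟨h1, h2⟩
    choose q hq using fun i => exists_toLaurent_eq (φ (MvPolynomial.X i)) (h1 i)
    refine ⟨MvPolynomial.aeval q, ?_, ?_⟩
    · apply MvPolynomial.algHom_ext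
      intro i
      simp [hq]
    · convert h2 using 2 with i
      rw [aeval_zero_eq_coeff, MvPolynomial.aeval_X, hq]

theorem hasLimit_iff (lam : A →ₐc[k] k[T;T⁻¹]) (v : ι → k) :
    GLin.HasLimit k A lam (GLin.vecPt k ι v) ↔
      ∀ i, ∀ n : ℤ, n < 0 → (orbCoord lam v i).coeff n = 0 := by
  have h := algHom_comp_toLaurent_iff (ι := ι) (GLin.lamOrbit k A lam (GLin.vecPt k ι v)) (fun _ => True)
  simp only [and_true] at h
  exact h

theorem isLimit_iff (lam : A →ₐc[k] k[T;T⁻¹]) (v w : ι → k) :
    GLin.IsLimit k A lam (GLin.vecPt k ι v) (GLin.vecPt k ι w) ↔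
      (∀ i, ∀ n : ℤ, n < 0 → (orbCoord lam v i).coeff n = 0) ∧
      ∀ i, (orbCoord lam v i).coeff 0 = w i := by
  have h := algHom_comp_toLaurent_iff (ι := ι) (GLin.lamOrbit k A lam (GLin.vecPt k ι v)) (fun u => ∀ i, u i = w i)
  refine Iff.trans ?_ h
  constructor
  · rintro ⟨g, h1, h2⟩
    refine ⟨g, h1, fun i => ?_⟩
    have := congrArg (fun φ => φ (MvPolynomial.X i)) h2
    simpa using this
  · rintro ⟨g, h1, h2⟩
    refine ⟨g, h1, ?_⟩
    apply MvPolynomial.algHom_ext
    intro i
    have := h2 i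
    simpa using this

theorem isMu_iff (lam : A →ₐc[k] k[T;T⁻¹]) (v : ι → k) (m : ℤ) :
    GLin.IsMu k A lam v m ↔
      (∀ i, ∀ n : ℤ, n < -m → (orbCoord lam v i).coeff n = 0) ∧
      ∃ i, (orbCoord lam v i).coeff (-m) ≠ 0 := by
  have h := algHom_comp_toLaurent_iff (ι := ι) (GLin.shiftedOrbit k A lam v m) (fun u => ∃ i, u i ≠ 0)
  have hX : ∀ i, ∀ n : ℤ, (GLin.shiftedOrbit k A lam v m (MvPolynomial.X i)).coeff n =
      (orbCoord lam v i).coeff (n - m) := by
    intro i n
    rw [GLin.shiftedOrbit, MvPolynomial.aeval_X, coeff_T_mul]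
    rfl
  simp only [hX] at h
  refine Iff.trans ?_ (h.trans ?_)
  · constructor
    · rintro ⟨g, h1, h2⟩
      refine ⟨g, h1, ?_⟩
      by_contra hcon
      push Not at hcon
      apply h2
      apply MvPolynomial.algHom_ext
      intro i
      have := hcon i
      simpa using this
    · rintro ⟨g, h1, i, h2⟩
      refine ⟨g, h1, ?_⟩
      intro hcon
      apply h2
      have := congrArg (fun φ => φ (MvPolynomial.X i)) hcon
      simpa using this
  · constructor
    · rintro ⟨h1, i, h2⟩
      refine ⟨fun i n hn => ?_, i, by simpa using h2⟩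
      have := h1 i (n + m) (by omega)
      simpa using this
    · rintro ⟨h1, i, h2⟩
      refine ⟨fun i n hn => h1 i (n - m) (by omega), i, by simpa using h2⟩

theorem counit_lam (lam : A →ₐc[k] k[T;T⁻¹]) (a : A) :
    CoalgebraStruct.counit (R := k) (lam a) = CoalgebraStruct.counit (R := k) a := by
  exact CoalgHomClass.counit_comp_apply lam a

theorem counit_orbitHom {R : Type w} [CommRing R] [Algebra k R] [HopfRep.Comod k A R]
    [GLin.IsCoactAlg k A R] (x : R →ₐ[k] k) (f : R) :
    CoalgebraStruct.counit (R := k) (GLin.orbitHom k A x f) = x f := by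
  have h := congrArg (fun φ => φ f) (HopfRep.Comod.counit_comp (k := k) (A := A) (V := R))
  simp only [LinearMap.comp_apply, LinearMap.flip_apply, TensorProduct.mk_apply] at h
  have key : ∀ t : R ⊗[k] A, CoalgebraStruct.counit (R := k)
      ((Algebra.TensorProduct.lid k A) (Algebra.TensorProduct.map x (AlgHom.id k A) t)) =
      (Algebra.TensorProduct.lid k k) (Algebra.TensorProduct.map x (AlgHom.id k k)
        (LinearMap.lTensor R (CoalgebraStruct.counit (R := k) (A := A)) t)) := by
    intro t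
    induction t using TensorProduct.induction_on with
    | zero => simp
    | tmul p a => simp
    | add x y hx hy => simp only [map_add, hx, hy]
  have h2 := key (HopfRep.Comod.coact (k := k) (A := A) f)
  rw [h] at h2
  refine Eq.trans ?_ (h2.trans ?_)
  · rfl
  · simp

/-- The orbit of `v` under a one-parameter subgroup passes through `v` at `T = 1`. -/
theorem counit_orbCoord (lam : A →ₐc[k] k[T;T⁻¹]) (v : ι → k) (i : ι) :
    CoalgebraStruct.counit (R := k) (orbCoord lam v i) = v i := by
  have h1 := counit_lam lam (GLin.orbitHom k A (GLin.vecPt k ι v) (MvPolynomial.X i))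
  rw [counit_orbitHom] at h1
  have h2 : GLin.vecPt k ι v (MvPolynomial.X i) = v i := by simp
  rw [h2] at h1
  exact h1

theorem exists_orbCoord_coeff_ne_zero (lam : A →ₐc[k] k[T;T⁻¹]) (v : ι → k) (hv : v ≠ 0) :
    ∃ i n, (orbCoord lam v i).coeff n ≠ 0 := by
  by_contra hcon
  push Not at hcon
  apply hv
  funext i
  have h0 : orbCoord lam v i = 0 := by
    ext n
    rw [hcon i n]
    rfl
  rw [← counit_orbCoord lam v i, h0, map_zero]
  rfl

theorem exists_isMu (lam : A →ₐc[k] k[T;T⁻¹]) (v : ι → k) (hv : v ≠ 0) :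
    ∃ m : ℤ, GLin.IsMu k A lam v m := by
  classical
  obtain ⟨i₀, n₀, h0⟩ := exists_orbCoord_coeff_ne_zero lam v hv
  let S : Finset ℤ := Finset.univ.biUnion fun i => (orbCoord lam v i).coeff.support
  have hS : S.Nonempty := ⟨n₀, Finset.mem_biUnion.mpr ⟨i₀, Finset.mem_univ _, Finsupp.mem_support_iff.mpr h0⟩⟩
  refine ⟨-(S.min' hS), ?_⟩
  rw [isMu_iff, neg_neg]
  constructor
  · intro i n hn
    by_contra hcon
    have hmem : n ∈ S := Finset.mem_biUnion.mpr ⟨i, Finset.mem_univ _, Finsupp.mem_support_iff.mpr hcon⟩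
    exact absurd (Finset.min'_le S n hmem) (not_le.mpr hn)
  · obtain ⟨i, _, hi⟩ := Finset.mem_biUnion.mp (Finset.min'_mem S hS)
    exact ⟨i, Finsupp.mem_support_iff.mp hi⟩

theorem isMu_unique (lam : A →ₐc[k] k[T;T⁻¹]) (v : ι → k) {m m' : ℤ}
    (h : GLin.IsMu k A lam v m) (h' : GLin.IsMu k A lam v m') : m = m' := by
  rw [isMu_iff] at h h'
  obtain ⟨h1, i, h2⟩ := h
  obtain ⟨h1', i', h2'⟩ := h'
  by_contra hne
  rcases lt_or_gt_of_ne hne with hlt | hlt
  · exact h2' (h1 i' (-m') (by omega))
  · exact h2 (h1' i (-m) (by omega))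

end Mu

end K687
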