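import Groth.Prelude.Def_GLin
import Mathlib.RingTheory.Bialgebra.Convolution
import Mathlib.RingTheory.HopfAlgebra.Convolution
import Mathlib.Tactic

/-!
# Points of an affine group with values in an algebra, and their action on points

`K687.Pt k A C`: the group of `C`-points of `Spec A` (algebra maps `A → C` with the convolution product).
`K687.mv p g`: the `C`-point `p` of `Spec R` moved by `g`.
-/

set_option autoImplicit false
set_option linter.unusedSectionVars false

universe u v w w' w''

open TensorProduct

namespace K687

section Pts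

/-- The `C`-points of the affine group `Spec A`. -/
def Pt (k : Type u) (A : Type v) (C : Type w') [CommRing k] [CommRing A] [Bialgebra k A]
    [CommRing C] [Algebra k C] := A →ₐ[k] C

variable {k : Type u} [CommRing k] {A : Type v} [CommRing A]
  {C : Type w'} [CommRing C] [Algebra k C] {D : Type w''} [CommRing D] [Algebra k D]

namespace Pt

section Bi
variable [Bialgebra k A]

/-- the underlying algebra map -/
def hom (g : Pt k A C) : A →ₐ[k] C := g

/-- the point given by an algebra map -/
def mk (g : A →ₐ[k] C) : Pt k A C := g

@[simp] theorem hom_mk (g : A →ₐ[k] C) : (mk g).hom = g := rfl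
@[simp] theorem mk_hom (g : Pt k A C) : mk g.hom = g := rfl

theorem ext {g h : Pt k A C} (e : ∀ a, g.hom a = h.hom a) : g = h := AlgHom.ext e

noncomputable instance : One (Pt k A C) := ⟨(Algebra.ofId k C).comp (Bialgebra.counitAlgHom k A)⟩
noncomputable instance : Mul (Pt k A C) :=
  ⟨fun g h => (Algebra.TensorProduct.lift g.hom h.hom (fun _ _ => Commute.all _ _)).comp
    (Bialgebra.comulAlgHom k A)⟩

theorem one_apply (a : A) : (1 : Pt k A C).hom a = algebraMap k C (CoalgebraStruct.counit (R := k) a) := rfl
theorem mul_apply (g h : Pt k A C) (a : A) : (g * h).hom a =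
    Algebra.TensorProduct.lift g.hom h.hom (fun _ _ => Commute.all _ _)
      (CoalgebraStruct.comul (R := k) a) := rfl

/-- comparison with Mathlib's convolution monoid -/
noncomputable def toWC (g : Pt k A C) : WithConv (A →ₐ[k] C) := WithConv.toConv g

theorem toWC_injective : Function.Injective (toWC : Pt k A C → WithConv (A →ₐ[k] C)) := by
  intro g h e
  exact congrArg WithConv.ofConv e

theorem toWC_mul (g h : Pt k A C) : (g * h).toWC = g.toWC * h.toWC := by
  apply WithConv.ofConv_injective
  apply AlgHom.ext
  intro a
  exact (AlgHom.convMul_apply g.toWC h.toWC a).symm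

theorem toWC_one : (1 : Pt k A C).toWC = 1 := by
  apply WithConv.ofConv_injective
  apply AlgHom.ext
  intro a
  exact (AlgHom.convOne_apply a).symm

noncomputable instance : Monoid (Pt k A C) where
  mul_assoc a b c := toWC_injective (by rw [toWC_mul, toWC_mul, toWC_mul, toWC_mul, mul_assoc])
  one_mul a := toWC_injective (by rw [toWC_mul, toWC_one, one_mul])
  mul_one a := toWC_injective (by rw [toWC_mul, toWC_one, mul_one])

/-- base change of points -/
noncomputable def bc (φ : C →ₐ[k] D) : Pt k A C →* Pt k A D where
  toFun g := mk (φ.comp g.hom)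
  map_one' := by
    apply ext
    intro a
    change φ (algebraMap k C _) = algebraMap k D _
    rw [AlgHom.commutes]
  map_mul' g h := by
    apply ext
    intro a
    rw [mul_apply]
    change φ (Algebra.TensorProduct.lift g.hom h.hom (fun _ _ => Commute.all _ _)
      (CoalgebraStruct.comul (R := k) a)) = _
    induction CoalgebraStruct.comul (R := k) a using TensorProduct.induction_on with
    | zero => simp
    | tmul x y =>
      simp only [Algebra.TensorProduct.lift_tmul, map_mul]
      rfl
    | add x y hx hy => rw [map_add, map_add, map_add, hx, hy]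

theorem bc_apply (φ : C →ₐ[k] D) (g : Pt k A C) (a : A) : (bc φ g).hom a = φ (g.hom a) := rfl

end Bi

section Hopf
variable [HopfAlgebra k A]

noncomputable instance : Inv (Pt k A C) := ⟨fun g => mk (g.hom.comp (HopfAlgebra.antipodeAlgHom k A))⟩

noncomputable instance : Group (Pt k A C) where
  inv_mul_cancel g := by
    apply ext
    intro a
    rw [mul_apply, one_apply]
    have h1 := HopfAlgebra.mul_antipode_rTensor_comul_apply (R := k) a
    have h2 : ∀ t : A ⊗[k] A, Algebra.TensorProduct.lift (g⁻¹).hom g.hom (fun _ _ => Commute.all _ _) t =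
        g.hom (LinearMap.mul' k A ((HopfAlgebraStruct.antipode k (A := A)).rTensor A t)) := by
      intro t
      induction t using TensorProduct.induction_on with
      | zero => simp
      | tmul x y =>
        simp only [Algebra.TensorProduct.lift_tmul, LinearMap.rTensor_tmul, LinearMap.mul'_apply, map_mul]
        rfl
      | add x y hx hy => simp only [map_add, hx, hy]
    rw [h2, h1, AlgHom.commutes]

end Hopf

end Pt

section Mv

variable [Bialgebra k A] {R : Type w} [CommRing R] [Algebra k R] [HopfRep.Comod k A R]
  [GLin.IsCoactAlg k A R]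

/-- The `C`-point `p` of `Spec R` moved by the `C`-point `g` of `Spec A`. -/
noncomputable def mv (p : R →ₐ[k] C) (g : Pt k A C) : R →ₐ[k] C :=
  (Algebra.TensorProduct.lift p g.hom (fun _ _ => Commute.all _ _)).comp (GLin.coactAlgHom k A R)

theorem mv_apply (p : R →ₐ[k] C) (g : Pt k A C) (f : R) :
    mv p g f = Algebra.TensorProduct.lift p g.hom (fun _ _ => Commute.all _ _)
      (HopfRep.Comod.coact (k := k) (A := A) f) := rfl

theorem comp_mv (φ : C →ₐ[k] D) (p : R →ₐ[k] C) (g : Pt k A C) :
    φ.comp (mv p g) = mv (φ.comp p) (Pt.bc φ g) := by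
  apply AlgHom.ext
  intro f
  rw [mv_apply, AlgHom.comp_apply, mv_apply]
  induction HopfRep.Comod.coact (k := k) (A := A) f using TensorProduct.induction_on with
  | zero => simp
  | tmul x y =>
    simp only [Algebra.TensorProduct.lift_tmul, map_mul]
    rfl
  | add x y hx hy => rw [map_add, map_add, map_add, hx, hy]

theorem mv_one (p : R →ₐ[k] C) : mv p (1 : Pt k A C) = p := by
  apply AlgHom.ext
  intro f
  rw [mv_apply]
  have h := congrArg (fun φ => φ f) (HopfRep.Comod.counit_comp (k := k) (A := A) (V := R))
  simp only [LinearMap.comp_apply, LinearMap.flip_apply, TensorProduct.mk_apply] at h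
  have key : ∀ t : R ⊗[k] A, Algebra.TensorProduct.lift p (1 : Pt k A C).hom (fun _ _ => Commute.all _ _) t =
      Algebra.TensorProduct.lift p (Algebra.ofId k C) (fun _ _ => Commute.all _ _)
        (LinearMap.lTensor R (CoalgebraStruct.counit (R := k) (A := A)) t) := by
    intro t
    induction t using TensorProduct.induction_on with
    | zero => simp
    | tmul x a =>
      simp only [Algebra.TensorProduct.lift_tmul, LinearMap.lTensor_tmul]
      rfl
    | add x y hx hy => simp only [map_add, hx, hy]
  rw [key, h]
  simp

theorem mv_mul (p : R →ₐ[k] C) (g h : Pt k A C) : mv (mv p g) h = mv p (g * h) := by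
  apply AlgHom.ext
  intro f
  rw [mv_apply, mv_apply]
  let τ : R ⊗[k] (A ⊗[k] A) →ₐ[k] C := Algebra.TensorProduct.lift p
    (Algebra.TensorProduct.lift g.hom h.hom (fun _ _ => Commute.all _ _)) (fun _ _ => Commute.all _ _)
  have h0 := congrArg (fun φ => φ f) (HopfRep.Comod.coassoc (k := k) (A := A) (V := R))
  simp only [LinearMap.comp_apply, LinearEquiv.coe_coe] at h0
  have h1 : ∀ t : R ⊗[k] A, Algebra.TensorProduct.lift (mv p g) h.hom (fun _ _ => Commute.all _ _) t =
      τ (TensorProduct.assoc k R A A
        ((HopfRep.Comod.coact (k := k) (A := A) (V := R)).rTensor A t)) := by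
    intro t
    induction t using TensorProduct.induction_on with
    | zero => simp
    | tmul x a =>
      simp only [Algebra.TensorProduct.lift_tmul, LinearMap.rTensor_tmul]
      rw [mv_apply]
      induction HopfRep.Comod.coact (k := k) (A := A) x using TensorProduct.induction_on with
      | zero => simp
      | tmul y b =>
        simp only [Algebra.TensorProduct.lift_tmul, TensorProduct.assoc_tmul, τ]
        ring
      | add y z hy hz => simp only [map_add, add_mul, TensorProduct.add_tmul, hy, hz]
    | add x y hx hy => simp only [map_add, hx, hy]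
  have h2 : ∀ t : R ⊗[k] A, Algebra.TensorProduct.lift p (g * h).hom (fun _ _ => Commute.all _ _) t =
      τ ((CoalgebraStruct.comul (R := k) (A := A)).lTensor R t) := by
    intro t
    induction t using TensorProduct.induction_on with
    | zero => simp
    | tmul x a =>
      simp only [Algebra.TensorProduct.lift_tmul, LinearMap.lTensor_tmul, τ]
      rfl
    | add x y hx hy => simp only [map_add, hx, hy]
  rw [h1, h2, h0]

/-- The orbit morphism on points. -/
theorem comp_orbitHom (x : R →ₐ[k] k) (g : Pt k A C) :
    g.hom.comp (GLin.orbitHom k A x) = mv ((Algebra.ofId k C).comp x) g := by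
  apply AlgHom.ext
  intro f
  rw [mv_apply]
  change g.hom (Algebra.TensorProduct.lid k A (Algebra.TensorProduct.map x (AlgHom.id k A)
    (HopfRep.Comod.coact (k := k) (A := A) f))) = _
  induction HopfRep.Comod.coact (k := k) (A := A) f using TensorProduct.induction_on with
  | zero => simp
  | tmul y a =>
    simp only [Algebra.TensorProduct.map_tmul, Algebra.TensorProduct.lid_tmul, AlgHom.id_apply,
      Algebra.TensorProduct.lift_tmul, map_smul]
    rw [Algebra.smul_def]
    rfl
  | add x y hx hy => simp only [map_add, hx, hy]

/-- The action on rational points is `GLin.actPt`. -/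
theorem actPt_eq (g : A →ₐ[k] k) (x : R →ₐ[k] k) : GLin.actPt k g x = mv x (Pt.mk g) := by
  have h := comp_orbitHom (C := k) x (Pt.mk g)
  have h2 : (Algebra.ofId k k).comp x = x := by
    apply AlgHom.ext
    intro f
    rfl
  rw [h2] at h
  exact h

variable (A) in
/-- Stable ideals: the coaction sends `I` into the ideal of `R ⊗ A` generated by `I`. -/
def IsStable (I : Ideal R) : Prop :=
  ∀ f ∈ I, HopfRep.Comod.coact (k := k) (A := A) f ∈
    I.map (Algebra.TensorProduct.includeLeft : R →ₐ[k] R ⊗[k] A)

/-- The zero set of a stable ideal is stable. -/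
theorem mv_mem_of_stable {I : Ideal R} (hI : IsStable (k := k) A I) (N : Ideal C) (p : R →ₐ[k] C)
    (hp : ∀ f ∈ I, p f ∈ N) (g : Pt k A C) : ∀ f ∈ I, mv p g f ∈ N := by
  intro f hf
  have h1 : I.map (Algebra.TensorProduct.includeLeft : R →ₐ[k] R ⊗[k] A) ≤
      N.comap (Algebra.TensorProduct.lift p g.hom (fun _ _ => Commute.all _ _)).toRingHom := by
    rw [Ideal.map_le_iff_le_comap]
    intro r hr
    rw [Ideal.mem_comap, Ideal.mem_comap]
    change Algebra.TensorProduct.lift p g.hom _ (r ⊗ₜ[k] 1) ∈ N
    rw [Algebra.TensorProduct.lift_tmul, map_one, mul_one]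
    exact hp r hr
  exact h1 (hI f hf)

end Mv

end Pts

end K687
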