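import Groth.Agent.GIT.K687.HMSLn
import Groth.Agent.GIT.K687.Binary
import Groth.Agent.InvQ.K702.FormsStab
import Groth.Agent.InvQ.K701.Orbit3
import Groth.Agent.GIT.K691.HomogInv
import Groth.Agent.S12559

/-!
# Semistability of forms under the special linear group: the numerical criterion
-/

set_option autoImplicit false
set_option linter.unusedSectionVars false

universe u v

open TensorProduct LaurentPolynomial CoordGrp

namespace K687

section Lin

variable {k : Type u} [CommRing k] {A : Type u} [CommRing A] [Bialgebra k A]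
  {ι : Type v} [Fintype ι] [HopfRep.Comod k A (MvPolynomial ι k)] [GLin.IsCoactAlg k A (MvPolynomial ι k)]

variable (k ι) in
/-- The ideal of the origin. -/
noncomputable def originIdeal : Ideal (MvPolynomial ι k) := Ideal.span (Set.range fun i : ι => MvPolynomial.X i)

/-- The ideal of the origin is stable for a linear action. -/
theorem isStable_originIdeal (hlin : GLin.IsLinear k A ι) : IsStable (k := k) A (originIdeal k ι) := by
  intro f hf
  have h1 : originIdeal k ι ≤ ((originIdeal k ι).map
      (Algebra.TensorProduct.includeLeft : MvPolynomial ι k →ₐ[k] MvPolynomial ι k ⊗[k] A)).comap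
        (GLin.coactAlgHom k A (MvPolynomial ι k)).toRingHom := by
    rw [originIdeal, Ideal.span_le]
    rintro _ ⟨i, rfl⟩
    obtain ⟨m, hm⟩ := hlin i
    change HopfRep.Comod.coact (k := k) (A := A) (MvPolynomial.X i : MvPolynomial ι k) ∈
      (originIdeal k ι).map (Algebra.TensorProduct.includeLeft : MvPolynomial ι k →ₐ[k] MvPolynomial ι k ⊗[k] A)
    rw [hm]
    refine Ideal.sum_mem _ fun j _ => ?_
    have h2 : (MvPolynomial.X j : MvPolynomial ι k) ⊗ₜ[k] m j =
        (Algebra.TensorProduct.includeLeft : MvPolynomial ι k →ₐ[k] MvPolynomial ι k ⊗[k] A) (MvPolynomial.X j) *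
          (1 ⊗ₜ[k] m j) := by
      rw [Algebra.TensorProduct.includeLeft_apply, Algebra.TensorProduct.tmul_mul_tmul, mul_one, one_mul]
    rw [h2]
    exact Ideal.mul_mem_right _ _ (Ideal.mem_map_of_mem _ (Ideal.subset_span ⟨j, rfl⟩))
  exact h1 hf

theorem vecPt_zero_mem (f : MvPolynomial ι k) (hf : f ∈ originIdeal k ι) :
    GLin.vecPt k ι (fun _ => (0 : k)) f = 0 := by
  have h1 : originIdeal k ι ≤ RingHom.ker (GLin.vecPt k ι (fun _ => (0 : k))) := by
    rw [originIdeal, Ideal.span_le]
    rintro _ ⟨i, rfl⟩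
    rw [SetLike.mem_coe, RingHom.mem_ker, MvPolynomial.aeval_X]
  exact h1 hf

end Lin

section Closure

variable {k : Type u} [Field k] [IsAlgClosed k] {A : Type u} [CommRing A] [HopfAlgebra k A] [Algebra.FiniteType k A]
  {ι : Type} [Fintype ι] [HopfRep.Comod k A (MvPolynomial ι k)] [GLin.IsCoactAlg k A (MvPolynomial ι k)]

/-- The origin is in the closure of the orbit of a nullform. -/
theorem inOrbitClosure_of_isNullform (hG : HopfRep.IsLinearlyReductive k A) (hlin : GLin.IsLinear k A ι) (v : ι → k)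
    (hnull : GLin.IsNullform k A v) :
    GLin.InOrbitClosure k A (GLin.vecPt k ι v) (GLin.vecPt k ι (fun _ => (0 : k))) := by
  have hzero : ∀ (F : MvPolynomial ι k) (d : ℕ), 0 < d → F.IsHomogeneous d →
      GLin.vecPt k ι (fun _ => (0 : k)) F = 0 := by
    intro F d hd hF
    have h1 : GLin.vecPt k ι (fun _ => (0 : k)) F = MvPolynomial.eval (fun _ => (0 : k)) F := by
      rw [GLin.vecPt, MvPolynomial.aeval_eq_eval]
    rw [h1]
    have h3 : MvPolynomial.eval (fun _ => (0 : k)) F = MvPolynomial.constantCoeff F := by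
      have := MvPolynomial.eval_zero (σ := ι) (R := k)
      exact congrArg (fun φ => φ F) this
    rw [h3, MvPolynomial.constantCoeff_eq]
    exact hF.coeff_eq_zero (by simpa using hd.ne)
  obtain ⟨z, h1, h2⟩ := K701.Orbit3.exists_common_point hG (GLin.vecPt k ι v)
    (GLin.vecPt k ι (fun _ => (0 : k))) (fun f hf => by
      rw [← MvPolynomial.sum_homogeneousComponent f, map_sum, map_sum]
      refine Finset.sum_congr rfl fun d _ => ?_
      rcases Nat.eq_zero_or_pos d with rfl | hd
      · rw [MvPolynomial.homogeneousComponent_zero, MvPolynomial.aeval_C, MvPolynomial.aeval_C]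
      · rw [hzero _ d hd (MvPolynomial.homogeneousComponent_isHomogeneous d f)]
        have h3 := hnull _ (K691.HomogInv.homogeneousComponent_mem_invariants hlin d hf) d hd
          (MvPolynomial.homogeneousComponent_isHomogeneous d f)
        rw [← MvPolynomial.aeval_eq_eval] at h3
        exact h3)
  have hz : z = GLin.vecPt k ι (fun _ => (0 : k)) := by
    apply MvPolynomial.algHom_ext
    intro i
    have h3 := h2 (MvPolynomial.X i) (by
      rw [RingHom.mem_ker]
      change GLin.orbitHom k A _ (MvPolynomial.X i) = 0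
      rw [K691.HomogInv.orbitHom_origin hlin]
      simp)
    rw [h3]
    simp
  rw [hz] at h1
  exact fun f hf => h1 f hf

end Closure

section Forms

variable {k : Type u} [Field k] {N d : ℕ}

open K702.FormsStab K702.HMStab K702.Forms

attribute [local instance] coactF coactF_isCoactAlg

theorem coactF_isLinear : GLin.IsLinear k (SLn N k) (FormIdx N d) := by
  intro m
  refine ⟨fun l => ((SLn.mkHom N k).comp (Mat.toGLn N k)) (formCoeff k N d l m), ?_⟩
  change TensorProduct.map LinearMap.id _ (formsCoactAlg k N d (MvPolynomial.X m)) = _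
  rw [formsCoactAlg_X, map_sum]
  rfl

/-- A form which is not semistable has only monomials of positive weight after some linear substitution. -/
theorem exists_pos_of_not_isSemistableVec [IsAlgClosed k] [CharZero k] (a : FormIdx N d → k)
    (h : ¬ GLin.IsSemistableVec k (SLn N k) a) :
    ∃ M : Matrix (Fin N) (Fin N) k, M.det = 1 ∧ ∃ r : Fin N → ℤ, ∑ i, r i = 0 ∧
      ∀ m : FormIdx N d, MvPolynomial.coeff m.1 (sub M (formPoly a)) ≠ 0 → 0 < ∑ j, (m.1 j : ℤ) * r j := by
  replace h := inOrbitClosure_of_isNullform (Groth.Agent.S12559.result k N) coactF_isLinear a (not_not.mp h)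
  have hI := isStable_originIdeal (k := k) (coactF_isLinear (k := k) (N := N) (d := d))
  obtain ⟨a₀, r, hr, y, hy, hyI⟩ := hm_SLn _ hI _ _ h vecPt_zero_mem
  refine ⟨K702.SL.mat a₀.hom, K702.SL.det_mat a₀.hom, r, hr, fun m hm => ?_⟩
  have h1 := isLimit_conj hy a₀⁻¹
  rw [conj_conj, inv_mul_cancel, conj_one, inv_inv] at h1
  obtain ⟨q, hq, hq0⟩ := h1
  set p : FormRing k N d →ₐ[k] k := mv (GLin.vecPt k (FormIdx N d) a) a₀ with hp
  have hpm : p (MvPolynomial.X m) ≠ 0 := by
    intro h0
    exact hm ((mv_eq_zero_iff (by exact_mod_cast Nat.factorial_ne_zero d) a a₀.hom m).mp h0)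
  -- the orbit in coordinates
  have hdg : (SLn.diag N k r hr : SLn N k →ₐ[k] k[T;T⁻¹]) =
      K702.HMCore.dg (fun j => ((tUnit (k := k) r j : (k[T;T⁻¹])ˣ) : k[T;T⁻¹])) (prod_tUnit_one r hr) := by
    apply K702.SL.ext
    intro i j
    rw [BialgHom.coe_toAlgHom, SLn.diag_X]
    have := congrFun (congrFun (K702.HMCore.mat_dg (k := k) _ (prod_tUnit_one (k := k) r hr)) i) j
    rw [K702.SL.mat_apply] at this
    rw [this, Matrix.diagonal_apply]
    rfl
  have horb : GLin.lamOrbit k (SLn N k) (SLn.diag N k r hr) p (MvPolynomial.X m) =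
      algebraMap k k[T;T⁻¹] (p (MvPolynomial.X m)) * T (∑ j, (m.1 j : ℤ) * r j) := by
    rw [lamOrbit_eq]
    have h2 := mv_X_eq (fun m j => (m.1 j : ℤ)) hasWts ((Algebra.ofId k k[T;T⁻¹]).comp p) (tUnit (k := k) r)
      (prod_tUnit_one r hr) m
    rw [prod_tUnit, ← hdg] at h2
    exact h2
  have h2 := congrArg (fun φ => φ (MvPolynomial.X m)) hq
  simp only [AlgHom.comp_apply, horb] at h2
  have hcoef : ∀ j : ℤ, (Polynomial.toLaurentAlg (q (MvPolynomial.X m))).coeff j =
      if (∑ j, (m.1 j : ℤ) * r j) = j then p (MvPolynomial.X m) else 0 := by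
    intro j
    rw [h2, LaurentPolynomial.algebraMap_apply, ← LaurentPolynomial.single_eq_C_mul_T]
    simp only [AddMonoidAlgebra.coeff_single, Finsupp.single_apply]
    rfl
  rcases lt_trichotomy 0 (∑ j, (m.1 j : ℤ) * r j) with hlt | h0 | hgt
  · exact hlt
  · exfalso
    have h3 : Polynomial.aeval (0 : k) (q (MvPolynomial.X m)) = 0 := by
      have h4 := congrArg (fun φ => φ (MvPolynomial.X m)) hq0
      have h5 : mv y a₀ (MvPolynomial.X m) ∈ (⊥ : Ideal k) := mv_mem_of_stable hI ⊥ y (fun f hf => hyI f hf) a₀ _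
        (Ideal.subset_span ⟨m, rfl⟩)
      exact h4.trans h5
    rw [aeval_zero_eq_coeff] at h3
    have h4 := hcoef 0
    rw [if_pos h0.symm] at h4
    rw [← h4] at hpm
    apply hpm
    exact h3
  · exfalso
    have h4 := hcoef (∑ j, (m.1 j : ℤ) * r j)
    rw [if_pos rfl] at h4
    rw [← h4] at hpm
    exact hpm (coeff_toLaurent_neg _ _ hgt)

end Forms

end K687
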