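import Groth.Agent.Fano.K714.Zeros
import Groth.Agent.InvQ.K702.Forms
import Mathlib.Data.Fin.Tuple.Sort
import Mathlib.RingTheory.MvPolynomial.EulerIdentity

/-!
# Smooth hypersurfaces satisfy the numerical criterion of stability
-/

set_option autoImplicit false
set_option linter.unusedSectionVars false

universe u

open MvPolynomial

namespace K687

section Sub

variable {k : Type u} [CommRing k] {N : ℕ}

open K702.Forms

/-- The chain rule for a linear substitution. -/
theorem pderiv_sub (M : Matrix (Fin N) (Fin N) k) (i : Fin N) (F : MvPolynomial (Fin N) k) :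
    pderiv i (sub M F) = ∑ j, C (M j i) * sub M (pderiv j F) := by
  classical
  induction F using MvPolynomial.induction_on with
  | C c => simp
  | add p q hp hq => simp only [map_add, hp, hq, mul_add, Finset.sum_add_distrib]
  | mul_X p l hp =>
    have h1 : pderiv i (sub M (X l)) = C (M l i) := by
      rw [sub_X, map_sum, Finset.sum_eq_single i]
      · rw [pderiv_C_mul, pderiv_X_self, mul_one]
      · intro j _ hj
        rw [pderiv_C_mul, pderiv_X_of_ne hj, mul_zero]
      · intro h; exact absurd (Finset.mem_univ i) h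
    rw [map_mul, Derivation.leibniz, h1, hp, smul_eq_mul, smul_eq_mul]
    have h2 : ∀ j, C (M j i) * sub M (pderiv j (p * X l)) =
        C (M j i) * sub M (pderiv j p) * sub M (X l) + (if j = l then sub M p * C (M j i) else 0) := by
      intro j
      rw [Derivation.leibniz, smul_eq_mul, smul_eq_mul, map_add, map_mul, map_mul]
      by_cases hj : j = l
      · subst hj
        rw [if_pos rfl, pderiv_X_self, map_one]
        ring
      · rw [if_neg hj, pderiv_X_of_ne (Ne.symm hj), map_zero]
        ring
    rw [Finset.sum_congr rfl fun j _ => h2 j, Finset.sum_add_distrib, Finset.sum_ite_eq' Finset.univ l,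
      if_pos (Finset.mem_univ l), ← Finset.sum_mul]
    ring

end Sub

section Smooth

variable {k : Type u} [Field k] {N : ℕ}

open K702.Forms

/-- A linear change of variables preserves non-singularity. -/
theorem smooth_sub {F : MvPolynomial (Fin N) k}
    (hF : ∀ w : Fin N → k, w ≠ 0 → ∃ i, eval w (pderiv i F) ≠ 0) (M : Matrix (Fin N) (Fin N) k) (hM : M.det ≠ 0) :
    ∀ w : Fin N → k, w ≠ 0 → ∃ i, eval w (pderiv i (sub M F)) ≠ 0 := by
  intro w hw
  by_contra hcon
  push Not at hcon
  have hMw : M.mulVec w ≠ 0 := fun h => hw (Matrix.eq_zero_of_mulVec_eq_zero hM h)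
  obtain ⟨i, hi⟩ := hF _ hMw
  apply hi
  have h1 : M.transpose.mulVec (fun j => eval (M.mulVec w) (pderiv j F)) = 0 := by
    ext l
    have := hcon l
    rw [pderiv_sub, map_sum] at this
    rw [Matrix.mulVec, dotProduct, Pi.zero_apply, ← this]
    refine Finset.sum_congr rfl fun j _ => ?_
    rw [map_mul, eval_C, K702.Forms.eval_sub]
    rfl
  have h2 := Matrix.eq_zero_of_mulVec_eq_zero (by rwa [Matrix.det_transpose]) h1
  exact congrFun h2 i

variable [IsAlgClosed k]

/-- The numerical criterion for a smooth form. -/
theorem eq_zero_of_smooth {n m : ℕ} (hm : 3 ≤ m) (G : MvPolynomial (Fin (n + 1)) k) (hG : G.IsHomogeneous m)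
    (hsm : ∀ w : Fin (n + 1) → k, w ≠ 0 → ∃ i, eval w (pderiv i G) ≠ 0)
    (r : Fin (n + 1) → ℤ) (hr : ∑ j, r j = 0)
    (hpos : ∀ e : Fin (n + 1) →₀ ℕ, coeff e G ≠ 0 → 0 ≤ ∑ j, (e j : ℤ) * r j) : r = 0 := by
  classical
  let σ : Equiv.Perm (Fin (n + 1)) := Tuple.sort r
  have hσ : Monotone (r ∘ σ) := Tuple.monotone_sort r
  have hmZ : (3 : ℤ) ≤ m := by exact_mod_cast hm
  -- the claim
  have key : ∀ s : Fin (n + 1), 0 ≤ r (σ s) ∨ 0 ≤ r (σ s.rev) + ((m : ℤ) - 1) * r (σ s) := by
    intro s
    by_contra hcon
    push Not at hcon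
    obtain ⟨hs1, hs2⟩ := hcon
    let v' : (Fin (s + 1) → k) → Fin (n + 1) → k := fun v j =>
      if h : (σ.symm j : ℕ) < s + 1 then v ⟨σ.symm j, h⟩ else 0
    let φ : MvPolynomial (Fin (n + 1)) k →ₐ[k] MvPolynomial (Fin (s + 1)) k :=
      aeval fun j => if h : (σ.symm j : ℕ) < s + 1 then X ⟨σ.symm j, h⟩ else 0
    have hφhom : ∀ (P : MvPolynomial (Fin (n + 1)) k) (e : ℕ), P.IsHomogeneous e → (φ P).IsHomogeneous e := by
      intro P e hP
      have := hP.aeval (R := k) (n := 1) (fun j => (if h : (σ.symm j : ℕ) < s + 1 then X ⟨σ.symm j, h⟩ else 0 :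
        MvPolynomial (Fin (s + 1)) k)) (by
          intro j
          split_ifs with h
          · exact isHomogeneous_X _ _
          · exact isHomogeneous_zero _ _ _)
      rwa [one_mul] at this
    have hφeval : ∀ (v : Fin (s + 1) → k) (P : MvPolynomial (Fin (n + 1)) k), eval (v' v) P = eval v (φ P) := by
      intro v P
      have h1 : (aeval v).comp φ = (aeval (v' v) : MvPolynomial (Fin (n + 1)) k →ₐ[k] k) := by
        apply MvPolynomial.algHom_ext
        intro j
        simp only [AlgHom.comp_apply, φ, aeval_X, v']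
        split_ifs with h
        · rw [aeval_X]
        · rw [map_zero]
      have h2 := congrArg (fun ψ => ψ P) h1
      simp only [AlgHom.comp_apply] at h2
      rw [← coe_aeval_eq_eval, ← coe_aeval_eq_eval]
      exact h2.symm
    have hφne : ∀ P : MvPolynomial (Fin (n + 1)) k, φ P ≠ 0 →
        ∃ e, coeff e P ≠ 0 ∧ ∀ j, s + 1 ≤ (σ.symm j : ℕ) → e j = 0 := by
      intro P hP
      by_contra hc
      push Not at hc
      apply hP
      rw [P.as_sum, map_sum]
      refine Finset.sum_eq_zero fun e he => ?_
      obtain ⟨j, hj1, hj2⟩ := hc e (mem_support_iff.mp he)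
      rw [aeval_monomial, Finsupp.prod, Finset.prod_eq_zero (i := j), mul_zero]
      · rw [Finsupp.mem_support_iff]; exact hj2
      · rw [dif_neg (by omega), zero_pow hj2]
    -- the partial derivatives that do not vanish on the coordinate subspace
    have hT : ∀ j, φ (pderiv j G) ≠ 0 → s.rev < σ.symm j := by
      intro j hj
      obtain ⟨e, he1, he2⟩ := hφne _ hj
      have h3 : coeff (e + Finsupp.single j 1) G ≠ 0 := by
        intro h0
        apply he1
        rw [coeff_pderiv, h0, zero_mul]
      have h4 := hpos _ h3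
      have hdeg : (e + Finsupp.single j 1).degree = m := by
        have := hG h3
        rwa [Finsupp.degree_eq_weight_one]
      have hdeg2 : ∑ i, (e i : ℤ) = m - 1 := by
        rw [map_add, Finsupp.degree_single, Finsupp.degree_eq_sum] at hdeg
        have h5 : ((∑ i, e i + 1 : ℕ) : ℤ) = m := by rw [hdeg]
        push_cast at h5
        linarith
      have h5 : ∑ i, ((e + Finsupp.single j 1 : Fin (n + 1) →₀ ℕ) i : ℤ) * r i = ∑ i, (e i : ℤ) * r i + r j := by
        rw [← sub_eq_iff_eq_add', ← Finset.sum_sub_distrib, Finset.sum_eq_single j]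
        · rw [Finsupp.add_apply, Finsupp.single_eq_same]
          push_cast
          ring
        · intro i _ hi
          rw [Finsupp.add_apply, Finsupp.single_eq_of_ne (by tauto)]
          push_cast
          ring
        · intro h; exact absurd (Finset.mem_univ j) h
      have h6 : ∑ i, (e i : ℤ) * r i ≤ ∑ i, (e i : ℤ) * r (σ s) := by
        refine Finset.sum_le_sum fun i _ => ?_
        by_cases hi : (σ.symm i : ℕ) < s + 1
        · have h7 : r i ≤ r (σ s) := by
            have := hσ (show σ.symm i ≤ s by
              rw [Fin.le_def]; omega)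
            simpa using this
          exact mul_le_mul_of_nonneg_left h7 (by positivity)
        · rw [he2 i (by omega)]
          simp
      rw [← Finset.sum_mul, hdeg2] at h6
      rw [h5] at h4
      have h8 : r (σ s.rev) < r j := by linarith
      by_contra hle
      have := hσ (not_lt.mp hle)
      simp only [Function.comp_apply, Equiv.apply_symm_apply] at this
      linarith
    -- there are few of them
    let ι := {j // φ (pderiv j G) ≠ 0}
    have hcard : Fintype.card ι < s + 1 := by
      have h1 : Fintype.card ι ≤ Fintype.card (Fin s) := by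
        refine Fintype.card_le_of_injective
          (fun j : ι => (⟨(σ.symm j.1 : ℕ) - (s.rev + 1), by
            have h2 := hT j.1 j.2
            rw [Fin.lt_def] at h2
            have h3 := (σ.symm j.1).2
            have h4 : (s.rev : ℕ) = n + 1 - (s + 1) := Fin.val_rev s
            have h5 := s.2
            omega⟩ : Fin s)) ?_
        intro i j hij
        have h2 := hT i.1 i.2
        have h3 := hT j.1 j.2
        rw [Fin.lt_def] at h2 h3
        rw [Fin.mk.injEq] at hij
        apply Subtype.ext
        apply σ.symm.injective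
        apply Fin.ext
        omega
      rw [Fintype.card_fin] at h1
      omega
    obtain ⟨v, hv0, hv⟩ := K714.Zeros.exists_ne_zero (k := k) hcard (fun _ => m - 1) (fun _ => by omega)
      (fun j : ι => φ (pderiv j.1 G)) (fun j => hφhom _ _ (hG.pderiv))
    have hw : v' v ≠ 0 := by
      intro h0
      apply hv0
      ext i
      have hi := i.2
      have hs := s.2
      have h1 := congrFun h0 (σ ⟨i, by omega⟩)
      simp only [v', Equiv.symm_apply_apply, Pi.zero_apply] at h1
      rw [dif_pos hi] at h1
      exact h1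
    obtain ⟨j, hj⟩ := hsm _ hw
    rw [hφeval] at hj
    apply hj
    by_cases hj0 : φ (pderiv j G) = 0
    · rw [hj0, map_zero]
    · exact hv ⟨j, hj0⟩
  -- conclusion
  have hc : ∀ s : Fin (n + 1), 0 ≤ r (σ s) + r (σ s.rev) ∧ (r (σ s) < 0 → 0 < r (σ s) + r (σ s.rev)) := by
    intro s
    have h1 : ∀ t : Fin (n + 1), r (σ t) < 0 → 0 < r (σ t) + r (σ t.rev) := by
      intro t ht
      rcases key t with h | h
      · exact absurd ht (not_lt.mpr h)
      · nlinarith
    refine ⟨?_, h1 s⟩
    by_cases h2 : r (σ s) < 0
    · exact (h1 s h2).le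
    · by_cases h3 : r (σ s.rev) < 0
      · have := h1 s.rev h3
        rw [Fin.rev_rev] at this
        linarith
      · linarith
  have hsum : ∑ s, (r (σ s) + r (σ s.rev)) = 0 := by
    rw [Finset.sum_add_distrib]
    have h1 : ∑ s, r (σ s) = 0 := by rw [Equiv.sum_comp σ r, hr]
    have h2 : ∑ s : Fin (n + 1), r (σ s.rev) = 0 := by
      have := Equiv.sum_comp Fin.revPerm (fun s => r (σ s))
      simp only [Fin.revPerm_apply] at this
      rw [this, h1]
    rw [h1, h2, add_zero]
  have hall : ∀ s, r (σ s) + r (σ s.rev) = 0 := by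
    have := (Finset.sum_eq_zero_iff_of_nonneg (fun s _ => (hc s).1)).mp hsum
    intro s
    exact this s (Finset.mem_univ s)
  have hnn : ∀ j, 0 ≤ r j := by
    intro j
    by_contra hj
    push Not at hj
    have := (hc (σ.symm j)).2 (by simpa using hj)
    rw [hall] at this
    exact lt_irrefl _ this
  have := (Finset.sum_eq_zero_iff_of_nonneg (fun j _ => hnn j)).mp hr
  ext j
  exact this j (Finset.mem_univ j)

end Smooth

end K687
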