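import Groth.Agent.GIT.K687.HMGLn
import Groth.Agent.S2335
import Mathlib.AlgebraicGeometry.Morphisms.Finite
import Mathlib.AlgebraicGeometry.Morphisms.Proper

/-!
# Stability from the valuative criterion, and no limits from stability
-/

set_option autoImplicit false
set_option linter.unusedSectionVars false
set_option linter.style.haveILetI false

universe u v w w'

open TensorProduct LaurentPolynomial IsLocalRing AlgebraicGeometry CategoryTheory

namespace K687

/-- A map of finitely generated algebras over a field satisfying the valuative criterion (with respect to discrete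
valuation rings containing the field) is finite. -/
theorem finite_of_dvr {k : Type u} [Field k] {R A : Type u} [CommRing R] [Algebra k R]
    [Algebra.FiniteType k R] [CommRing A] [Algebra k A] [Algebra.FiniteType k A] (φ : R →ₐ[k] A)
    (H : ∀ (O : Type u) [CommRing O] [IsDomain O] [IsDiscreteValuationRing O] [Algebra k O]
      (g : A →ₐ[k] FractionRing O) (h : R →ₐ[k] O),
      (IsScalarTower.toAlgHom k O (FractionRing O)).comp h = g.comp φ →
      ∃ g₀ : A →ₐ[k] O, (IsScalarTower.toAlgHom k O (FractionRing O)).comp g₀ = g) :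
    φ.toRingHom.Finite := by
  haveI : IsNoetherianRing R := Algebra.FiniteType.isNoetherianRing k R
  let f : Spec (CommRingCat.of A) ⟶ Spec (CommRingCat.of R) := Spec.map (CommRingCat.ofHom φ.toRingHom)
  haveI hft : φ.toRingHom.FiniteType := by
    apply RingHom.FiniteType.of_comp_finiteType (f := algebraMap k R)
    have h1 : φ.toRingHom.comp (algebraMap k R) = algebraMap k A := φ.comp_algebraMap
    rw [h1, RingHom.finiteType_algebraMap]
    infer_instance
  haveI : LocallyOfFiniteType f := by
    rw [HasRingHomProperty.Spec_iff (P := @LocallyOfFiniteType)]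
    exact hft
  have hprop : IsProper f := by
    rw [Groth.Agent.S2335.result f]
    intro O _ _ _ x y hxy
    obtain ⟨x', rfl⟩ := Spec.homEquiv.symm.surjective x
    obtain ⟨y', rfl⟩ := Spec.homEquiv.symm.surjective y
    change Spec.map x' ≫ f = Spec.map _ ≫ Spec.map y' at hxy
    rw [← Spec.map_comp, ← Spec.map_comp] at hxy
    have hxy' := Spec.map_injective hxy
    letI : Algebra k O := ((y'.hom).comp (algebraMap k R)).toAlgebra
    have hcomm : ∀ r : R, x'.hom (φ r) = algebraMap O (FractionRing O) (y'.hom r) := by
      intro r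
      exact congrArg (fun e : CommRingCat.of R ⟶ CommRingCat.of (FractionRing O) => e.hom r) hxy'
    let h : R →ₐ[k] O := { y'.hom with commutes' := fun c => rfl }
    let g : A →ₐ[k] FractionRing O :=
      { x'.hom with
        commutes' := fun c => by
          have h1 := hcomm (algebraMap k R c)
          rw [φ.commutes] at h1
          rw [IsScalarTower.algebraMap_apply k O (FractionRing O)]
          exact h1 }
    obtain ⟨g₀, hg₀⟩ := H O g h (by
      apply AlgHom.ext
      intro r
      exact (hcomm r).symm)
    have hinj : Function.Injective (algebraMap O (FractionRing O)) := IsFractionRing.injective _ _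
    refine ⟨Spec.map (CommRingCat.ofHom g₀.toRingHom), ⟨?_, ?_⟩, ?_⟩
    · change Spec.map _ ≫ Spec.map _ = Spec.map y'
      rw [← Spec.map_comp]
      congr 1
      apply CommRingCat.hom_ext
      apply RingHom.ext
      intro r
      apply hinj
      have h1 := congrArg (fun e : A →ₐ[k] FractionRing O => e (φ r)) hg₀
      exact h1.trans (hcomm r)
    · change Spec.map _ ≫ Spec.map _ = Spec.map x'
      rw [← Spec.map_comp]
      congr 1
      apply CommRingCat.hom_ext
      apply RingHom.ext
      intro a
      exact congrArg (fun e : A →ₐ[k] FractionRing O => e a) hg₀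
    · rintro l ⟨h1, h2⟩
      obtain ⟨l', rfl⟩ := Spec.homEquiv.symm.surjective l
      change Spec.map _ ≫ Spec.map l' = Spec.map x' at h2
      rw [← Spec.map_comp] at h2
      have h3 := Spec.map_injective h2
      change Spec.map l' = _
      congr 1
      apply CommRingCat.hom_ext
      apply RingHom.ext
      intro a
      apply hinj
      have h4 := congrArg (fun e : CommRingCat.of A ⟶ CommRingCat.of (FractionRing O) => e.hom a) h3
      have h5 := congrArg (fun e : A →ₐ[k] FractionRing O => e a) hg₀
      exact h4.trans h5.symm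
  have hfin : IsFinite f := IsFinite.iff_isProper_and_isAffineHom.mpr ⟨hprop, inferInstance⟩
  have := (IsFinite.SpecMap_iff (f := CommRingCat.ofHom φ.toRingHom)).mp hfin
  exact this

variable {k : Type u} [Field k] {A : Type u} [CommRing A] [HopfAlgebra k A] [Algebra.FiniteType k A]
  {R : Type u} [CommRing R] [Algebra k R] [Algebra.FiniteType k R] [HopfRep.Comod k A R]
  [GLin.IsCoactAlg k A R]

/-- A point whose orbit morphism is finite is stable. -/
theorem isStablePt_of_finite (x : R →ₐ[k] k) (h : (GLin.orbitHom k A x).toRingHom.Finite) :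
    GLin.IsStablePt k A x := by
  constructor
  · have h1 := PrimeSpectrum.isClosedMap_comap_of_isIntegral (GLin.orbitHom k A x).toRingHom h.to_isIntegral
    exact h1.isClosed_range
  · classical
    -- `A / m_x A` is finite over `R / m_x = k`
    letI : Algebra R A := (GLin.orbitHom k A x).toRingHom.toAlgebra
    haveI : Module.Finite R A := h
    haveI : IsScalarTower k R A := IsScalarTower.of_algebraMap_eq (fun c => ((GLin.orbitHom k A x).commutes c).symm)
    obtain ⟨s, hs⟩ := (Module.finite_def (R := R) (M := A)).mp inferInstance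
    let J := GLin.stabIdeal k A x
    refine Module.finite_def.mpr ⟨s.image (Ideal.Quotient.mk J), ?_⟩
    rw [eq_top_iff]
    intro a _
    obtain ⟨a, rfl⟩ := Ideal.Quotient.mk_surjective a
    have ha : a ∈ Submodule.span R (s : Set A) := by rw [hs]; trivial
    refine Submodule.span_induction ?_ ?_ ?_ ?_ ha
    · intro b hb
      apply Submodule.subset_span
      rw [Finset.coe_image]
      exact ⟨b, hb, rfl⟩
    · rw [map_zero]
      exact Submodule.zero_mem _
    · intro b c _ _ hb hc
      rw [map_add]
      exact Submodule.add_mem _ hb hc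
    · intro r b _ hb
      have h2 : r - algebraMap k R (x r) ∈ RingHom.ker x := by
        rw [RingHom.mem_ker, map_sub, x.commutes]
        exact sub_self _
      have h3 : Ideal.Quotient.mk J (r • b) = x r • Ideal.Quotient.mk J b := by
        have h4 : r • b - x r • b ∈ J := by
          have h5 : r • b - x r • b = (GLin.orbitHom k A x (r - algebraMap k R (x r))) * b := by
            rw [map_sub, AlgHom.commutes, sub_mul, Algebra.smul_def, Algebra.smul_def]
            rfl
          rw [h5]
          exact Ideal.mul_mem_right _ _ (Ideal.mem_map_of_mem _ h2)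
        have h6 := (Ideal.Quotient.mk_eq_mk_iff_sub_mem _ _).mpr h4
        rw [h6]
        rfl
      rw [h3]
      exact Submodule.smul_mem _ _ hb

/-- Stability from the valuative criterion. -/
theorem isStablePt_of_dvr (x : R →ₐ[k] k)
    (H : ∀ (O : Type u) [CommRing O] [IsDomain O] [IsDiscreteValuationRing O] [Algebra k O]
      (g : Pt k A (FractionRing O)) (h : R →ₐ[k] O),
      (IsScalarTower.toAlgHom k O (FractionRing O)).comp h = mv ((Algebra.ofId k _).comp x) g →
      ∃ g₀ : Pt k A O, Pt.bc (IsScalarTower.toAlgHom k O (FractionRing O)) g₀ = g) :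
    GLin.IsStablePt k A x := by
  apply isStablePt_of_finite
  apply finite_of_dvr (GLin.orbitHom k A x)
  intro O _ _ _ _ g h hgh
  obtain ⟨g₀, hg₀⟩ := H O (Pt.mk g) h (by
    rw [hgh]
    exact comp_orbitHom x (Pt.mk g))
  exact ⟨g₀.hom, hg₀⟩

/-- A one-parameter subgroup landing in a finite subgroup scheme is trivial. -/
theorem isTrivial_of_factor_finite [IsAlgClosed k] (lam : A →ₐc[k] k[T;T⁻¹]) (J : Ideal A) [Module.Finite k (A ⧸ J)]
    (hJ : ∀ a ∈ J, lam a = 0) : SGA3t2b.IsTrivialBialgHom lam := by
  -- the image of `lam` is finite-dimensional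
  let φ : (A ⧸ J) →ₐ[k] k[T;T⁻¹] := Ideal.Quotient.liftₐ J (lam : A →ₐ[k] k[T;T⁻¹]) hJ
  have hint : ∀ a : A, IsIntegral k (lam a) := by
    intro a
    have h1 : IsIntegral k (Ideal.Quotient.mk J a) := Algebra.IsIntegral.isIntegral _
    exact h1.map φ
  -- an integral Laurent polynomial is a constant
  have hconst : ∀ q : k[T;T⁻¹], IsIntegral k q → ∃ c : k, q = algebraMap k k[T;T⁻¹] c := by
    intro q hq
    have hbij : Function.Bijective (algebraMap k (integralClosure k k[T;T⁻¹])) :=
      IsAlgClosed.algebraMap_bijective_of_isIntegral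
    obtain ⟨c, hc⟩ := hbij.2 ⟨q, hq⟩
    exact ⟨c, (congrArg Subtype.val hc).symm⟩
  intro a
  obtain ⟨c, hc⟩ := hconst _ (hint a)
  have h2 : CoalgebraStruct.counit (R := k) (lam a) = CoalgebraStruct.counit (R := k) a :=
    CoalgHomClass.counit_comp_apply lam a
  have h3 : CoalgebraStruct.counit (R := k) (algebraMap k k[T;T⁻¹] c) = c :=
    Bialgebra.counit_algebraMap _
  rw [hc, h3] at h2
  rw [hc, h2]

/-- Stable points have no limits along non-trivial one-parameter subgroups. -/
theorem isTrivial_of_isStablePt_of_isLimit [IsAlgClosed k] {x y : R →ₐ[k] k} (hx : GLin.IsStablePt k A x)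
    (lam : A →ₐc[k] k[T;T⁻¹]) (hy : GLin.IsLimit k A lam x y) : SGA3t2b.IsTrivialBialgHom lam := by
  obtain ⟨hclosed, hfin⟩ := hx
  obtain ⟨hneg, hy0⟩ := wt_of_isLimit hy
  -- `y` is in the orbit closure
  have hker : RingHom.ker (GLin.orbitHom k A x) ≤ RingHom.ker y := by
    intro f hf
    rw [RingHom.mem_ker] at hf ⊢
    rw [hy0, ← coeff_lamOrbit]
    have : GLin.lamOrbit k A lam x f = 0 := by
      change lam (GLin.orbitHom k A x f) = 0
      rw [hf, map_zero]
    rw [this]
    rfl
  -- hence in the orbit
  have hmem : (⟨RingHom.ker y, RingHom.ker_isPrime y⟩ : PrimeSpectrum R) ∈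
      Set.range (PrimeSpectrum.comap (GLin.orbitHom k A x).toRingHom) := by
    rw [← hclosed.closure_eq, PrimeSpectrum.closure_range_comap, PrimeSpectrum.mem_zeroLocus]
    exact hker
  obtain ⟨Q, hQ⟩ := hmem
  obtain ⟨g, hg⟩ : ∃ g : A →ₐ[k] k, ∀ f ∈ (RingHom.ker y).map (GLin.orbitHom k A x).toRingHom, g f = 0 := by
    apply exists_algHom_of_ne_top
    intro hcon
    have h1 : (RingHom.ker y).map (GLin.orbitHom k A x).toRingHom ≤ Q.asIdeal := by
      rw [Ideal.map_le_iff_le_comap]
      have := congrArg PrimeSpectrum.asIdeal hQ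
      exact le_of_eq this.symm
    rw [hcon, top_le_iff] at h1
    exact Q.isPrime.ne_top h1
  have hgy : mv x (Pt.mk g) = y := by
    have h1 := comp_orbitHom x (Pt.mk g)
    rw [ofId_self_comp] at h1
    rw [← h1]
    apply AlgHom.ext
    intro f
    have h2 : f - algebraMap k R (y f) ∈ RingHom.ker y := by
      rw [RingHom.mem_ker, map_sub, y.commutes]
      exact sub_self _
    have h3 := hg _ (Ideal.mem_map_of_mem _ h2)
    change g (GLin.orbitHom k A x (f - algebraMap k R (y f))) = 0 at h3
    rw [map_sub, map_sub, AlgHom.commutes, AlgHom.commutes, sub_eq_zero] at h3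
    exact h3
  -- `y` is fixed by `lam`, so `x` is fixed by the conjugate of `lam`
  have hfixy : mv ((Algebra.ofId k k[T;T⁻¹]).comp y) (lamPt lam) = (Algebra.ofId k k[T;T⁻¹]).comp y := by
    rw [← lamOrbit_eq]
    apply AlgHom.ext
    intro f
    ext n
    rw [coeff_lamOrbit, hy0]
    have h1 : wt lam 0 (wt lam n f) = if n = 0 then wt lam n f else 0 := by
      change tc k R 0 (rho lam (wt lam n f)) = _
      rw [rho_wt, tc_tmul, LaurentPolynomial.T_apply]
      split_ifs <;> simp
    rw [h1]
    change _ = (algebraMap k k[T;T⁻¹] (y f)).coeff n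
    rw [LaurentPolynomial.algebraMap_apply, LaurentPolynomial.C_apply, hy0]
    split_ifs with hn
    · rw [hn]; rfl
    · rw [map_zero]
  let a : Pt k A k := Pt.mk g
  rw [← isTrivial_conj_iff a lam]
  haveI : Module.Finite k (A ⧸ GLin.stabIdeal k A x) := hfin
  apply isTrivial_of_factor_finite (conj a lam) (GLin.stabIdeal k A x)
  · -- the conjugate fixes `x`
    have hfixx : mv ((Algebra.ofId k k[T;T⁻¹]).comp x) (lamPt (conj a lam)) =
        (Algebra.ofId k k[T;T⁻¹]).comp x := by
      have hxa : (Algebra.ofId k k[T;T⁻¹]).comp y =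
          mv ((Algebra.ofId k k[T;T⁻¹]).comp x) (Pt.bc (Algebra.ofId k _) a) := by
        rw [← hgy]
        exact comp_mv _ _ _
      rw [hxa, mv_mul] at hfixy
      rw [lamPt_conj, ← mv_mul, hfixy, mv_mul, mul_inv_cancel, mv_one]
    intro c hc
    have h1 : GLin.stabIdeal k A x ≤ RingHom.ker (conj a lam : A →ₐ[k] k[T;T⁻¹]).toRingHom := by
      rw [GLin.stabIdeal, Ideal.map_le_iff_le_comap]
      intro f hf
      rw [RingHom.mem_ker] at hf
      rw [Ideal.mem_comap, RingHom.mem_ker]
      have h2 := congrArg (fun φ => φ f) (lamOrbit_eq (conj a lam) x)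
      simp only [hfixx] at h2
      change conj a lam (GLin.orbitHom k A x f) = 0
      refine h2.trans ?_
      change algebraMap k _ (x f) = 0
      rw [hf, map_zero]
    exact h1 hc

end K687
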