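import Groth.Agent.Flat2H.TorDimPoly
import Mathlib.RingTheory.Unramified.Finite
import Mathlib.RingTheory.RingHom.StandardSmooth

/-!
# Tor dimension and etale maps; modules flat over the base of a standard smooth algebra
-/

set_option autoImplicit false
universe u

open CategoryTheory TensorProduct

namespace K687.TorEt

open Groth.Agent.Flat2H.TorDim Groth.Agent.Flat2H.TorDimPoly

/-- Tor dimension of a direct summand. -/
theorem of_retract {A : Type u} [CommRing A] {M N : Type u} [AddCommGroup M] [Module A M] [AddCommGroup N]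
    [Module A N] {n : ℕ} (i : N →ₗ[A] M) (p : M →ₗ[A] N) (hpi : p ∘ₗ i = LinearMap.id)
    (h : DRing.HasTorDimLE A n M) : DRing.HasTorDimLE A n N := by
  intro X _ _ q hq
  have := h X q hq
  let F := (CategoryTheory.Tor (ModuleCat.{u} A) q)
  let a := (F.map (ModuleCat.ofHom i)).app (ModuleCat.of A X)
  let b := (F.map (ModuleCat.ofHom p)).app (ModuleCat.of A X)
  have hab : a ≫ b = 𝟙 _ := by
    rw [← NatTrans.comp_app, ← F.map_comp, ← ModuleCat.ofHom_comp, hpi, ModuleCat.ofHom_id, F.map_id]
    rfl
  refine ⟨fun x y => ?_⟩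
  have h1 : a.hom x = a.hom y := Subsingleton.elim _ _
  have h2 : ∀ z, b.hom (a.hom z) = z := fun z => by
    have := congrArg (fun φ => φ.hom z) hab
    exact this
  rw [← h2 x, ← h2 y, h1]

/-- Tor dimension goes up along etale maps (restricted modules). -/
theorem of_etale (P B : Type u) [CommRing P] [CommRing B] [Algebra P B] [Algebra.FormallyUnramified P B]
    [Algebra.EssFiniteType P B] [Module.Flat P B] (M : Type u) [AddCommGroup M] [Module P M] [Module B M]
    [IsScalarTower P B M] {n : ℕ} (h : DRing.HasTorDimLE P n M) : DRing.HasTorDimLE B n M :=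
  of_retract _ _ (Algebra.FormallyUnramified.comp_sec P B M) (HasTorDimLE.baseChange B h)

/-- A module over a standard smooth algebra of relative dimension `n`, flat over the base, has tor dimension at most
`n`. -/
theorem of_standardSmooth (R B : Type u) [CommRing R] [CommRing B] [Algebra R B] (n : ℕ)
    [Algebra.IsStandardSmoothOfRelativeDimension n R B] (M : Type u) [AddCommGroup M] [Module R M] [Module B M]
    [IsScalarTower R B M] [Module.Flat R M] : DRing.HasTorDimLE B n M := by
  obtain ⟨g, hg⟩ := Algebra.IsStandardSmoothOfRelativeDimension.exists_etale_mvPolynomial n R B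
  letI : Algebra (MvPolynomial (Fin n) R) B := g.toAlgebra
  haveI : Algebra.Etale (MvPolynomial (Fin n) R) B := hg
  haveI : IsScalarTower R (MvPolynomial (Fin n) R) B := IsScalarTower.of_algebraMap_eq fun r => (g.commutes r).symm
  letI : Module (MvPolynomial (Fin n) R) M := Module.compHom M g.toRingHom
  haveI : IsScalarTower (MvPolynomial (Fin n) R) B M := ⟨fun p b m => by
    change (g p * b) • m = g p • b • m
    rw [mul_smul]⟩
  haveI : IsScalarTower R (MvPolynomial (Fin n) R) M := ⟨fun r p m => by
    change g (r • p) • m = r • (g p • m)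
    rw [map_smul, smul_assoc]⟩
  have h1 : DRing.HasTorDimLE (MvPolynomial (Fin n) R) (0 + n) M :=
    HasTorDimLE.mvPolynomial n (HasTorDimLE.of_flat (A := R) (M := M) 0)
  rw [zero_add] at h1
  exact of_etale (MvPolynomial (Fin n) R) B M h1

/-- The local form, in terms of ring maps. -/
theorem of_local {R B B' C : Type u} [CommRing R] [CommRing B] [CommRing B'] [CommRing C] {n : ℕ} (φ : R →+* B)
    (hφ : φ.IsStandardSmoothOfRelativeDimension n) (ψ : B →+* B') (S : Submonoid B)
    (hψ : @IsLocalization B _ S B' _ ψ.toAlgebra) (χ : B' →+* C) (hflat : ((χ.comp ψ).comp φ).Flat) :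
    @DRing.HasTorDimLE B' _ n C _ χ.toAlgebra.toModule := by
  letI := φ.toAlgebra
  letI := ψ.toAlgebra
  letI := χ.toAlgebra
  letI := (χ.comp ψ).toAlgebra
  letI := ((χ.comp ψ).comp φ).toAlgebra
  haveI : Algebra.IsStandardSmoothOfRelativeDimension n R B := hφ
  haveI : Module.Flat R C := hflat
  haveI : IsScalarTower R B C := IsScalarTower.of_algebraMap_eq fun _ => rfl
  haveI : IsScalarTower B B' C := IsScalarTower.of_algebraMap_eq fun _ => rfl
  haveI : IsLocalization S B' := hψ
  exact (hasTorDimLE_localization_iff S B' n).mp (of_standardSmooth R B n C)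

end K687.TorEt
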