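import Groth.Agent.GIT.K687.GLnDom

/-!
# The unipotent radical of the parabolic subgroup attached to a diagonal one-parameter subgroup
-/

set_option autoImplicit false
set_option linter.unusedSectionVars false

universe u

open TensorProduct LaurentPolynomial CoordGrp

namespace K687

variable {k : Type u} [Field k] {n : ℕ} (r : Fin n → ℤ)

/-- Matrices in the unipotent group contracted by `t ↦ diag(t^r)⁻¹ · diag(t^r)`. -/
def IsU (M : Matrix (Fin n) (Fin n) k) : Prop := ∀ i j, r j ≤ r i → M i j = if i = j then 1 else 0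

/-- The matrix `diag(t^r)⁻¹ M diag(t^r)` with polynomial entries. -/
noncomputable def hat (M : Matrix (Fin n) (Fin n) k) : Matrix (Fin n) (Fin n) (Polynomial k) := fun i j =>
  Polynomial.C (M i j) * Polynomial.X ^ (r j - r i).toNat

variable {r}

theorem aeval_hat {M : Matrix (Fin n) (Fin n) k} (hM : IsU r M) (i j : Fin n) :
    Polynomial.aeval (0 : k) (hat r M i j) = if i = j then 1 else 0 := by
  rw [hat, map_mul, map_pow, Polynomial.aeval_X, Polynomial.aeval_C]
  by_cases h : r j ≤ r i
  · have h1 : (r j - r i).toNat = 0 := by omega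
    rw [h1, pow_zero, mul_one, hM i j h]
    rfl
  · have h1 : (r j - r i).toNat ≠ 0 := by omega
    have h2 : i ≠ j := by
      rintro rfl
      exact h le_rfl
    rw [zero_pow h1, mul_zero, if_neg h2]

theorem toLaurent_hat {M : Matrix (Fin n) (Fin n) k} (hM : IsU r M) (i j : Fin n) :
    Polynomial.toLaurent (hat r M i j) = LaurentPolynomial.C (M i j) * T (r j - r i) := by
  rw [hat, map_mul, Polynomial.toLaurent_C, Polynomial.toLaurent_X_pow]
  by_cases h : r j ≤ r i
  · rw [hM i j h]
    split_ifs with hij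
    · subst hij
      simp
    · simp
  · rw [Int.toNat_of_nonneg (by omega)]

theorem T_mul_hat {M : Matrix (Fin n) (Fin n) k} (hM : IsU r M) (i j : Fin n) :
    (T (r i) : k[T;T⁻¹]) * Polynomial.toLaurent (hat r M i j) = algebraMap k k[T;T⁻¹] (M i j) * T (r j) := by
  rw [toLaurent_hat hM, LaurentPolynomial.algebraMap_apply, mul_left_comm, ← T_add]
  congr 2
  ring

theorem det_hat {M : Matrix (Fin n) (Fin n) k} (hM : IsU r M) : (hat r M).det = Polynomial.C M.det := by
  apply Polynomial.toLaurent_injective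
  have h1 : Matrix.diagonal (fun i => (T (r i) : k[T;T⁻¹])) * (hat r M).map Polynomial.toLaurent =
      M.map (algebraMap k k[T;T⁻¹]) * Matrix.diagonal (fun i => (T (r i) : k[T;T⁻¹])) := by
    apply Matrix.ext
    intro i j
    rw [Matrix.diagonal_mul, Matrix.mul_diagonal, Matrix.map_apply, Matrix.map_apply]
    exact T_mul_hat hM i j
  have h2 := congrArg Matrix.det h1
  rw [Matrix.det_mul, Matrix.det_mul, mul_comm] at h2
  have h3 : IsUnit (Matrix.diagonal (fun i => (T (r i) : k[T;T⁻¹]))).det := by
    rw [Matrix.det_diagonal]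
    exact IsUnit.prod_univ_iff.mpr fun i => LaurentPolynomial.isUnit_T (r i)
  have h4 := h3.mul_right_cancel h2
  have h5 : ((hat r M).map Polynomial.toLaurent).det = Polynomial.toLaurent (hat r M).det :=
    ((Polynomial.toLaurent (R := k)).map_det _).symm
  have h6 : (M.map (algebraMap k k[T;T⁻¹])).det = algebraMap k k[T;T⁻¹] M.det :=
    ((algebraMap k k[T;T⁻¹]).map_det _).symm
  rw [← h5, h4, h6, Polynomial.toLaurent_C, LaurentPolynomial.algebraMap_apply]
  rfl

theorem det_of_isU {M : Matrix (Fin n) (Fin n) k} (hM : IsU r M) : M.det = 1 := by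
  have h1 := congrArg (Polynomial.aeval (0 : k)) (det_hat hM)
  rw [Polynomial.aeval_C] at h1
  have h2 : Polynomial.aeval (0 : k) (hat r M).det = ((hat r M).map (Polynomial.aeval (0 : k))).det :=
    (Polynomial.aeval (0 : k)).map_det _
  have h3 : (hat r M).map (Polynomial.aeval (0 : k)) = 1 := by
    ext i j : 2
    rw [Matrix.map_apply, aeval_hat hM, Matrix.one_apply]
  rw [h2, h3, Matrix.det_one] at h1
  exact h1.symm

theorem isUnit_det_of_isU {M : Matrix (Fin n) (Fin n) k} (hM : IsU r M) : IsUnit M.det := by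
  rw [det_of_isU hM]
  exact isUnit_one

theorem isUnit_det_hat {M : Matrix (Fin n) (Fin n) k} (hM : IsU r M) : IsUnit (hat r M).det := by
  rw [det_hat hM, det_of_isU hM, map_one]
  exact isUnit_one

/-- The point of `GL_n` given by a matrix in the unipotent group. -/
noncomputable def uPt {M : Matrix (Fin n) (Fin n) k} (hM : IsU r M) : Pt k (GLn n k) k :=
  GLn_pt M (isUnit_det_of_isU hM)

/-- The conjugate by the one-parameter subgroup, a point with values in polynomials. -/
noncomputable def gam {M : Matrix (Fin n) (Fin n) k} (hM : IsU r M) : Pt k (GLn n k) (Polynomial k) :=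
  GLn_pt (hat r M) (isUnit_det_hat hM)

theorem lamPt_diag_X (i j : Fin n) :
    (lamPt (GLn.diag n k r)).hom (GLn.X i j) = if i = j then T (r i) else 0 := GLn.diag_X r i j

/-- `λ · γ = w · λ`. -/
theorem lamPt_mul_gam {M : Matrix (Fin n) (Fin n) k} (hM : IsU r M) :
    lamPt (GLn.diag n k r) * Pt.bc (Polynomial.toLaurentAlg (R := k)) (gam hM) =
      Pt.bc (Algebra.ofId k k[T;T⁻¹]) (uPt hM) * lamPt (GLn.diag n k r) := by
  apply GLn_pt_ext
  intro i j
  rw [GLn_mul_X, GLn_mul_X, Finset.sum_eq_single i, Finset.sum_eq_single j]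
  · rw [lamPt_diag_X, if_pos rfl, lamPt_diag_X, if_pos rfl, Pt.bc_apply, Pt.bc_apply, gam, uPt, GLn_pt_X, GLn_pt_X]
    exact T_mul_hat hM i j
  · intro l _ hl
    rw [lamPt_diag_X, if_neg hl, mul_zero]
  · intro h; exact absurd (Finset.mem_univ j) h
  · intro l _ hl
    rw [lamPt_diag_X, if_neg (Ne.symm hl), zero_mul]
  · intro h; exact absurd (Finset.mem_univ i) h

theorem bc_aeval_gam {M : Matrix (Fin n) (Fin n) k} (hM : IsU r M) :
    Pt.bc (Polynomial.aeval (0 : k)) (gam hM) = 1 := by
  apply GLn_pt_ext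
  intro i j
  rw [Pt.bc_apply, gam, GLn_pt_X, aeval_hat hM]
  change _ = algebraMap k k (CoalgebraStruct.counit (R := k) (GLn.X i j : GLn n k))
  rw [GLn.counit_X]
  rfl

variable (r) in
theorem isU_one : IsU r (1 : Matrix (Fin n) (Fin n) k) := fun i j _ => Matrix.one_apply

end K687
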