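import Groth.Agent.GIT.K686.BcAct
import Groth.Agent.GIT.K686.Whisk
import Groth.Agent.GIT.K688.QuotSec
import Mathlib.AlgebraicGeometry.AffineSpace

/-!
# Universal categorical quotients: surjectivity, functions
-/

set_option autoImplicit false

universe u

open CategoryTheory CategoryTheory.Limits MonoidalCategory CartesianMonoidalCategory MonObj AlgebraicGeometry
  TopologicalSpace Opposite

namespace K687.UnivCat

open K688.QuotSec

variable {S : Scheme.{u}} {G X Y : Over S} [GrpObj G] {a : AlgGrp.Action G X} {φ : X ⟶ Y}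

/-- Base change of universal categorical quotients. -/
theorem isUnivCatQuot_bc (h : GIT.IsUnivCatQuot a φ) {X' Y' : Over S} {pr : X' ⟶ X} {φ' : X' ⟶ Y'} {g : Y' ⟶ Y}
    (hp : IsPullback pr φ' φ g) (a' : AlgGrp.Action G X') (ha : a'.act ≫ pr = (G ◁ pr) ≫ a.act)
    (hi : GIT.IsInvariant a' φ') : GIT.IsUnivCatQuot a' φ' := by
  refine ⟨h.2 pr φ' g trivial hp a' ha hi, ?_⟩
  intro X'' Y'' pr' φ'' g' _ hp' a'' ha'' hi''
  refine h.2 (pr' ≫ pr) φ'' (g' ≫ g) trivial (hp'.paste_horiz hp) a'' ?_ hi''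
  rw [← Category.assoc, ha'', Category.assoc, ha, MonoidalCategory.whiskerLeft_comp, Category.assoc]

/-- Morphisms out of an empty scheme. -/
theorem over_hom_ext_of_isEmpty {X Y : Over S} (hX : IsEmpty X.left) (f g : X ⟶ Y) : f = g := by
  ext1
  exact (isInitialOfIsEmpty (X := X.left)).hom_ext _ _

/-- Universal categorical quotients are surjective. -/
theorem surjective (h : GIT.IsUnivCatQuot a φ) : Function.Surjective φ.left.base := by
  intro y
  by_contra hy
  push Not at hy
  let Y' : Over S := Over.mk (Y.left.fromSpecResidueField y ≫ Y.hom)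
  let g : Y' ⟶ Y := Over.homMk (Y.left.fromSpecResidueField y)
  let X' : Over S := Over.mk (pullback.fst φ.left g.left ≫ X.hom)
  let pr : X' ⟶ X := Over.homMk (pullback.fst φ.left g.left)
  let φ' : X' ⟶ Y' := Over.homMk (pullback.snd φ.left g.left) (by
    change pullback.snd φ.left g.left ≫ Y'.hom = pullback.fst φ.left g.left ≫ X.hom
    rw [← Over.w g, ← Over.w φ, pullback.condition_assoc])
  have hp : IsPullback pr φ' φ g := K686.isPullback_over (IsPullback.of_hasPullback φ.left g.left)
  have hE : IsEmpty X'.left := ⟨fun x => by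
    apply hy (pr.left x)
    have h1 : φ.left (pr.left x) = g.left (φ'.left x) := by
      rw [← Scheme.Hom.comp_apply, ← Scheme.Hom.comp_apply, ← Over.comp_left, ← Over.comp_left, hp.w]
    refine h1.trans ?_
    exact Scheme.fromSpecResidueField_apply y _⟩
  let a' := K686.bcAct hp a h.1.1
  have hc := h.2 pr φ' g trivial hp a' (K686.bcAct_pr hp a h.1.1) (K686.bcAct_inv hp a h.1.1)
  have hGE : IsEmpty (G ⊗ X').left := ⟨fun x => hE.false ((snd G X').left x)⟩
  obtain ⟨χ, _, _⟩ := hc.2 X' (𝟙 X') (over_hom_ext_of_isEmpty hGE _ _)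
  have hne : Nonempty Y'.left := inferInstanceAs (Nonempty (Spec (Y.left.residueField y)))
  exact hE.false (χ.left hne.some)

/-- Functions on a categorical quotient. -/
theorem exists_appTop_eq (h : GIT.IsCatQuot a φ) (f : Γ(X.left, ⊤))
    (hf : a.act.left.appTop f = (snd G X).left.appTop f) : ∃ s : Γ(Y.left, ⊤), φ.left.appTop s = f := by
  let Z : Over S := Over.mk (𝔸(PUnit.{u+1}; S) ↘ S)
  let ψ : X ⟶ Z := Over.homMk (AffineSpace.homOfVector X.hom (fun _ => f)) (AffineSpace.homOfVector_over _ _)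
  obtain ⟨χ, hχ, _⟩ := h.2 Z ψ (by
    rw [GIT.IsInvariant]
    ext1
    rw [Over.comp_left, Over.comp_left]
    change a.act.left ≫ AffineSpace.homOfVector X.hom (fun _ => f) =
      (snd G X).left ≫ AffineSpace.homOfVector X.hom (fun _ => f)
    rw [AffineSpace.comp_homOfVector, AffineSpace.comp_homOfVector]
    congr 1
    · rw [Over.w, Over.w]
    · funext i
      exact hf)
  refine ⟨χ.left.appTop (AffineSpace.coord S PUnit.unit), ?_⟩
  have h1 : (φ.left ≫ χ.left).appTop (AffineSpace.coord S PUnit.unit) = f := by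
    rw [← Over.comp_left, hχ]
    exact AffineSpace.homOfVector_appTop_coord X.hom (fun _ => f) PUnit.unit
  rw [Scheme.Hom.comp_appTop] at h1
  exact h1

/-- The functions on the target of a universal categorical quotient are the invariant functions. -/
theorem sections (h : GIT.IsUnivCatQuot a φ) (U : Y.left.Opens) :
    Function.Injective (φ.left.app U) ∧ Set.range (φ.left.app U) = {f | GIT.IsInvSection a φ U f} := by
  have happ : ∀ s, φ.left.app U s = φ.left.appLE U (φ.left ⁻¹ᵁ U) le_rfl s := fun s => by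
    rw [Scheme.Hom.appLE_eq_app]
  refine ⟨?_, ?_⟩
  · intro s t hst
    rw [happ, happ] at hst
    exact app_injective h U le_rfl le_rfl hst
  · apply Set.Subset.antisymm
    · rintro _ ⟨s, rfl⟩
      change GIT.IsInvSection a φ U (φ.left.app U s)
      rw [GIT.IsInvSection, happ, appLE_appLE, appLE_appLE]
      exact appLE_congr_hom h.1.1.left _ _ s
    · intro f hf
      change GIT.IsInvSection a φ U f at hf
      -- the restriction over `U`
      let hp := K686.isPullback_W φ U
      let aU := K686.bcAct hp a h.1.1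
      have hc := h.2 (K686.iW X (φ.left ⁻¹ᵁ U)) (K686.φW φ U) (K686.iW Y U) trivial hp aU
        (K686.bcAct_pr hp a h.1.1) (K686.bcAct_inv hp a h.1.1)
      let f' : Γ((K686.YW X (φ.left ⁻¹ᵁ U)).left, ⊤) := (φ.left ⁻¹ᵁ U).ι.appLE (φ.left ⁻¹ᵁ U) ⊤ (K688.SepCover.le_ι _) f
      have hle : (⊤ : ((G ⊗ K686.YW X (φ.left ⁻¹ᵁ U)).left).Opens) ≤
          (G ◁ K686.iW X (φ.left ⁻¹ᵁ U)).left ⁻¹ᵁ (a.act.left ⁻¹ᵁ (φ.left ⁻¹ᵁ U) ⊓
            (snd G X).left ⁻¹ᵁ (φ.left ⁻¹ᵁ U)) := by
        have h1 : ∀ z : (G ⊗ K686.YW X (φ.left ⁻¹ᵁ U)).left,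
            (snd G X).left ((G ◁ K686.iW X (φ.left ⁻¹ᵁ U)).left z) ∈ φ.left ⁻¹ᵁ U := by
          intro z
          rw [← Scheme.Hom.comp_apply, ← Over.comp_left, whiskerLeft_snd, Over.comp_left, Scheme.Hom.comp_apply]
          exact ((snd G (K686.YW X (φ.left ⁻¹ᵁ U))).left z).2
        intro z _
        refine ⟨?_, h1 z⟩
        have h2 : φ.left (a.act.left ((G ◁ K686.iW X (φ.left ⁻¹ᵁ U)).left z)) =
            φ.left ((snd G X).left ((G ◁ K686.iW X (φ.left ⁻¹ᵁ U)).left z)) := by
          rw [← Scheme.Hom.comp_apply, h.1.1.left, Scheme.Hom.comp_apply]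
        change φ.left (a.act.left ((G ◁ K686.iW X (φ.left ⁻¹ᵁ U)).left z)) ∈ U
        rw [h2]
        exact h1 z
      obtain ⟨s', hs'⟩ := exists_appTop_eq hc f' (by
        rw [appTop_eq_appLE, appTop_eq_appLE, appLE_appLE, appLE_appLE]
        have e1 : aU.act.left ≫ (φ.left ⁻¹ᵁ U).ι = (G ◁ K686.iW X (φ.left ⁻¹ᵁ U)).left ≫ a.act.left := by
          have := congrArg CommaMorphism.left (K686.bcAct_pr hp a h.1.1)
          exact this
        have e2 : (snd G (K686.YW X (φ.left ⁻¹ᵁ U))).left ≫ (φ.left ⁻¹ᵁ U).ι =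
            (G ◁ K686.iW X (φ.left ⁻¹ᵁ U)).left ≫ (snd G X).left := by
          have := congrArg CommaMorphism.left (whiskerLeft_snd G (K686.iW X (φ.left ⁻¹ᵁ U)))
          exact this.symm
        rw [appLE_congr_hom e1, appLE_congr_hom e2]
        have h3 := congrArg ((G ◁ K686.iW X (φ.left ⁻¹ᵁ U)).left.appLE _ ⊤ hle) hf
        rw [appLE_appLE, appLE_appLE] at h3
        exact h3)
      obtain ⟨s, rfl⟩ := K688.SepCover.appLE_ι_surjective U s'
      refine ⟨s, ?_⟩
      apply appLE_ι_injective (φ.left ⁻¹ᵁ U)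
      refine Eq.trans ?_ hs'
      rw [happ, appTop_eq_appLE]
      refine (appLE_appLE _ _ _ _ _).trans (Eq.trans ?_ (appLE_appLE _ _ _ _ _).symm)
      exact appLE_congr_hom (morphismRestrict_ι φ.left U).symm _ _ s

/-- The orbit map of a base change is the base change of the orbit map. -/
theorem isPullback_PsiY (hi : GIT.IsInvariant a φ) {X' Y' : Over S} {pr : X' ⟶ X} {φ' : X' ⟶ Y'} {g : Y' ⟶ Y}
    (hp : IsPullback pr φ' φ g) (a' : AlgGrp.Action G X') (ha : a'.act ≫ pr = (G ◁ pr) ≫ a.act)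
    (hi' : GIT.IsInvariant a' φ') :
    IsPullback (G ◁ pr).left (GIT.PsiY a' φ' hi') (GIT.PsiY a φ hi)
      (pullback.map φ'.left φ'.left φ.left φ.left pr.left pr.left g.left
        (by rw [← Over.comp_left, ← Over.comp_left, hp.w]) (by rw [← Over.comp_left, ← Over.comp_left, hp.w])) := by
  have hpl : IsPullback pr.left φ'.left φ.left g.left := K686.isPullback_left hp
  have hw : φ'.left ≫ g.left = pr.left ≫ φ.left := hpl.w.symm
  have hl : (G ◁ pr).left ≫ GIT.PsiY a φ hi = GIT.PsiY a' φ' hi' ≫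
      pullback.map φ'.left φ'.left φ.left φ.left pr.left pr.left g.left hw hw := by
    apply pullback.hom_ext
    · rw [Category.assoc, Category.assoc, pullback.lift_fst, GIT.PsiY, GIT.PsiY, pullback.lift_fst,
        pullback.lift_fst_assoc, ← Over.comp_left, ← Over.comp_left, ha]
    · rw [Category.assoc, Category.assoc, pullback.lift_snd, GIT.PsiY, GIT.PsiY, pullback.lift_snd,
        pullback.lift_snd_assoc, ← Over.comp_left, ← Over.comp_left, whiskerLeft_snd]
  -- the outer square
  have h1 : IsPullback (G ◁ pr).left (GIT.PsiY a' φ' hi' ≫ pullback.snd φ'.left φ'.left)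
      (GIT.PsiY a φ hi ≫ pullback.snd φ.left φ.left) pr.left := by
    rw [GIT.PsiY, GIT.PsiY, pullback.lift_snd, pullback.lift_snd]
    exact K686.isPullback_left (K686.Whisk.isPullback_whiskerLeft pr G)
  -- the lower square
  have h2 : IsPullback (pullback.map φ'.left φ'.left φ.left φ.left pr.left pr.left g.left hw hw)
      (pullback.snd φ'.left φ'.left) (pullback.snd φ.left φ.left) pr.left := by
    have h3 : IsPullback (pullback.fst φ'.left φ'.left ≫ pr.left) (pullback.snd φ'.left φ'.left) φ.left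
        (φ'.left ≫ g.left) := (IsPullback.of_hasPullback φ'.left φ'.left).paste_horiz hpl
    rw [hw] at h3
    refine IsPullback.of_right ?_ (pullback.lift_snd _ _ _) (IsPullback.of_hasPullback φ.left φ.left)
    rw [pullback.lift_fst]
    exact h3
  exact IsPullback.of_bot h1 hl h2

/-- The main statement. -/
theorem isUnivGeomQuot_iff (h : GIT.IsUnivCatQuot a φ) :
    GIT.IsUnivGeomQuot a φ ↔
      GIT.IsUnivSubmersive φ.left ∧ Function.Surjective (GIT.PsiY a φ h.1.1).base := by
  constructor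
  · intro hg
    exact ⟨hg.1.subm, hg.1.orbit⟩
  · rintro ⟨hs, ho⟩
    refine ⟨⟨h.1.1, surjective h, ho, hs, sections h⟩, ?_⟩
    intro X' Y' pr φ' g _ hp a' ha hi
    have h' := isUnivCatQuot_bc h hp a' ha hi
    refine ⟨hi, surjective h', ?_, ?_, sections h'⟩
    · haveI : Surjective (GIT.PsiY a φ h.1.1) := ⟨ho⟩
      have h1 : Surjective (GIT.PsiY a' φ' hi) :=
        MorphismProperty.of_isPullback (isPullback_PsiY h.1.1 hp a' ha hi) this
      exact h1.surj
    · exact MorphismProperty.of_isPullback (P := (MorphismProperty.universally _))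
        (K686.isPullback_left hp) hs

end K687.UnivCat
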