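import Groth.Agent.GIT.K687.Pts
import Groth.Agent.GIT.K687.Mu
import Groth.Prelude.Def_GLin2

/-!
# Weight components along a one-parameter subgroup
-/

set_option autoImplicit false
set_option linter.unusedSectionVars false

universe u v w w' w''

open TensorProduct LaurentPolynomial

namespace K687

section Coef

variable {k : Type u} [CommRing k] {R : Type w} [CommRing R] [Algebra k R]

variable (k) in
/-- The `j`-th coefficient of a Laurent polynomial, as a linear map. -/
noncomputable def lc (j : ℤ) : k[T;T⁻¹] →ₗ[k] k where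
  toFun p := p.coeff j
  map_add' _ _ := rfl
  map_smul' c p := by
    rw [AddMonoidAlgebra.coeff_smul]
    rfl

theorem lc_apply (j : ℤ) (p : k[T;T⁻¹]) : lc k j p = p.coeff j := rfl

theorem lc_T (i j : ℤ) : lc k j (T i : k[T;T⁻¹]) = if i = j then 1 else 0 := by
  rw [lc_apply, LaurentPolynomial.T_apply]

variable (k R) in
/-- The `j`-th coefficient on `R ⊗ k[T;T⁻¹]`. -/
noncomputable def tc (j : ℤ) : R ⊗[k] k[T;T⁻¹] →ₗ[k] R :=
  (TensorProduct.rid k R).toLinearMap ∘ₗ (lc k j).lTensor R

@[simp] theorem tc_tmul (j : ℤ) (r : R) (p : k[T;T⁻¹]) : tc k R j (r ⊗ₜ[k] p) = p.coeff j • r := by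
  simp [tc, lc_apply]

theorem tc_mul_tmul_one (j : ℤ) (s : R ⊗[k] k[T;T⁻¹]) (r : R) : tc k R j (s * (r ⊗ₜ[k] 1)) = tc k R j s * r := by
  induction s using TensorProduct.induction_on with
  | zero => simp
  | tmul x p =>
    rw [Algebra.TensorProduct.tmul_mul_tmul, tc_tmul, tc_tmul, mul_one, smul_mul_assoc]
  | add x y hx hy => rw [add_mul, map_add, map_add, hx, hy, add_mul]

/-- Every element of `R ⊗ k[T;T⁻¹]` is the sum of its homogeneous components. -/
theorem exists_tc_expand (t : R ⊗[k] k[T;T⁻¹]) :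
    ∃ s : Finset ℤ, ∀ s' : Finset ℤ, s ⊆ s' → t = ∑ j ∈ s', tc k R j t ⊗ₜ[k] (T j : k[T;T⁻¹]) := by
  classical
  induction t using TensorProduct.induction_on with
  | zero => exact ⟨∅, fun s' _ => by simp⟩
  | tmul r p =>
    refine ⟨p.coeff.support, fun s' hs' => ?_⟩
    have h1 : p = ∑ j ∈ s', p.coeff j • (T j : k[T;T⁻¹]) := by
      ext n
      rw [AddMonoidAlgebra.coeff_sum, Finset.sum_apply']
      simp only [AddMonoidAlgebra.coeff_smul, Finsupp.smul_apply, LaurentPolynomial.T_apply]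
      by_cases hn : n ∈ s'
      · rw [Finset.sum_eq_single n]
        · simp
        · intro b _ hb
          simp [hb]
        · intro h
          exact absurd hn h
      · rw [Finset.sum_eq_zero]
        · by_contra hne
          exact hn (hs' (Finsupp.mem_support_iff.mpr hne))
        · intro b hb
          have : b ≠ n := fun e => hn (e ▸ hb)
          simp [this]
    conv_lhs => rw [h1]
    rw [TensorProduct.tmul_sum]
    refine Finset.sum_congr rfl fun j _ => ?_
    rw [tc_tmul, TensorProduct.tmul_smul, TensorProduct.smul_tmul']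
  | add x y hx hy =>
    obtain ⟨s, hs⟩ := hx
    obtain ⟨s₂, hs₂⟩ := hy
    refine ⟨s ∪ s₂, fun s' hs' => ?_⟩
    conv_lhs => rw [hs s' (Finset.union_subset_left hs'), hs₂ s' (Finset.union_subset_right hs')]
    rw [← Finset.sum_add_distrib]
    refine Finset.sum_congr rfl fun j _ => ?_
    rw [map_add, TensorProduct.add_tmul]

end Coef

section Ev

variable {k : Type u} [CommRing k] {C : Type w'} [CommRing C] [Algebra k C]

variable (k) in
/-- Evaluation of Laurent polynomials at a unit. -/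
noncomputable def evU (u : Cˣ) : k[T;T⁻¹] →ₐ[k] C :=
  AddMonoidAlgebra.lift k C ℤ
    { toFun := fun n => ((u ^ (Multiplicative.toAdd n) : Cˣ) : C)
      map_one' := by simp
      map_mul' := fun a b => by
        rw [toAdd_mul, zpow_add, Units.val_mul] }

@[simp] theorem evU_T (u : Cˣ) (n : ℤ) : evU k u (T n) = ((u ^ n : Cˣ) : C) := by
  rw [evU, LaurentPolynomial.T, AddMonoidAlgebra.lift_single, one_smul]
  rfl

end Ev

section Wt

variable {k : Type u} [CommRing k] {A : Type v} [CommRing A] [Bialgebra k A]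
  {R : Type w} [CommRing R] [Algebra k R] [HopfRep.Comod k A R] [GLin.IsCoactAlg k A R]
  {C : Type w'} [CommRing C] [Algebra k C]

/-- The coaction composed with a one-parameter subgroup. -/
noncomputable def rho (lam : A →ₐc[k] k[T;T⁻¹]) : R →ₗ[k] R ⊗[k] k[T;T⁻¹] :=
  TensorProduct.map LinearMap.id (lam : A →ₗ[k] k[T;T⁻¹]) ∘ₗ HopfRep.Comod.coact (k := k) (A := A)

/-- The weight `j` component along a one-parameter subgroup. -/
noncomputable def wt (lam : A →ₐc[k] k[T;T⁻¹]) (j : ℤ) : R →ₗ[k] R := tc k R j ∘ₗ rho lam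

theorem exists_rho_expand (lam : A →ₐc[k] k[T;T⁻¹]) (f : R) :
    ∃ s : Finset ℤ, ∀ s' : Finset ℤ, s ⊆ s' →
      rho lam f = ∑ j ∈ s', wt lam j f ⊗ₜ[k] (T j : k[T;T⁻¹]) :=
  exists_tc_expand (rho lam f)

/-- The weight components are eigenvectors. -/
theorem rho_wt (lam : A →ₐc[k] k[T;T⁻¹]) (j : ℤ) (f : R) :
    rho lam (wt lam j f) = wt lam j f ⊗ₜ[k] (T j : k[T;T⁻¹]) := by
  classical
  have hco := congrArg (fun φ => φ f)
    (GLin.comodAlong lam (inferInstance : HopfRep.Comod k A R)).coassoc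
  simp only [LinearMap.comp_apply, LinearEquiv.coe_coe] at hco
  change TensorProduct.assoc k R k[T;T⁻¹] k[T;T⁻¹] (LinearMap.rTensor _ (rho lam) (rho lam f)) =
    LinearMap.lTensor R (CoalgebraStruct.comul (R := k) (A := k[T;T⁻¹])) (rho lam f) at hco
  obtain ⟨s, hs⟩ := exists_rho_expand lam f
  -- enlarge `s` so that it contains `j`
  have hs1 := hs (insert j s) (Finset.subset_insert j s)
  rw [hs1] at hco
  simp only [map_sum, LinearMap.rTensor_tmul, LinearMap.lTensor_tmul] at hco
  -- apply `id ⊗ id ⊗ coeff_j`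
  have h2 := congrArg (fun z => LinearMap.lTensor R
    ((TensorProduct.rid k k[T;T⁻¹]).toLinearMap ∘ₗ LinearMap.lTensor k[T;T⁻¹] (lc k j)) z) hco
  simp only [map_sum] at h2
  have key1 : ∀ (x : R ⊗[k] k[T;T⁻¹]) (i : ℤ), (LinearMap.lTensor R
      ((TensorProduct.rid k k[T;T⁻¹]).toLinearMap ∘ₗ LinearMap.lTensor k[T;T⁻¹] (lc k j)))
      ((TensorProduct.assoc k R k[T;T⁻¹] k[T;T⁻¹]) (x ⊗ₜ[k] (T i : k[T;T⁻¹]))) =
      if i = j then x else 0 := by
    intro x i
    induction x using TensorProduct.induction_on with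
    | zero => simp
    | tmul y p =>
      rw [TensorProduct.assoc_tmul, LinearMap.lTensor_tmul, LinearMap.comp_apply,
        LinearMap.lTensor_tmul, lc_T]
      split_ifs <;> simp
    | add x y hx hy =>
      rw [TensorProduct.add_tmul, map_add, map_add, hx, hy]
      split_ifs <;> simp
  have key2 : ∀ (y : R) (i : ℤ), (LinearMap.lTensor R
      ((TensorProduct.rid k k[T;T⁻¹]).toLinearMap ∘ₗ LinearMap.lTensor k[T;T⁻¹] (lc k j)))
      (y ⊗ₜ[k] (CoalgebraStruct.comul (R := k) (T i : k[T;T⁻¹]))) =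
      if i = j then y ⊗ₜ[k] (T i : k[T;T⁻¹]) else 0 := by
    intro y i
    rw [LinearMap.lTensor_tmul, LinearMap.comp_apply, LaurentPolynomial.comul_T,
      LinearMap.lTensor_tmul, lc_T]
    split_ifs <;> simp
  simp only [key1, key2, Finset.sum_ite_eq', Finset.mem_insert_self, if_true] at h2
  exact h2

/-- A point moved by `λ(u)`, on a weight component. -/
theorem mv_evU_wt (lam : A →ₐc[k] k[T;T⁻¹]) (p : R →ₐ[k] C) (u : Cˣ) (j : ℤ) (f : R) :
    mv p (Pt.mk ((evU k u).comp (lam : A →ₐ[k] k[T;T⁻¹]))) (wt lam j f) =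
      p (wt lam j f) * ((u ^ j : Cˣ) : C) := by
  rw [mv_apply]
  have h1 : ∀ t : R ⊗[k] A, Algebra.TensorProduct.lift p
      (Pt.mk ((evU k u).comp (lam : A →ₐ[k] k[T;T⁻¹]))).hom (fun _ _ => Commute.all _ _) t =
      Algebra.TensorProduct.lift p (evU k u) (fun _ _ => Commute.all _ _)
        (TensorProduct.map LinearMap.id (lam : A →ₗ[k] k[T;T⁻¹]) t) := by
    intro t
    induction t using TensorProduct.induction_on with
    | zero => simp
    | tmul x a =>
      simp only [Algebra.TensorProduct.lift_tmul, TensorProduct.map_tmul]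
      rfl
    | add x y hx hy => simp only [map_add, hx, hy]
  rw [h1]
  change Algebra.TensorProduct.lift p (evU k u) _ (rho lam (wt lam j f)) = _
  rw [rho_wt, Algebra.TensorProduct.lift_tmul, evU_T]

/-- The coefficients of the orbit of a rational point. -/
theorem coeff_lamOrbit (lam : A →ₐc[k] k[T;T⁻¹]) (p : R →ₐ[k] k) (j : ℤ) (f : R) :
    (GLin.lamOrbit k A lam p f).coeff j = p (wt lam j f) := by
  have h1 : ∀ t : R ⊗[k] A, (lam ((Algebra.TensorProduct.lid k A)
      (Algebra.TensorProduct.map p (AlgHom.id k A) t))).coeff j =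
      p (tc k R j (TensorProduct.map LinearMap.id (lam : A →ₗ[k] k[T;T⁻¹]) t)) := by
    intro t
    induction t using TensorProduct.induction_on with
    | zero => simp
    | tmul x a =>
      simp only [Algebra.TensorProduct.map_tmul, Algebra.TensorProduct.lid_tmul, AlgHom.id_apply,
        map_smul, TensorProduct.map_tmul, tc_tmul, LinearMap.id_apply]
      rw [AddMonoidAlgebra.coeff_smul, Finsupp.smul_apply, smul_eq_mul, smul_eq_mul, mul_comm]
      rfl
    | add x y hx hy =>
      simp only [map_add, AddMonoidAlgebra.coeff_add, Finsupp.add_apply, hx, hy]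
  exact h1 _

/-- Weight components of a stable ideal. -/
theorem wt_mem {I : Ideal R} (hI : IsStable (k := k) A I) (lam : A →ₐc[k] k[T;T⁻¹]) (j : ℤ) {f : R}
    (hf : f ∈ I) : wt lam j f ∈ I := by
  have h1 : rho lam f ∈ I.map (Algebra.TensorProduct.includeLeft : R →ₐ[k] R ⊗[k] k[T;T⁻¹]) := by
    have h2 : I.map (Algebra.TensorProduct.includeLeft : R →ₐ[k] R ⊗[k] A) ≤
        (I.map (Algebra.TensorProduct.includeLeft : R →ₐ[k] R ⊗[k] k[T;T⁻¹])).comap
          (Algebra.TensorProduct.map (AlgHom.id k R) (lam : A →ₐ[k] k[T;T⁻¹])).toRingHom := by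
      rw [Ideal.map_le_iff_le_comap]
      intro r hr
      rw [Ideal.mem_comap, Ideal.mem_comap]
      change Algebra.TensorProduct.map (AlgHom.id k R) (lam : A →ₐ[k] k[T;T⁻¹]) (r ⊗ₜ[k] 1) ∈ _
      rw [Algebra.TensorProduct.map_tmul, map_one]
      exact Ideal.mem_map_of_mem _ hr
    exact h2 (hI f hf)
  have h3 : ∀ t ∈ I.map (Algebra.TensorProduct.includeLeft : R →ₐ[k] R ⊗[k] k[T;T⁻¹]),
      ∀ s, tc k R j (s * t) ∈ I := by
    intro t ht
    refine Submodule.span_induction ?_ ?_ ?_ ?_ ht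
    · rintro _ ⟨r, hr, rfl⟩ s
      change tc k R j (s * (r ⊗ₜ[k] 1)) ∈ I
      rw [tc_mul_tmul_one]
      exact I.mul_mem_left _ hr
    · intro s
      rw [mul_zero, map_zero]
      exact I.zero_mem
    · intro x y _ _ hx hy s
      rw [mul_add, map_add]
      exact I.add_mem (hx s) (hy s)
    · intro a x _ hx s
      rw [smul_eq_mul, ← mul_assoc]
      exact hx (s * a)
  have h4 := h3 _ h1 1
  rw [one_mul] at h4
  exact h4

end Wt

end K687
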